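import Mathlib
import Cfsg.Prelude.Def_KGroupFacts

/-!
The universal central extension attached to a free presentation and the Schur multiplier.
-/

namespace Cfsg.Agent.Grp.SchurM

open scoped commutatorElement

universe u v w

/-- In a central extension of a finite group the derived group is finite. -/
theorem finite_commutator {Γ : Type u} {Q : Type v} [Group Γ] [Group Q] [Finite Q] (σ : Γ →* Q)
    (hc : σ.ker ≤ Subgroup.center Γ) : Finite (commutator Γ) := by
  have hfin : (commutatorSet Γ).Finite := by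
    refine Set.Finite.subset (Set.finite_range fun p : Q × Q => ⁅Function.invFun σ p.1, Function.invFun σ p.2⁆) ?_
    rintro _ ⟨x, y, rfl⟩
    refine ⟨(σ x, σ y), ?_⟩
    obtain ⟨z, hz, hzx⟩ : ∃ z ∈ Subgroup.center Γ, x = Function.invFun σ (σ x) * z :=
      ⟨(Function.invFun σ (σ x))⁻¹ * x, hc (by
        rw [MonoidHom.mem_ker, map_mul, map_inv, Function.invFun_eq (f := σ) ⟨x, rfl⟩, inv_mul_cancel]), by group⟩
    obtain ⟨t, ht, hty⟩ : ∃ t ∈ Subgroup.center Γ, y = Function.invFun σ (σ y) * t :=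
      ⟨(Function.invFun σ (σ y))⁻¹ * y, hc (by
        rw [MonoidHom.mem_ker, map_mul, map_inv, Function.invFun_eq (f := σ) ⟨y, rfl⟩, inv_mul_cancel]), by group⟩
    conv_rhs => rw [hzx, hty]
    simp only [commutatorElement_def, mul_inv_rev]
    have e1 := Subgroup.mem_center_iff.mp hz
    have e2 := Subgroup.mem_center_iff.mp ht
    set a := Function.invFun σ (σ x)
    set b := Function.invFun σ (σ y)
    symm
    calc a * z * (b * t) * (z⁻¹ * a⁻¹) * (t⁻¹ * b⁻¹) = a * (z * (b * t)) * z⁻¹ * a⁻¹ * (t⁻¹ * b⁻¹) := by group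
      _ = a * ((b * t) * z) * z⁻¹ * a⁻¹ * (t⁻¹ * b⁻¹) := by rw [e1]
      _ = a * b * (t * a⁻¹) * t⁻¹ * b⁻¹ := by group
      _ = a * b * (a⁻¹ * t) * t⁻¹ * b⁻¹ := by rw [e2]
      _ = a * b * a⁻¹ * b⁻¹ := by group
  have : Finite (commutatorSet Γ) := hfin
  infer_instance

theorem normal_of_central {G : Type u} [Group G] {H : Subgroup G} (h : H ≤ Subgroup.center G) : H.Normal :=
  ⟨fun n hn g => by rwa [Subgroup.mem_center_iff.mp (h hn) g, mul_inv_cancel_right]⟩

theorem commutator_eq_map {E : Type u} {Δ : Type v} [Group E] [Group Δ] (β : E →* Δ) (Z : Subgroup Δ)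
    (hZ : Z ≤ Subgroup.center Δ) (htop : β.range ⊔ Z = ⊤) : commutator Δ = (commutator E).map β := by
  refine le_antisymm ?_ ?_
  · rw [commutator_def, commutator_def, Subgroup.map_commutator, ← MonoidHom.range_eq_map, Subgroup.commutator_le]
    intro a _ b _
    have hn : Z ≤ Subgroup.center Δ := hZ
    have := normal_of_central hZ
    obtain ⟨a', ha', z, hz, rfl⟩ := Subgroup.mem_sup_of_normal_right.mp (htop ▸ Subgroup.mem_top a)
    obtain ⟨b', hb', t, ht, rfl⟩ := Subgroup.mem_sup_of_normal_right.mp (htop ▸ Subgroup.mem_top b)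
    have e1 := Subgroup.mem_center_iff.mp (hn hz)
    have e2 := Subgroup.mem_center_iff.mp (hn ht)
    have e : ⁅a' * z, b' * t⁆ = ⁅a', b'⁆ := by
      simp only [commutatorElement_def, mul_inv_rev]
      calc a' * z * (b' * t) * (z⁻¹ * a'⁻¹) * (t⁻¹ * b'⁻¹) = a' * (z * (b' * t)) * z⁻¹ * a'⁻¹ * (t⁻¹ * b'⁻¹) := by group
        _ = a' * ((b' * t) * z) * z⁻¹ * a'⁻¹ * (t⁻¹ * b'⁻¹) := by rw [e1]
        _ = a' * b' * (t * a'⁻¹) * t⁻¹ * b'⁻¹ := by group
        _ = a' * b' * (a'⁻¹ * t) * t⁻¹ * b'⁻¹ := by rw [e2]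
        _ = a' * b' * a'⁻¹ * b'⁻¹ := by group
    rw [e]
    exact Subgroup.commutator_mem_commutator ha' hb'
  · rw [commutator_def, commutator_def, Subgroup.map_commutator]
    exact Subgroup.commutator_mono le_top le_top

variable {X : Type u} {Q : Type u} [Group Q] (f : FreeGroup X →* Q)

/-- The commutator of the free group with the relations. -/
abbrev relComm : Subgroup (FreeGroup X) := ⁅(⊤ : Subgroup (FreeGroup X)), f.ker⁆

/-- The universal central extension of the presentation. -/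
abbrev UE : Type u := FreeGroup X ⧸ relComm f

theorem relComm_le_ker : relComm f ≤ f.ker := Subgroup.commutator_le_right ⊤ f.ker

/-- The projection. -/
def rho : UE f →* Q := QuotientGroup.lift (relComm f) f (relComm_le_ker f)

/-- The relations. -/
def rel : Subgroup (UE f) := (rho f).ker

/-- The multiplier. -/
def mult : Subgroup (UE f) := rel f ⊓ commutator (UE f)

@[simp] theorem rho_mk (x : FreeGroup X) : rho f (QuotientGroup.mk' _ x) = f x := rfl

theorem rho_surjective (hf : Function.Surjective f) : Function.Surjective (rho f) := fun q => by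
  obtain ⟨x, rfl⟩ := hf q
  exact ⟨QuotientGroup.mk' _ x, rfl⟩

theorem rel_le_center : rel f ≤ Subgroup.center (UE f) := by
  intro r hr
  obtain ⟨x, rfl⟩ := QuotientGroup.mk'_surjective (relComm f) r
  rw [Subgroup.mem_center_iff]
  intro g
  obtain ⟨y, rfl⟩ := QuotientGroup.mk'_surjective (relComm f) g
  have hx : x ∈ f.ker := hr
  rw [← commutatorElement_eq_one_iff_mul_comm, ← map_commutatorElement]
  exact (QuotientGroup.eq_one_iff _).mpr (Subgroup.commutator_mem_commutator (Subgroup.mem_top y) hx)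

theorem mult_le_rel : mult f ≤ rel f := inf_le_left

theorem mult_le_center : mult f ≤ Subgroup.center (UE f) := (mult_le_rel f).trans (rel_le_center f)

instance : CommGroup (mult f) :=
  { (inferInstance : Group (mult f)) with
    mul_comm := fun a b => Subtype.ext (Subgroup.mem_center_iff.mp (mult_le_center f b.2) a) }

theorem finite_mult [Finite Q] : Finite (mult f) := by
  have := finite_commutator (rho f) (rel_le_center f)
  exact Finite.of_injective (Subgroup.inclusion (inf_le_right : mult f ≤ commutator (UE f))) (Subgroup.inclusion_injective _)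

/-- Universality among central extensions. -/
theorem exists_lift {Δ : Type v} [Group Δ] {Q' : Type w} [Group Q'] (g : Q →* Q') (τ : Δ →* Q')
    (hτ : Function.Surjective τ) (hc : τ.ker ≤ Subgroup.center Δ) :
    ∃ β : UE f →* Δ, τ.comp β = g.comp (rho f) := by
  choose s hs using hτ
  set φ : FreeGroup X →* Δ := FreeGroup.lift fun x => s (g (f (FreeGroup.of x)))
  have hφ : τ.comp φ = g.comp f := by
    ext x
    simp [φ, hs]
  have hker : relComm f ≤ φ.ker := by
    rw [Subgroup.commutator_le]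
    intro a _ r hr
    have h1 : φ r ∈ τ.ker := by
      rw [MonoidHom.mem_ker, ← MonoidHom.comp_apply, hφ, MonoidHom.comp_apply, MonoidHom.mem_ker.mp hr, map_one]
    rw [MonoidHom.mem_ker, map_commutatorElement, commutatorElement_eq_one_iff_mul_comm]
    exact Subgroup.mem_center_iff.mp (hc h1) (φ a)
  refine ⟨QuotientGroup.lift _ φ hker, MonoidHom.ext fun e => ?_⟩
  obtain ⟨x, rfl⟩ := QuotientGroup.mk'_surjective (relComm f) e
  exact DFunLike.congr_fun hφ x

theorem range_sup_ker {Δ : Type v} [Group Δ] (hf : Function.Surjective f) (τ : Δ →* Q) (β : UE f →* Δ)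
    (hβ : τ.comp β = rho f) : β.range ⊔ τ.ker = ⊤ := by
  rw [eq_top_iff]
  intro d _
  obtain ⟨e, he⟩ := rho_surjective f hf (τ d)
  have h1 : (β e)⁻¹ * d ∈ τ.ker := by
    rw [MonoidHom.mem_ker, map_mul, map_inv, ← MonoidHom.comp_apply, hβ, he, inv_mul_cancel]
  have h2 := Subgroup.mul_mem_sup (S := β.range) ⟨e, rfl⟩ h1
  rwa [mul_inv_cancel_left] at h2

/-- The multiplier covers the kernel meet the derived group of every central extension. -/
theorem map_mult {Δ : Type v} [Group Δ] (hf : Function.Surjective f) (τ : Δ →* Q) (hc : τ.ker ≤ Subgroup.center Δ)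
    (β : UE f →* Δ) (hβ : τ.comp β = rho f) : (mult f).map β = τ.ker ⊓ commutator Δ := by
  have hcomm := commutator_eq_map β τ.ker hc (range_sup_ker f hf τ β hβ)
  refine le_antisymm ?_ ?_
  · rintro _ ⟨m, hm, rfl⟩
    refine ⟨?_, hcomm ▸ Subgroup.mem_map_of_mem β hm.2⟩
    show τ (β m) = 1
    rw [← MonoidHom.comp_apply, hβ]
    exact hm.1
  · rintro d ⟨hd, hd'⟩
    rw [hcomm] at hd'
    obtain ⟨e, he, rfl⟩ := hd'
    refine ⟨e, ⟨?_, he⟩, rfl⟩
    show rho f e = 1
    rw [← hβ]
    exact hd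

theorem lift_surjective {Δ : Type v} [Group Δ] (hf : Function.Surjective f) (τ : Δ →* Q)
    (hτ : Cfsg.IsStemExtension τ) (β : UE f →* Δ) (hβ : τ.comp β = rho f) : Function.Surjective β := by
  rw [← MonoidHom.range_eq_top, ← range_sup_ker f hf τ β hβ]
  refine le_antisymm le_sup_left (sup_le le_rfl fun d hd => ?_)
  have h1 := hτ.2.2 hd
  rw [commutator_eq_map β τ.ker hτ.2.1 (range_sup_ker f hf τ β hβ)] at h1
  obtain ⟨e, -, rfl⟩ := h1
  exact ⟨e, rfl⟩

/-- The kernel of a stem extension is an image of the multiplier. -/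
theorem exists_surjective {Δ : Type v} [Group Δ] (hf : Function.Surjective f) (τ : Δ →* Q)
    (hτ : Cfsg.IsStemExtension τ) : ∃ π : mult f →* τ.ker, Function.Surjective π := by
  obtain ⟨β, hβ⟩ := exists_lift f (MonoidHom.id Q) τ hτ.1 hτ.2.1
  rw [MonoidHom.id_comp] at hβ
  have h := map_mult f hf τ hτ.2.1 β hβ
  rw [inf_eq_left.mpr hτ.2.2] at h
  refine ⟨(β.comp (mult f).subtype).codRestrict τ.ker fun m => (le_of_eq h) (Subgroup.mem_map_of_mem β m.2), fun k => ?_⟩
  obtain ⟨m, hm, hme⟩ : (k : Δ) ∈ (mult f).map β := (ge_of_eq h) k.2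
  exact ⟨⟨m, hm⟩, Subtype.ext hme⟩

/-- Exponent sums. -/
noncomputable def deg : UE f →* Multiplicative (X →₀ ℤ) :=
  QuotientGroup.lift (relComm f) (FreeGroup.lift fun x => Multiplicative.ofAdd (Finsupp.single x 1)) (by
    rw [Subgroup.commutator_le]
    intro a _ b _
    rw [MonoidHom.mem_ker, map_commutatorElement, commutatorElement_eq_one_iff_mul_comm, mul_comm])

theorem mem_commutator_iff_deg (e : UE f) : e ∈ commutator (UE f) ↔ deg f e = 1 := by
  refine ⟨fun h => Abelianization.commutator_subset_ker (deg f) h, fun h => ?_⟩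
  let g : X → Additive (Abelianization (UE f)) := fun x =>
    Additive.ofMul (Abelianization.of (QuotientGroup.mk' (relComm f) (FreeGroup.of x)))
  let ψ : (X →₀ ℤ) →+ Additive (Abelianization (UE f)) :=
    Finsupp.liftAddHom fun x => zmultiplesHom (Additive (Abelianization (UE f))) (g x)
  let ψ' : Multiplicative (X →₀ ℤ) →* Abelianization (UE f) := AddMonoidHom.toMultiplicativeLeft ψ
  have hcomp : ψ'.comp (deg f) = Abelianization.of := by
    refine QuotientGroup.monoidHom_ext _ (FreeGroup.ext_hom _ _ fun x => ?_)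
    simp [ψ', ψ, g, deg]
  have h2 := DFunLike.congr_fun hcomp e
  rw [MonoidHom.comp_apply, h, map_one] at h2
  exact (QuotientGroup.eq_one_iff e).mp h2.symm

theorem mem_mult_iff (e : UE f) : e ∈ mult f ↔ e ∈ rel f ∧ deg f e = 1 := by
  rw [mult, Subgroup.mem_inf, mem_commutator_iff_deg]

/-- A complement of the multiplier inside the relations, below a given supplement. -/
theorem exists_complement [Finite X] (K : Subgroup (UE f)) (hK : K ≤ rel f) (hsup : K ⊔ mult f = rel f) :
    ∃ N : Subgroup (UE f), N ≤ K ∧ N ⊓ mult f = ⊥ ∧ N ⊔ mult f = rel f := by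
  let _ : CommGroup K := { (inferInstance : Group K) with
    mul_comm := fun a b => Subtype.ext (Subgroup.mem_center_iff.mp (rel_le_center f (hK b.2)) a) }
  let D : Additive K →ₗ[ℤ] (X →₀ ℤ) := (MonoidHom.toAdditiveLeft ((deg f).comp K.subtype)).toIntLinearMap
  have hfree : Module.Free ℤ (LinearMap.range D) :=
    Module.Free.of_basis (Submodule.basisOfPid Finsupp.basisSingleOne (LinearMap.range D)).2
  obtain ⟨s, hs⟩ := Module.projective_lifting_property D.rangeRestrict LinearMap.id D.surjective_rangeRestrict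
  have hs' : ∀ y, D (s y) = y := fun y => congrArg Subtype.val (LinearMap.congr_fun hs y)
  have hN : ∀ e, e ∈ (AddSubgroup.toSubgroup' (LinearMap.range s).toAddSubgroup).map K.subtype ↔
      ∃ y, ((Additive.toMul (s y) : K) : UE f) = e := by
    intro e
    constructor
    · rintro ⟨k, ⟨y, hy⟩, rfl⟩
      exact ⟨y, by rw [hy]; rfl⟩
    · rintro ⟨y, rfl⟩
      exact ⟨Additive.toMul (s y), ⟨y, rfl⟩, rfl⟩
  refine ⟨(AddSubgroup.toSubgroup' (LinearMap.range s).toAddSubgroup).map K.subtype, Subgroup.map_subtype_le _, ?_, ?_⟩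
  · rw [eq_bot_iff]
    intro e ⟨he, hem⟩
    obtain ⟨y, rfl⟩ := (hN _).mp he
    have h1 : D (s y) = 0 := congrArg Multiplicative.toAdd ((mem_mult_iff f _).mp hem).2
    rw [hs'] at h1
    rw [show y = 0 from Subtype.ext h1, map_zero]
    exact Subgroup.one_mem _
  · refine le_antisymm (sup_le ((Subgroup.map_subtype_le _).trans hK) (mult_le_rel f)) ?_
    rw [← hsup]
    refine sup_le (fun e he => ?_) le_sup_right
    set k : Additive K := Additive.ofMul ⟨e, he⟩
    set y : LinearMap.range D := D.rangeRestrict k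
    have h1 : D (k - s y) = 0 := by rw [map_sub, hs']; exact sub_self (D k)
    have h2 : ((Additive.toMul (k - s y) : K) : UE f) ∈ mult f :=
      (mem_mult_iff f _).mpr ⟨hK (Additive.toMul (k - s y)).2, congrArg Multiplicative.ofAdd h1⟩
    have h3 := Subgroup.mul_mem_sup ((hN _).mpr ⟨y, rfl⟩) h2
    rwa [← Subgroup.coe_mul, ← toMul_add, add_sub_cancel, toMul_ofMul] at h3

section Cover

variable [Finite Q] (N : Subgroup (UE f)) (hN : N ≤ rel f) (hinf : N ⊓ mult f = ⊥) (hsup : N ⊔ mult f = rel f)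

include hN in
theorem normal_of_le_rel : N.Normal := normal_of_central (hN.trans (rel_le_center f))

include hN hinf hsup in
/-- The quotient by a complement is a covering group. -/
theorem cover (hf : Function.Surjective f) [N.Normal] :
    Finite (UE f ⧸ N) ∧ Cfsg.IsStemExtension (QuotientGroup.lift N (rho f) hN) ∧
      Nonempty ((QuotientGroup.lift N (rho f) hN).ker ≃* mult f) := by
  set σ := QuotientGroup.lift N (rho f) hN
  have hker : σ.ker = (mult f).map (QuotientGroup.mk' N) := by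
    refine le_antisymm (fun x hx => ?_) ?_
    · obtain ⟨e, rfl⟩ := QuotientGroup.mk'_surjective N x
      have he : e ∈ N ⊔ mult f := hsup ▸ hx
      obtain ⟨a, ha, b, hb, rfl⟩ := Subgroup.mem_sup_of_normal_left.mp he
      refine ⟨b, hb, ?_⟩
      rw [map_mul, show QuotientGroup.mk' N a = 1 from (QuotientGroup.eq_one_iff a).mpr ha, one_mul]
    · rintro _ ⟨m, hm, rfl⟩
      exact hm.1
  have hstem : Cfsg.IsStemExtension σ := by
    refine ⟨fun q => ?_, ?_, ?_⟩
    · obtain ⟨e, rfl⟩ := rho_surjective f hf q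
      exact ⟨QuotientGroup.mk' N e, rfl⟩
    · rw [hker]
      rintro _ ⟨m, hm, rfl⟩
      rw [Subgroup.mem_center_iff]
      intro g
      obtain ⟨e, rfl⟩ := QuotientGroup.mk'_surjective N g
      rw [← map_mul, ← map_mul, Subgroup.mem_center_iff.mp (mult_le_center f hm) e]
    · rw [hker, commutator_def, ← Subgroup.map_top_of_surjective (QuotientGroup.mk' N) (QuotientGroup.mk'_surjective N),
        ← Subgroup.map_commutator]
      exact Subgroup.map_mono inf_le_right
  have e : mult f ≃* σ.ker := by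
    refine MulEquiv.ofBijective (((QuotientGroup.mk' N).comp (mult f).subtype).codRestrict σ.ker
      fun m => hker ▸ Subgroup.mem_map_of_mem _ m.2) ⟨?_, fun k => ?_⟩
    · rw [injective_iff_map_eq_one]
      intro m hm
      have h1 : (m : UE f) ∈ N ⊓ mult f := ⟨(QuotientGroup.eq_one_iff _).mp (congrArg Subtype.val hm), m.2⟩
      rw [hinf, Subgroup.mem_bot] at h1
      exact Subtype.ext h1
    · obtain ⟨m, hm, hme⟩ : (k : UE f ⧸ N) ∈ (mult f).map (QuotientGroup.mk' N) := hker ▸ k.2
      exact ⟨⟨m, hm⟩, Subtype.ext hme⟩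
  refine ⟨?_, hstem, ⟨e.symm⟩⟩
  have := finite_mult f
  have : Finite σ.ker := Finite.of_equiv _ e.toEquiv
  have : Finite ((UE f ⧸ N) ⧸ σ.ker) := Finite.of_equiv _ (QuotientGroup.quotientKerEquivOfSurjective σ hstem.1).symm.toEquiv
  exact Finite.of_equiv _ (Subgroup.groupEquivQuotientProdSubgroup (s := σ.ker)).symm

end Cover

theorem hasSchurMultiplier_mult [Finite X] [Finite Q] (hf : Function.Surjective f) :
    Cfsg.HasSchurMultiplier Q (mult f) := by
  obtain ⟨N, hN, hinf, hsup⟩ := exists_complement f (rel f) le_rfl (sup_eq_left.mpr (mult_le_rel f))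
  have := normal_of_le_rel f N hN
  obtain ⟨h1, h2, h3⟩ := cover f N hN hinf hsup hf
  exact ⟨⟨_, inferInstance, h1, _, h2, h3⟩, fun Δ _ _ τ hτ => exists_surjective f hf τ hτ⟩

/-- Uniqueness of the multiplier. -/
theorem equiv_mult [Finite X] [Finite Q] (hf : Function.Surjective f) {A : Type v} [CommGroup A]
    (hA : Cfsg.HasSchurMultiplier Q A) : Nonempty (A ≃* mult f) := by
  obtain ⟨⟨Γ, _, _, σ, hσ, ⟨e⟩⟩, hmax⟩ := hA
  obtain ⟨π₁, hπ₁⟩ := exists_surjective f hf σ hσ
  obtain ⟨⟨Γ', _, _, σ', hσ', ⟨e'⟩⟩, -⟩ := hasSchurMultiplier_mult f hf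
  obtain ⟨π₂, hπ₂⟩ := hmax Γ' σ' hσ'
  have := finite_mult f
  have : Finite A := Finite.of_equiv _ e.toEquiv
  have hs : Function.Surjective (e'.toMonoidHom.comp π₂) := e'.surjective.comp hπ₂
  have hle : Nat.card A ≤ Nat.card (mult f) := Nat.card_le_card_of_surjective _ (e.surjective.comp hπ₁)
  have hge : Nat.card (mult f) ≤ Nat.card A := Nat.card_le_card_of_surjective _ hs
  exact ⟨MulEquiv.ofBijective _ ((Nat.bijective_iff_surjective_and_card _).mpr ⟨hs, le_antisymm hle hge⟩)⟩

/-- The standard presentation. -/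
noncomputable abbrev std (Q : Type u) [Group Q] : FreeGroup Q →* Q := FreeGroup.lift id

theorem std_surjective (Q : Type u) [Group Q] : Function.Surjective (std Q) :=
  fun q => ⟨FreeGroup.of q, FreeGroup.lift_apply_of ..⟩

/-- The multiplier only depends on the group. -/
theorem hasSchurMultiplier_of_equiv [Finite X] [Finite Q] (hf : Function.Surjective f) {A : Type v} [CommGroup A]
    (e : A ≃* mult f) : Cfsg.HasSchurMultiplier Q A := by
  obtain ⟨⟨Γ, i1, i2, σ, hσ, ⟨e'⟩⟩, hmax⟩ := hasSchurMultiplier_mult f hf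
  refine ⟨⟨Γ, i1, i2, σ, hσ, ⟨e'.trans e.symm⟩⟩, fun Δ _ _ τ hτ => ?_⟩
  obtain ⟨π, hπ⟩ := hmax Δ τ hτ
  exact ⟨π.comp e.toMonoidHom, hπ.comp e.surjective⟩

theorem hasCyclic_one_iff [Finite X] [Finite Q] (hf : Function.Surjective f) :
    Cfsg.HasCyclicSchurMultiplier Q 1 ↔ mult f = ⊥ := by
  constructor
  · intro h
    obtain ⟨e⟩ := equiv_mult f hf h
    refine Subgroup.eq_bot_iff_card _ |>.mpr ?_
    rw [← Nat.card_congr e.toEquiv]
    simp
  · intro h
    have hu : Subsingleton (mult f) := by rw [h]; infer_instance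
    let _ : Unique (mult f) := ⟨⟨1⟩, fun a => Subsingleton.elim _ _⟩
    let _ : Unique (Multiplicative (ZMod 1)) := ⟨⟨1⟩, fun a => Subsingleton.elim _ _⟩
    exact hasSchurMultiplier_of_equiv f hf MulEquiv.ofUnique

/-- Only finite checks on stem extensions are needed. -/
theorem hasCyclic_one_of_forall [Finite Q]
    (h : ∀ (Γ : Type u) [Group Γ] [Finite Γ] (σ : Γ →* Q), Cfsg.IsStemExtension σ → σ.ker = ⊥) :
    Cfsg.HasCyclicSchurMultiplier Q 1 := by
  refine (hasCyclic_one_iff (std Q) (std_surjective Q)).mpr ?_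
  obtain ⟨⟨Γ, _, _, σ, hσ, ⟨e⟩⟩, -⟩ := hasSchurMultiplier_mult (std Q) (std_surjective Q)
  refine Subgroup.eq_bot_iff_card _ |>.mpr ?_
  rw [← Nat.card_congr e.toEquiv, h Γ σ hσ, Subgroup.card_bot]

/-- Trivial multiplier kills the derived part of every central kernel. -/
theorem inf_commutator_eq_bot [Finite Q] (h : Cfsg.HasCyclicSchurMultiplier Q 1) {Δ : Type v} [Group Δ]
    (τ : Δ →* Q) (hτ : Function.Surjective τ) (hc : τ.ker ≤ Subgroup.center Δ) : τ.ker ⊓ commutator Δ = ⊥ := by
  obtain ⟨β, hβ⟩ := exists_lift (std Q) (MonoidHom.id Q) τ hτ hc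
  rw [← map_mult (std Q) (std_surjective Q) τ hc β (by rwa [MonoidHom.id_comp] at hβ),
    (hasCyclic_one_iff (std Q) (std_surjective Q)).mp h, Subgroup.map_bot]

end Cfsg.Agent.Grp.SchurM
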