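import Mathlib
import Cfsg.Agent.Lib.Grp.SchurM.Basic

/-!
Central extensions given by bimultiplicative maps; commutator subgroups of two-generator central extensions.
-/

namespace Cfsg.Agent.Grp.SchurM

open scoped commutatorElement

universe u v w

/-- The central extension defined by a bimultiplicative map. -/
@[ext] structure BExt {G : Type u} {C : Type v} [CommGroup G] [CommGroup C] (b : G →* G →* C) where
  /-- central coordinate -/
  c : C
  /-- quotient coordinate -/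
  g : G

namespace BExt

variable {G : Type u} {C : Type v} [CommGroup G] [CommGroup C] {b : G →* G →* C}

instance : Mul (BExt b) := ⟨fun x y => ⟨x.c * y.c * b x.g y.g, x.g * y.g⟩⟩
instance : One (BExt b) := ⟨⟨1, 1⟩⟩
instance : Inv (BExt b) := ⟨fun x => ⟨x.c⁻¹ * b x.g x.g, x.g⁻¹⟩⟩

theorem mul_def (x y : BExt b) : x * y = ⟨x.c * y.c * b x.g y.g, x.g * y.g⟩ := rfl
theorem one_def : (1 : BExt b) = ⟨1, 1⟩ := rfl
theorem inv_def (x : BExt b) : x⁻¹ = ⟨x.c⁻¹ * b x.g x.g, x.g⁻¹⟩ := rfl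

instance : Group (BExt b) := Group.ofLeftAxioms
  (fun x y z => by
    simp only [mul_def, map_mul, MonoidHom.mul_apply]
    refine BExt.ext ?_ (mul_assoc _ _ _)
    dsimp only
    simp only [mul_assoc, mul_comm, mul_left_comm])
  (fun x => by simp [mul_def, one_def])
  (fun x => by
    simp only [mul_def, inv_def, one_def, map_inv, MonoidHom.inv_apply]
    refine BExt.ext ?_ (inv_mul_cancel _)
    simp [mul_comm, mul_left_comm])

/-- The projection. -/
def proj (b : G →* G →* C) : BExt b →* G where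
  toFun x := x.g
  map_one' := rfl
  map_mul' _ _ := rfl

theorem proj_surjective : Function.Surjective (proj b) := fun g => ⟨⟨1, g⟩, rfl⟩

theorem ker_le_center : (proj b).ker ≤ Subgroup.center (BExt b) := by
  intro x hx
  have h : x.g = 1 := hx
  rw [Subgroup.mem_center_iff]
  intro y
  simp [mul_def, h, mul_comm]

theorem commutator_mk (g h : G) :
    ⁅(⟨1, g⟩ : BExt b), (⟨1, h⟩ : BExt b)⁆ = (⟨b g h * (b h g)⁻¹, 1⟩ : BExt b) := by
  rw [commutatorElement_def, eq_comm, eq_mul_inv_iff_mul_eq, eq_mul_inv_iff_mul_eq]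
  simp [mul_def, mul_comm g h]

theorem mk_mem (g h : G) : (⟨b g h * (b h g)⁻¹, 1⟩ : BExt b) ∈ (proj b).ker ⊓ commutator (BExt b) := by
  refine ⟨rfl, ?_⟩
  rw [← commutator_mk, commutator_def]
  exact Subgroup.commutator_mem_commutator (Subgroup.mem_top _) (Subgroup.mem_top _)

end BExt

theorem not_trivial_of_bilinear {G : Type u} [CommGroup G] [Finite G] {C : Type v} [CommGroup C] (b : G →* G →* C)
    {g h : G} (hne : b g h ≠ b h g) : ¬ Cfsg.HasCyclicSchurMultiplier G 1 := by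
  intro hG
  have h1 := BExt.mk_mem (b := b) g h
  rw [inf_commutator_eq_bot hG (BExt.proj b) BExt.proj_surjective BExt.ker_le_center, Subgroup.mem_bot] at h1
  exact hne (mul_inv_eq_one.mp (congrArg BExt.c h1))

section TwoGen

variable {Γ : Type u} {Q : Type v} [Group Γ] [Group Q] {σ : Γ →* Q}

theorem closure_sup_ker (S : Set Γ) (hgen : Subgroup.closure (σ '' S) = ⊤) : Subgroup.closure S ⊔ σ.ker = ⊤ := by
  rw [← Subgroup.comap_map_eq, MonoidHom.map_closure, hgen, Subgroup.comap_top]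

/-- The derived group of a two-generator central extension lies in any cyclic normalised commutator. -/
theorem commutator_le_zpowers (hc : σ.ker ≤ Subgroup.center Γ) {a b : Γ}
    (hgen : Subgroup.closure ({σ a, σ b} : Set Q) = ⊤)
    (ha : a * ⁅a, b⁆ * a⁻¹ ∈ Subgroup.zpowers ⁅a, b⁆) (hb : b * ⁅a, b⁆ * b⁻¹ ∈ Subgroup.zpowers ⁅a, b⁆)
    (ha' : a⁻¹ * ⁅a, b⁆ * a ∈ Subgroup.zpowers ⁅a, b⁆) (hb' : b⁻¹ * ⁅a, b⁆ * b ∈ Subgroup.zpowers ⁅a, b⁆) :
    commutator Γ ≤ Subgroup.zpowers ⁅a, b⁆ := by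
  set N := Subgroup.zpowers ⁅a, b⁆
  have htop := closure_sup_ker (σ := σ) ({a, b} : Set Γ) (by rw [Set.image_pair]; exact hgen)
  have hmem : ∀ x, x * ⁅a, b⁆ * x⁻¹ ∈ N → x⁻¹ * ⁅a, b⁆ * x ∈ N → x ∈ Subgroup.normalizer (N : Set Γ) := by
    intro x h1 h2
    have key : ∀ y : Γ, y * ⁅a, b⁆ * y⁻¹ ∈ N → ∀ m ∈ N, y * m * y⁻¹ ∈ N := by
      rintro y hy _ ⟨k, rfl⟩
      have := N.zpow_mem hy k
      rwa [conj_zpow] at this
    refine Subgroup.mem_normalizer_iff.mpr fun m => ⟨key x h1 m, fun hm => ?_⟩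
    have := key x⁻¹ (by simpa using h2) _ hm
    simpa [mul_assoc] using this
  have hn : N.Normal := by
    rw [← Subgroup.normalizer_eq_top_iff, eq_top_iff, ← htop]
    refine sup_le ((Subgroup.closure_le _).mpr ?_) ?_
    · rintro x (rfl | rfl)
      · exact hmem _ ha ha'
      · exact hmem _ hb hb'
    · exact hc.trans fun x hx => Subgroup.mem_normalizer_iff.mpr fun m => by
        rw [(Subgroup.mem_center_iff.mp hx m).symm, mul_inv_cancel_right]
  set f := QuotientGroup.mk' N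
  have hab : f a * f b = f b * f a := by
    rw [← commutatorElement_eq_one_iff_mul_comm, ← map_commutatorElement]
    exact (QuotientGroup.eq_one_iff _).mpr (Subgroup.mem_zpowers _)
  have hcen : ∀ x ∈ σ.ker, ∀ y, f y * f x = f x * f y := fun x hx y => by
    rw [← map_mul, ← map_mul, Subgroup.mem_center_iff.mp (hc hx) y]
  have hgens : ∀ x : Γ, ∀ y : Γ, f x * f y = f y * f x := by
    have h1 : ∀ z ∈ ({a, b} : Set Γ), ∀ y, f z * f y = f y * f z := by
      intro z hz y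
      have hy : y ∈ (Subgroup.closure ({a, b} : Set Γ) ⊔ σ.ker).comap (MonoidHom.id Γ) := htop ▸ Subgroup.mem_top y
      have h2 : Subgroup.closure ({a, b} : Set Γ) ⊔ σ.ker ≤ (Subgroup.centralizer {f z}).comap f := by
        refine sup_le ((Subgroup.closure_le _).mpr fun w hw => ?_) fun w hw => ?_
        · refine Subgroup.mem_centralizer_iff.mpr fun v hv => ?_
          rw [Set.mem_singleton_iff] at hv
          subst hv
          rcases hz with rfl | rfl <;> rcases hw with rfl | rfl <;> first | rfl | exact hab | exact hab.symm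
        · refine Subgroup.mem_centralizer_iff.mpr fun v hv => ?_
          rw [Set.mem_singleton_iff] at hv
          subst hv
          exact hcen w hw z
      exact Subgroup.mem_centralizer_iff.mp (h2 hy) (f z) rfl
    intro x y
    have h2 : Subgroup.closure ({a, b} : Set Γ) ⊔ σ.ker ≤ (Subgroup.centralizer {f y}).comap f := by
      refine sup_le ((Subgroup.closure_le _).mpr fun w hw => ?_) fun w hw => ?_
      · refine Subgroup.mem_centralizer_iff.mpr fun v hv => ?_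
        rw [Set.mem_singleton_iff] at hv
        subst hv
        exact (h1 w hw y).symm
      · refine Subgroup.mem_centralizer_iff.mpr fun v hv => ?_
        rw [Set.mem_singleton_iff] at hv
        subst hv
        exact hcen w hw y
    exact (Subgroup.mem_centralizer_iff.mp (h2 (htop ▸ Subgroup.mem_top x)) (f y) rfl).symm
  rw [commutator_def, Subgroup.commutator_le]
  intro x _ y _
  rw [← QuotientGroup.eq_one_iff, ← QuotientGroup.mk'_apply, map_commutatorElement,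
    commutatorElement_eq_one_iff_mul_comm]
  exact hgens x y

theorem commutator_pow_right {a b : Γ} (hc : ⁅a, b⁆ ∈ Subgroup.center Γ) (k : ℕ) : ⁅a, b ^ k⁆ = ⁅a, b⁆ ^ k := by
  induction k with
  | zero => simp [commutatorElement_def]
  | succ k ih =>
    rw [pow_succ' b, commutatorElement_mul_right_eq_mul_conj, ih, pow_succ' ⁅a, b⁆, mul_assoc ⁅a, b⁆ b,
      Subgroup.mem_center_iff.mp (pow_mem hc k) b]
    group

/-- Relations of dihedral type. -/
theorem dihedral_type (hc : σ.ker ≤ Subgroup.center Γ) {a b : Γ}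
    (hgen : Subgroup.closure ({σ b, σ a} : Set Q) = ⊤) (hconj : σ b * σ a * (σ b)⁻¹ = (σ a)⁻¹)
    {n : ℕ} (hn : Commute (σ a ^ n) (σ b)) (hn' : Commute (a ^ n) b) :
    (∀ m ∈ commutator Γ, ∃ k : ℤ, m = ⁅b, a⁆ ^ k) ∧ ⁅b, a⁆ ^ n = 1 ∧ σ ⁅b, a⁆ = (σ a) ^ (-2 : ℤ) := by
  set z := b * a * b⁻¹ * a with hz
  have hzk : z ∈ σ.ker := by
    rw [MonoidHom.mem_ker, hz, map_mul, map_mul, map_mul, map_inv, hconj, inv_mul_cancel]
  have hzc := Subgroup.mem_center_iff.mp (hc hzk)
  have e1 : ⁅b, a⁆ = z * (a⁻¹ * a⁻¹) := by rw [commutatorElement_def, hz]; group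
  have e2 : b * a * b⁻¹ = z * a⁻¹ := by rw [hz]; group
  have hza : Commute z a := (hzc a).symm
  have e3 : a * ⁅b, a⁆ * a⁻¹ = ⁅b, a⁆ := by
    rw [e1, ← mul_assoc, hzc a]; group
  have e4 : b * ⁅b, a⁆ * b⁻¹ = ⁅b, a⁆⁻¹ := by
    have key : ∀ w : Γ, (∀ g, g * w = w * g) → b * a * b⁻¹ = w * a⁻¹ →
        b * (w * (a⁻¹ * a⁻¹)) * b⁻¹ = (w * (a⁻¹ * a⁻¹))⁻¹ := by
      intro w hw hwe
      calc b * (w * (a⁻¹ * a⁻¹)) * b⁻¹ = b * w * b⁻¹ * ((b * a * b⁻¹)⁻¹ * (b * a * b⁻¹)⁻¹) := by group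
        _ = w * ((w * a⁻¹)⁻¹ * (w * a⁻¹)⁻¹) := by rw [hwe, hw b, mul_inv_cancel_right]
        _ = (w * a) * w⁻¹ * a * w⁻¹ := by group
        _ = (a * w) * w⁻¹ * a * w⁻¹ := by rw [hw a]
        _ = (w * (a⁻¹ * a⁻¹))⁻¹ := by simp [mul_assoc]
    rw [e1]
    exact key z hzc e2
  have hle : commutator Γ ≤ Subgroup.zpowers ⁅b, a⁆ := by
    refine commutator_le_zpowers hc hgen ?_ ?_ ?_ ?_
    · rw [e4]; exact inv_mem (Subgroup.mem_zpowers _)
    · rw [e3]; exact Subgroup.mem_zpowers _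
    · have h4 : b⁻¹ * ⁅b, a⁆ * b = ⁅b, a⁆⁻¹ := by
        rw [eq_comm, inv_eq_iff_eq_inv]
        calc ⁅b, a⁆ = b⁻¹ * (b * ⁅b, a⁆ * b⁻¹) * b := by group
          _ = (b⁻¹ * ⁅b, a⁆ * b)⁻¹ := by rw [e4]; group
      rw [h4]; exact inv_mem (Subgroup.mem_zpowers _)
    · have : a⁻¹ * ⁅b, a⁆ * a = ⁅b, a⁆ := by
        calc a⁻¹ * ⁅b, a⁆ * a = a⁻¹ * (a * ⁅b, a⁆ * a⁻¹) * a := by rw [e3]
          _ = ⁅b, a⁆ := by group
      rw [this]; exact Subgroup.mem_zpowers _
  refine ⟨fun m hm => ?_, ?_, ?_⟩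
  · obtain ⟨k, hk⟩ := hle hm
    exact ⟨k, hk.symm⟩
  · have h1 : b * a ^ n * b⁻¹ = z ^ n * (a ^ n)⁻¹ := by
      rw [← conj_pow, e2, (hza.inv_right).mul_pow, inv_pow]
    rw [← hn'.eq, mul_inv_cancel_right] at h1
    have h2 : z ^ n = a ^ n * a ^ n := by
      rw [eq_mul_inv_iff_mul_eq] at h1
      exact h1.symm
    rw [e1, Commute.mul_pow ((hza.inv_right).mul_right hza.inv_right), h2, Commute.mul_pow (Commute.refl a⁻¹), inv_pow]
    group
  · rw [e1, map_mul, MonoidHom.mem_ker.mp hzk, one_mul, map_mul, map_inv, zpow_neg, zpow_two, mul_inv_rev]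

end TwoGen

end Cfsg.Agent.Grp.SchurM
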