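import Mathlib
import Cfsg.Agent.Lib.Grp.SchurM.Basic

/-!
Covering groups and lifting of projective representations.
-/

namespace Cfsg.Agent.Grp.SchurM

open scoped commutatorElement MatrixGroups

universe u v w

variable {Q : Type u} [Group Q]

theorem eq_on_commutator {E : Type v} {G : Type w} [Group E] [Group G] (φ ψ : E →* G)
    (h : ∀ x, (φ x)⁻¹ * ψ x ∈ Subgroup.center G) {m : E} (hm : m ∈ commutator E) : φ m = ψ m := by
  have key : ∀ x y : E, φ ⁅x, y⁆ = ψ ⁅x, y⁆ := by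
    intro x y
    have e1 := Subgroup.mem_center_iff.mp (h x)
    have e2 := Subgroup.mem_center_iff.mp (h y)
    have ex : ψ x = φ x * ((φ x)⁻¹ * ψ x) := by group
    have ey : ψ y = φ y * ((φ y)⁻¹ * ψ y) := by group
    simp only [commutatorElement_def, map_mul, map_inv]
    rw [ex, ey]
    set z := (φ x)⁻¹ * ψ x
    set t := (φ y)⁻¹ * ψ y
    simp only [mul_inv_rev]
    set a := φ x
    set b := φ y
    symm
    calc a * z * (b * t) * (z⁻¹ * a⁻¹) * (t⁻¹ * b⁻¹) = a * (z * (b * t)) * z⁻¹ * a⁻¹ * (t⁻¹ * b⁻¹) := by group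
      _ = a * ((b * t) * z) * z⁻¹ * a⁻¹ * (t⁻¹ * b⁻¹) := by rw [e1]
      _ = a * b * (t * a⁻¹) * t⁻¹ * b⁻¹ := by group
      _ = a * b * (a⁻¹ * t) * t⁻¹ * b⁻¹ := by rw [e2]
      _ = a * b * a⁻¹ * b⁻¹ := by group
  rw [commutator_eq_closure] at hm
  induction hm using Subgroup.closure_induction with
  | mem g hg => obtain ⟨x, y, rfl⟩ := hg; exact key x y
  | one => simp
  | mul a b _ _ ha hb => rw [map_mul, map_mul, ha, hb]
  | inv a _ ha => rw [map_inv, map_inv, ha]

/-- Two covers: comparison of kernels through the universal extension. -/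
theorem exists_factor {Γ : Type v} {Δ : Type w} [Group Γ] [Group Δ] (σ : Γ →* Q) (τ : Δ →* Q)
    (hσ : Cfsg.IsStemExtension σ) (hτ : Cfsg.IsStemExtension τ) (β₁ : UE (std Q) →* Γ) (β₂ : UE (std Q) →* Δ)
    (h₁ : σ.comp β₁ = rho (std Q)) (h₂ : τ.comp β₂ = rho (std Q))
    (h : ∀ m ∈ mult (std Q), β₁ m = 1 → β₂ m = 1) : ∃ π : σ.ker →* τ.ker, Function.Surjective π := by
  have e₁ := map_mult (std Q) (std_surjective Q) σ hσ.2.1 β₁ h₁
  have e₂ := map_mult (std Q) (std_surjective Q) τ hτ.2.1 β₂ h₂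
  rw [inf_eq_left.mpr hσ.2.2] at e₁
  rw [inf_eq_left.mpr hτ.2.2] at e₂
  set p₁ : mult (std Q) →* σ.ker := (β₁.comp (mult (std Q)).subtype).codRestrict σ.ker
    fun m => (le_of_eq e₁) (Subgroup.mem_map_of_mem β₁ m.2)
  set p₂ : mult (std Q) →* τ.ker := (β₂.comp (mult (std Q)).subtype).codRestrict τ.ker
    fun m => (le_of_eq e₂) (Subgroup.mem_map_of_mem β₂ m.2)
  have hs₁ : Function.Surjective p₁ := fun k => by
    obtain ⟨m, hm, hme⟩ := (ge_of_eq e₁) k.2
    exact ⟨⟨m, hm⟩, Subtype.ext hme⟩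
  have hs₂ : Function.Surjective p₂ := fun k => by
    obtain ⟨m, hm, hme⟩ := (ge_of_eq e₂) k.2
    exact ⟨⟨m, hm⟩, Subtype.ext hme⟩
  have hle : p₁.ker ≤ p₂.ker := fun m hm => Subtype.ext (h m m.2 (congrArg Subtype.val hm))
  refine ⟨p₁.liftOfSurjective hs₁ ⟨p₂, hle⟩, fun k => ?_⟩
  obtain ⟨m, rfl⟩ := hs₂ k
  exact ⟨p₁ m, p₁.liftOfRightInverse_comp_apply _ _ _ m⟩

theorem liftOfSurjective_apply {A : Type u} {B : Type v} {C : Type w} [Group A] [Group B] [Group C] (f : A →* B)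
    (hf : Function.Surjective f) (g : A →* C) (h : f.ker ≤ g.ker) (a : A) :
    f.liftOfSurjective hf ⟨g, h⟩ (f a) = g a :=
  f.liftOfRightInverse_comp_apply _ _ _ a

/-- A faithful enough monomial representation of a central extension with finite kernel. -/
theorem exists_monomial {Δ : Type w} [Group Δ] [Finite Q] (τ : Δ →* Q) (hτ : Function.Surjective τ)
    (hc : τ.ker ≤ Subgroup.center Δ) (lam : τ.ker →* ℂˣ) :
    ∃ (n : ℕ) (R : Δ →* GL (Fin n) ℂ), (∀ k : τ.ker, R k ∈ Subgroup.center (GL (Fin n) ℂ)) ∧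
      ∀ k : τ.ker, R k = 1 → lam k = 1 := by
  classical
  have := Fintype.ofFinite Q
  choose s hs using hτ
  let e := Fintype.equivFin Q
  set n := Fintype.card Q
  have hmem : ∀ (d : Δ) (j : Fin n), (s (τ d * e.symm j))⁻¹ * d * s (e.symm j) ∈ τ.ker := fun d j => by
    rw [MonoidHom.mem_ker, map_mul, map_mul, map_inv, hs, hs]; group
  let c : Δ → Fin n → ℂˣ := fun d j => lam ⟨_, hmem d j⟩
  let M : Δ → Matrix (Fin n) (Fin n) ℂ := fun d => Matrix.of fun i j =>
    if i = e (τ d * e.symm j) then (c d j : ℂ) else 0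
  have hc1 : ∀ j, c 1 j = 1 := fun j => by
    show lam _ = 1
    convert map_one lam
    simp [Subtype.ext_iff]
  have hcm : ∀ d d' j, c (d * d') j = c d (e (τ d' * e.symm j)) * c d' j := fun d d' j => by
    show lam _ = lam _ * lam _
    rw [← map_mul]
    congr 1
    apply Subtype.ext
    simp only [Subgroup.coe_mul, Equiv.symm_apply_apply, map_mul, mul_assoc, mul_inv_cancel_left]
  have hM1 : M 1 = 1 := by
    ext i j
    simp [M, hc1, Matrix.one_apply]
  have hMm : ∀ d d', M (d * d') = M d * M d' := fun d d' => by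
    ext i j
    rw [Matrix.mul_apply, Finset.sum_eq_single (e (τ d' * e.symm j))]
    · simp [M, hcm, mul_assoc, ite_mul]
    · intro k _ hk
      simp [M, hk]
    · simp
  let R₀ : Δ →* Matrix (Fin n) (Fin n) ℂ := { toFun := M, map_one' := hM1, map_mul' := hMm }
  let R : Δ →* GL (Fin n) ℂ := R₀.toHomUnits
  have hcoe : ∀ d, ((R d : GL (Fin n) ℂ) : Matrix (Fin n) (Fin n) ℂ) = M d := fun d => rfl
  have hk : ∀ (k : τ.ker) (j : Fin n), c k j = lam k := fun k j => by
    show lam _ = lam k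
    congr 1
    apply Subtype.ext
    have h1 := Subgroup.mem_center_iff.mp (hc k.2) (s (e.symm j))
    simp only [MonoidHom.mem_ker.mp k.2, one_mul, mul_assoc]
    rw [← h1, inv_mul_cancel_left]
  have hval : ∀ k : τ.ker, M k = Matrix.scalar (Fin n) (lam k : ℂ) := fun k => by
    ext i j
    simp [M, hk, MonoidHom.mem_ker.mp k.2, Matrix.diagonal_apply]
  refine ⟨n, R, fun k => ?_, fun k hk1 => ?_⟩
  · rw [Matrix.GeneralLinearGroup.mem_center_iff_val_mem_range_scalar, hcoe, hval]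
    exact ⟨_, rfl⟩
  · have h1 := congrArg (fun g : GL (Fin n) ℂ => (g : Matrix (Fin n) (Fin n) ℂ) (e 1) (e 1)) hk1
    simp only [hcoe, hval, Units.val_one, Matrix.scalar_apply, Matrix.diagonal_apply_eq, Matrix.one_apply_eq] at h1
    exact Units.ext h1

/-- A stem extension along which all projective representations lift is a cover. -/
theorem cover_of_lift [Finite Q] {Γ : Type v} [Group Γ] (σ : Γ →* Q) (hσ : Cfsg.IsStemExtension σ)
    (hlift : ∀ (n : ℕ) (γ : Q →* (GL (Fin n) ℂ ⧸ Subgroup.center (GL (Fin n) ℂ))), ∃ ρ : Γ →* GL (Fin n) ℂ,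
      (QuotientGroup.mk' (Subgroup.center (GL (Fin n) ℂ))).comp ρ = γ.comp σ)
    {Δ : Type w} [Group Δ] [Finite Δ] (τ : Δ →* Q) (hτ : Cfsg.IsStemExtension τ) :
    ∃ π : σ.ker →* τ.ker, Function.Surjective π := by
  obtain ⟨β₁, h₁⟩ := exists_lift (std Q) (MonoidHom.id Q) σ hσ.1 hσ.2.1
  obtain ⟨β₂, h₂⟩ := exists_lift (std Q) (MonoidHom.id Q) τ hτ.1 hτ.2.1
  rw [MonoidHom.id_comp] at h₁ h₂
  refine exists_factor σ τ hσ hτ β₁ β₂ h₁ h₂ fun m hm hm1 => ?_
  have hk : β₂ m ∈ τ.ker := by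
    show τ (β₂ m) = 1
    rw [← MonoidHom.comp_apply, h₂]; exact hm.1
  by_contra hne
  let _ : CommGroup τ.ker := { (inferInstance : Group τ.ker) with
    mul_comm := fun a b => Subtype.ext (Subgroup.mem_center_iff.mp (hτ.2.1 b.2) a) }
  obtain ⟨lam, hlam⟩ := CommGroup.exists_apply_ne_one_of_hasEnoughRootsOfUnity τ.ker ℂ
    (a := ⟨β₂ m, hk⟩) (fun h => hne (congrArg Subtype.val h))
  obtain ⟨n, R, hRc, hR⟩ := exists_monomial τ hτ.1 hτ.2.1 lam
  set mk := QuotientGroup.mk' (Subgroup.center (GL (Fin n) ℂ))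
  have hker : τ.ker ≤ (mk.comp R).ker := fun k hk => (QuotientGroup.eq_one_iff _).mpr (hRc ⟨k, hk⟩)
  set γ := τ.liftOfSurjective hτ.1 ⟨mk.comp R, hker⟩
  obtain ⟨ρ, hρ⟩ := hlift n γ
  have h := eq_on_commutator (R.comp β₂) (ρ.comp β₁) (fun x => by
    have e1 : mk (ρ (β₁ x)) = mk (R (β₂ x)) := by
      rw [← MonoidHom.comp_apply mk ρ, hρ, MonoidHom.comp_apply, ← MonoidHom.comp_apply σ β₁, h₁, ← h₂,
        MonoidHom.comp_apply, liftOfSurjective_apply τ hτ.1 _ hker, MonoidHom.comp_apply]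
    exact QuotientGroup.eq.mp e1.symm) hm.2
  rw [MonoidHom.comp_apply, MonoidHom.comp_apply, hm1, map_one] at h
  exact hlam (hR ⟨β₂ m, hk⟩ h)

/-- Homomorphisms into scalar matrices extend. -/
theorem exists_extend {n : ℕ} {N : Type v} [CommGroup N] {F : Type w} [AddCommGroup F] (d : N →* Multiplicative F)
    (hd : Function.Injective d) (φ : N →* Subgroup.center (GL (Fin n) ℂ)) :
    ∃ h : Multiplicative F →* Subgroup.center (GL (Fin n) ℂ), h.comp d = φ := by
  let Z := Subgroup.center (GL (Fin n) ℂ)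
  let _ : CommGroup Z := { (inferInstance : Group Z) with
    mul_comm := fun a b => Subtype.ext (Subgroup.mem_center_iff.mp b.2 a) }
  have hroot : ∀ (z : Z) (k : ℕ), k ≠ 0 → ∃ y : Z, y ^ k = z := by
    intro z k hk
    have hz : (z : GL (Fin n) ℂ) ∈ Subgroup.center (GL (Fin n) ℂ) := z.2
    rw [Matrix.GeneralLinearGroup.center_eq_range_scalar] at hz
    obtain ⟨a, ha⟩ := hz
    obtain ⟨b, hb⟩ := IsAlgClosed.exists_pow_nat_eq (a : ℂ) (Nat.pos_of_ne_zero hk)
    have hb0 : b ≠ 0 := fun h => a.ne_zero (by rw [← hb, h, zero_pow hk])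
    refine ⟨⟨Matrix.GeneralLinearGroup.scalar (Fin n) (Units.mk0 b hb0), ?_⟩, Subtype.ext ?_⟩
    · show _ ∈ Subgroup.center (GL (Fin n) ℂ)
      rw [Matrix.GeneralLinearGroup.center_eq_range_scalar]; exact ⟨_, rfl⟩
    · rw [SubmonoidClass.coe_pow, ← map_pow, ← ha]
      congr 1
      exact Units.ext (by simpa using hb)
  have hdiv : ∀ (z : Additive Z) (k : ℤ), k ≠ 0 → ∃ y, k • y = z := by
    intro z k hk
    obtain ⟨y, hy⟩ := hroot (Additive.toMul z) k.natAbs (Int.natAbs_ne_zero.mpr hk)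
    rcases Int.natAbs_eq k with h | h
    · refine ⟨Additive.ofMul y, ?_⟩
      rw [h, natCast_zsmul]
      exact congrArg Additive.ofMul hy
    · refine ⟨-Additive.ofMul y, ?_⟩
      rw [h, neg_zsmul, zsmul_neg, neg_neg, natCast_zsmul]
      exact congrArg Additive.ofMul hy
  classical
  let _ : DivisibleBy (Additive Z) ℤ :=
    { div := fun z k => if hk : k = 0 then 0 else (hdiv z k hk).choose
      div_zero := fun z => dif_pos rfl
      div_cancel := fun {k} z hk => by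
        show k • (if hk : k = 0 then (0 : Additive Z) else (hdiv z k hk).choose) = z
        rw [dif_neg hk]; exact (hdiv z k hk).choose_spec }
  obtain ⟨h, hh⟩ := (Module.Baer.of_divisible (Additive Z)).extension_property_addMonoidHom
    (MonoidHom.toAdditiveLeft d) hd (MonoidHom.toAdditive φ)
  refine ⟨AddMonoidHom.toMultiplicativeLeft h, MonoidHom.ext fun x => ?_⟩
  exact congrArg Additive.toMul (DFunLike.congr_fun hh (Additive.ofMul x))

/-- Projective representations lift along a cover. -/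
theorem lift_of_cover [Finite Q] {A : Type v} [CommGroup A] (hA : Cfsg.HasSchurMultiplier Q A) {Γ : Type w} [Group Γ]
    (σ : Γ →* Q) (hσ : Cfsg.IsStemExtension σ) (hk : Nonempty (σ.ker ≃* A)) (n : ℕ)
    (γ : Q →* (GL (Fin n) ℂ ⧸ Subgroup.center (GL (Fin n) ℂ))) :
    ∃ ρ : Γ →* GL (Fin n) ℂ, (QuotientGroup.mk' (Subgroup.center (GL (Fin n) ℂ))).comp ρ = γ.comp σ := by
  obtain ⟨β, hβ⟩ := exists_lift (std Q) (MonoidHom.id Q) σ hσ.1 hσ.2.1
  rw [MonoidHom.id_comp] at hβ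
  have hsurj := lift_surjective (std Q) (std_surjective Q) σ hσ β hβ
  have e₁ := map_mult (std Q) (std_surjective Q) σ hσ.2.1 β hβ
  rw [inf_eq_left.mpr hσ.2.2] at e₁
  set p : mult (std Q) →* σ.ker := (β.comp (mult (std Q)).subtype).codRestrict σ.ker
    fun m => (le_of_eq e₁) (Subgroup.mem_map_of_mem β m.2)
  have hp : Function.Surjective p := fun k => by
    obtain ⟨m, hm, hme⟩ := (ge_of_eq e₁) k.2
    exact ⟨⟨m, hm⟩, Subtype.ext hme⟩
  obtain ⟨eA⟩ := equiv_mult (std Q) (std_surjective Q) hA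
  obtain ⟨eσ⟩ := hk
  have := finite_mult (std Q)
  have hpinj : Function.Injective p :=
    ((Nat.bijective_iff_surjective_and_card p).mpr ⟨hp, (Nat.card_congr (eσ.trans eA).toEquiv).symm⟩).1
  set mk := QuotientGroup.mk' (Subgroup.center (GL (Fin n) ℂ))
  obtain ⟨β', hβ'⟩ := exists_lift (std Q) γ mk (QuotientGroup.mk'_surjective _) (by rw [QuotientGroup.ker_mk'])
  set N := β.ker
  have hN : N ≤ rel (std Q) := fun x hx => by
    show rho (std Q) x = 1
    rw [← hβ, MonoidHom.comp_apply, MonoidHom.mem_ker.mp hx, map_one]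
  let _ : CommGroup N := { (inferInstance : Group N) with
    mul_comm := fun a b => Subtype.ext (Subgroup.mem_center_iff.mp (rel_le_center _ (hN b.2)) a) }
  have hφ : ∀ x : N, β' x ∈ Subgroup.center (GL (Fin n) ℂ) := fun x => (QuotientGroup.eq_one_iff _).mp (by
    show mk (β' x) = 1
    rw [← MonoidHom.comp_apply, hβ', MonoidHom.comp_apply, show rho (std Q) x = 1 from hN x.2, map_one])
  have hd : Function.Injective ((deg (std Q)).comp N.subtype) := by
    rw [injective_iff_map_eq_one]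
    intro x hx
    have hm : (x : UE (std Q)) ∈ mult (std Q) := (mem_mult_iff _ _).mpr ⟨hN x.2, hx⟩
    have h1 : p ⟨x, hm⟩ = 1 := Subtype.ext x.2
    have h2 : (⟨(x : UE (std Q)), hm⟩ : mult (std Q)) = 1 := (map_eq_one_iff p hpinj).mp h1
    exact Subtype.ext (congrArg Subtype.val h2 :)
  obtain ⟨h, hh⟩ := exists_extend _ hd ((β'.comp N.subtype).codRestrict _ hφ)
  let β'' : UE (std Q) →* GL (Fin n) ℂ :=
    { toFun := fun x => β' x * ((h (deg (std Q) x) : Subgroup.center (GL (Fin n) ℂ)) : GL (Fin n) ℂ)⁻¹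
      map_one' := by simp
      map_mul' := fun x y => by
        simp only [map_mul, Subgroup.coe_mul, mul_inv_rev]
        have hx := (h (deg (std Q) x)).2
        have hy := (h (deg (std Q) y)).2
        set a := ((h (deg (std Q) x) : Subgroup.center (GL (Fin n) ℂ)) : GL (Fin n) ℂ)
        set b := ((h (deg (std Q) y) : Subgroup.center (GL (Fin n) ℂ)) : GL (Fin n) ℂ)
        calc β' x * β' y * (b⁻¹ * a⁻¹) = β' x * (β' y * b⁻¹ * a⁻¹) := by group
          _ = β' x * (a⁻¹ * (β' y * b⁻¹)) := by rw [Subgroup.mem_center_iff.mp (inv_mem hx) (β' y * b⁻¹)]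
          _ = β' x * a⁻¹ * (β' y * b⁻¹) := by group }
  have hle : β.ker ≤ β''.ker := fun x hx => by
    show β' x * ((h (deg (std Q) x) : Subgroup.center (GL (Fin n) ℂ)) : GL (Fin n) ℂ)⁻¹ = 1
    have h1 : h (deg (std Q) x) = ⟨β' x, hφ ⟨x, hx⟩⟩ := DFunLike.congr_fun hh ⟨x, hx⟩
    rw [h1]
    exact mul_inv_cancel _
  refine ⟨β.liftOfSurjective hsurj ⟨β'', hle⟩, MonoidHom.ext fun g => ?_⟩
  obtain ⟨x, rfl⟩ := hsurj g
  rw [MonoidHom.comp_apply, MonoidHom.comp_apply, liftOfSurjective_apply β hsurj _ hle,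
    ← MonoidHom.comp_apply σ β, hβ, ← MonoidHom.comp_apply γ, ← hβ']
  show mk (β' x * ((h (deg (std Q) x) : Subgroup.center (GL (Fin n) ℂ)) : GL (Fin n) ℂ)⁻¹) = mk (β' x)
  rw [map_mul, map_inv, show mk ((h (deg (std Q) x) : Subgroup.center (GL (Fin n) ℂ)) : GL (Fin n) ℂ) = 1 from
    (QuotientGroup.eq_one_iff _).mpr (h (deg (std Q) x)).2, inv_one, mul_one]

end Cfsg.Agent.Grp.SchurM
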