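import Cfsg.Agent.Lib.Spor.Multiplier

/-!
Bounds on the kernel of a stem extension from explicit two-generated Sylow subgroups.
-/

set_option autoImplicit false

namespace Cfsg.Agent.Grp.SchurM

open scoped commutatorElement

section Gen

variable {Γ : Type*} [Group Γ]

/-- The derived group of a subgroup generated by two elements and a central subgroup. -/
theorem derived_le_zpowers_of_pair {G : Type*} [Group G] (σ : Γ →* G) (hker : σ.ker ≤ Subgroup.center Γ)
    {a b : Γ} (c : Γ) (hc : c = ⁅a, b⁆)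
    (ha : a ∈ Subgroup.normalizer (Subgroup.zpowers c : Set Γ))
    (hb : b ∈ Subgroup.normalizer (Subgroup.zpowers c : Set Γ)) :
    ⁅(Subgroup.closure (σ '' {a, b})).comap σ, (Subgroup.closure (σ '' {a, b})).comap σ⁆ ≤
      Subgroup.zpowers c := by
  set N := Subgroup.zpowers c with hN
  set M := Subgroup.normalizer (N : Set Γ) with hM
  set S : Set Γ := {a, b} ∪ (σ.ker : Set Γ) with hS
  have hSM : Subgroup.closure S ≤ M := by
    refine (Subgroup.closure_le _).2 ?_
    rintro x ((rfl | rfl) | hx)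
    · exact ha
    · exact hb
    · rw [SetLike.mem_coe, hM, Subgroup.mem_normalizer_iff]
      intro n
      rw [← Subgroup.mem_center_iff.1 (hker hx) n, mul_inv_cancel_right]
  haveI : (N.subgroupOf M).Normal := Subgroup.normal_in_normalizer
  set q := QuotientGroup.mk' (N.subgroupOf M) with hq
  have hgen : ∀ x : M, (x : Γ) ∈ S → ∀ y : M, (y : Γ) ∈ S → Commute (q x) (q y) := by
    intro x hx y hy
    rw [← commutatorElement_eq_one_iff_commute, ← map_commutatorElement, hq, QuotientGroup.mk'_apply,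
      QuotientGroup.eq_one_iff, Subgroup.mem_subgroupOf]
    have e : ((⁅x, y⁆ : M) : Γ) = ⁅(x : Γ), (y : Γ)⁆ := map_commutatorElement M.subtype x y
    rw [e]
    have hcen : ∀ u ∈ σ.ker, ∀ v : Γ, ⁅u, v⁆ = 1 ∧ ⁅v, u⁆ = 1 := fun u hu v =>
      ⟨commutatorElement_eq_one_iff_commute.2 (Subgroup.mem_center_iff.1 (hker hu) v).symm,
        commutatorElement_eq_one_iff_commute.2 (Subgroup.mem_center_iff.1 (hker hu) v)⟩
    rcases hy with hy | hy
    swap
    · rw [(hcen _ hy _).2]; exact N.one_mem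
    rcases hx with hx | hx
    swap
    · rw [(hcen _ hx _).1]; exact N.one_mem
    rcases hx with hx | hx <;> rcases hy with hy | hy <;> rw [hx, hy]
    · rw [commutatorElement_self]; exact N.one_mem
    · rw [← hc]; exact Subgroup.mem_zpowers c
    · rw [← commutatorElement_inv, ← hc]; exact N.inv_mem (Subgroup.mem_zpowers c)
    · rw [commutatorElement_self]; exact N.one_mem
  have hall : ∀ x : M, (x : Γ) ∈ Subgroup.closure S → ∀ y : M, (y : Γ) ∈ Subgroup.closure S →
      Commute (q x) (q y) := by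
    intro x hx y hy
    have key : ∀ (x : Γ) (hx : x ∈ Subgroup.closure S) (y : Γ) (hy : y ∈ Subgroup.closure S),
        Commute (q ⟨x, hSM hx⟩) (q ⟨y, hSM hy⟩) := by
      intro x hx
      induction hx using Subgroup.closure_induction with
      | mem x hxS =>
        intro y hy
        induction hy using Subgroup.closure_induction with
        | mem y hyS => exact hgen _ hxS _ hyS
        | one => exact (map_one q).symm ▸ Commute.one_right _
        | mul y z hy hz ihy ihz =>
          have : (⟨y * z, hSM (mul_mem hy hz)⟩ : M) = ⟨y, hSM hy⟩ * ⟨z, hSM hz⟩ := rfl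
          rw [this, map_mul]; exact ihy.mul_right ihz
        | inv y hy ihy =>
          have : (⟨y⁻¹, hSM (inv_mem hy)⟩ : M) = ⟨y, hSM hy⟩⁻¹ := rfl
          rw [this, map_inv]; exact ihy.inv_right
      | one => intro y hy; exact (map_one q).symm ▸ Commute.one_left _
      | mul x z hx hz ihx ihz =>
        intro y hy
        have : (⟨x * z, hSM (mul_mem hx hz)⟩ : M) = ⟨x, hSM hx⟩ * ⟨z, hSM hz⟩ := rfl
        rw [this, map_mul]; exact (ihx y hy).mul_left (ihz y hy)
      | inv x hx ihx =>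
        intro y hy
        have : (⟨x⁻¹, hSM (inv_mem hx)⟩ : M) = ⟨x, hSM hx⟩⁻¹ := rfl
        rw [this, map_inv]; exact (ihx y hy).inv_left
    exact key _ hx _ hy
  have hin : ∀ x ∈ (Subgroup.closure (σ '' {a, b})).comap σ, x ∈ Subgroup.closure S := by
    intro x hx
    have := Spor.Mult.mem_comap_closure σ {a, b} hx
    rwa [hS, Subgroup.closure_union, Subgroup.closure_eq]
  refine Subgroup.commutator_le.2 fun x hx y hy => ?_
  have := commutatorElement_eq_one_iff_commute.2
    (hall ⟨x, hSM (hin x hx)⟩ (hin x hx) ⟨y, hSM (hin y hy)⟩ (hin y hy))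
  rw [← map_commutatorElement, hq, QuotientGroup.mk'_apply, QuotientGroup.eq_one_iff,
    Subgroup.mem_subgroupOf] at this
  rwa [show ((⁅(⟨x, hSM (hin x hx)⟩ : M), ⟨y, hSM (hin y hy)⟩⁆ : M) : Γ) = ⁅x, y⁆ from
    map_commutatorElement M.subtype _ _] at this

/-- A preimage of a dihedral or quaternion group: the derived group is cyclic of order dividing four. -/
theorem derived_dihedral {G : Type*} [Group G] (σ : Γ →* G) (hker : σ.ker ≤ Subgroup.center Γ) {a b : Γ}
    (hrel : σ b * σ a * (σ b)⁻¹ = (σ a)⁻¹) (h4 : Commute (a ^ 4) b) :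
    ∃ c : Γ, σ c = σ a ^ 2 ∧ c ^ 4 = 1 ∧
      ∀ z ∈ ⁅(Subgroup.closure (σ '' {a, b})).comap σ, (Subgroup.closure (σ '' {a, b})).comap σ⁆,
        z ∈ Subgroup.zpowers c := by
  obtain ⟨w, hw, hwe⟩ : ∃ w ∈ σ.ker, b * a * b⁻¹ = a⁻¹ * w :=
    ⟨a * (b * a * b⁻¹), by rw [MonoidHom.mem_ker, map_mul, map_mul, map_mul, map_inv, hrel, mul_inv_cancel],
      (inv_mul_cancel_left _ _).symm⟩
  have hwc : ∀ g : Γ, Commute g w := fun g => Subgroup.mem_center_iff.1 (hker hw) g
  have hpow : ∀ n : ℕ, b * a ^ n * b⁻¹ = (a ^ n)⁻¹ * w ^ n := fun n => by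
    rw [← conj_pow, hwe, (hwc a⁻¹).mul_pow, inv_pow]
  have hcval : ⁅a, b⁆ = a ^ 2 * w⁻¹ := by
    rw [commutatorElement_def, show a * b * a⁻¹ * b⁻¹ = a * (b * a * b⁻¹)⁻¹ by group, hwe, mul_inv_rev,
      inv_inv, ((hwc a).inv_right).symm.eq, ← mul_assoc, ← sq]
  refine ⟨⁅a, b⁆, ?_, ?_, derived_le_zpowers_of_pair σ hker _ rfl ?_ ?_⟩
  · rw [hcval, map_mul, map_inv, MonoidHom.mem_ker.1 hw, inv_one, mul_one, map_pow]
  · have : b * a ^ 4 * b⁻¹ = a ^ 4 := by rw [← h4.eq, mul_inv_cancel_right]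
    rw [hpow 4] at this
    rw [hcval, ((hwc (a ^ 2)).inv_right).mul_pow, inv_pow, ← pow_mul]
    have e : a ^ (2 * 4) = w ^ 4 := by
      rw [show 2 * 4 = 4 + 4 from rfl, pow_add]
      nth_rewrite 2 [← this]
      rw [mul_inv_cancel_left]
    rw [e, mul_inv_cancel]
  · rw [Subgroup.mem_normalizer_iff]
    intro n
    have hfix : a * ⁅a, b⁆ * a⁻¹ = ⁅a, b⁆ := by
      rw [hcval]
      have : Commute a (a ^ 2 * w⁻¹) := (Commute.self_pow a 2).mul_right (hwc a).inv_right
      rw [this.eq, mul_inv_cancel_right]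
    have hcomm : Commute a ⁅a, b⁆ := mul_inv_eq_iff_eq_mul.1 hfix
    constructor
    · rintro ⟨k, rfl⟩
      exact ⟨k, by simp only; rw [((hcomm.zpow_right k)).eq, mul_inv_cancel_right]⟩
    · rintro ⟨k, hk⟩
      refine ⟨k, ?_⟩
      simp only at hk ⊢
      have hn : n = a⁻¹ * ⁅a, b⁆ ^ k * a := by rw [hk]; group
      rw [hn, mul_assoc, ← (hcomm.zpow_right k).eq, inv_mul_cancel_left]
  · rw [Subgroup.mem_normalizer_iff]
    intro n
    have hinv : b * ⁅a, b⁆ * b⁻¹ = ⁅a, b⁆⁻¹ := by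
      rw [hcval, ← conj_mul, hpow 2, show b * w⁻¹ * b⁻¹ = w⁻¹ from by
        rw [(hwc b).inv_right.eq, mul_inv_cancel_right], mul_inv_rev, inv_inv,
        (((hwc (a ^ 2)⁻¹)).symm).eq, sq w, mul_assoc, mul_assoc, mul_inv_cancel, mul_one]
    have hinv' : b⁻¹ * ⁅a, b⁆ * b = ⁅a, b⁆⁻¹ := by
      rw [← inv_inj, inv_inv, mul_inv_rev, mul_inv_rev, inv_inv, ← hinv]
      group
    constructor
    · rintro ⟨k, rfl⟩
      refine ⟨-k, ?_⟩
      simp only
      rw [← conj_zpow, hinv, inv_zpow']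
    · rintro ⟨k, hk⟩
      refine ⟨-k, ?_⟩
      simp only at hk ⊢
      have hn : n = b⁻¹ * ⁅a, b⁆ ^ k * b := by rw [hk]; group
      have := conj_zpow (i := k) (a := b⁻¹) (b := ⁅a, b⁆)
      rw [inv_inv] at this
      rw [hn, ← this, hinv', inv_zpow']

/-- A preimage of an elementary abelian group of order `p²`. -/
theorem derived_elementary {G : Type*} [Group G] (σ : Γ →* G) (hker : σ.ker ≤ Subgroup.center Γ) {x y : Γ}
    {p : ℕ} (hxy : Commute (σ x) (σ y)) (hx : σ x ^ p = 1) :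
    ∃ e ∈ σ.ker, e ^ p = 1 ∧
      ∀ z ∈ ⁅(Subgroup.closure (σ '' {x, y})).comap σ, (Subgroup.closure (σ '' {x, y})).comap σ⁆,
        z ∈ Subgroup.zpowers e := by
  have hek : ⁅x, y⁆ ∈ σ.ker := by
    rw [MonoidHom.mem_ker, map_commutatorElement]; exact commutatorElement_eq_one_iff_commute.2 hxy
  have hec : ∀ g : Γ, Commute g ⁅x, y⁆ := fun g => Subgroup.mem_center_iff.1 (hker hek) g
  have hn : ∀ g : Γ, g ∈ Subgroup.normalizer (Subgroup.zpowers ⁅x, y⁆ : Set Γ) := fun g => by
    rw [Subgroup.mem_normalizer_iff]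
    intro n
    constructor
    · rintro ⟨k, rfl⟩
      exact ⟨k, by simp only; rw [((hec g).zpow_right k).eq, mul_inv_cancel_right]⟩
    · rintro ⟨k, hk⟩
      refine ⟨k, ?_⟩
      simp only at hk ⊢
      have hn : n = g⁻¹ * ⁅x, y⁆ ^ k * g := by rw [hk]; group
      rw [hn, mul_assoc, ← ((hec g).zpow_right k).eq, inv_mul_cancel_left]
  refine ⟨_, hek, ?_, derived_le_zpowers_of_pair σ hker _ rfl (hn x) (hn y)⟩
  have hpw : ∀ n : ℕ, ⁅x ^ n, y⁆ = ⁅x, y⁆ ^ n := by
    intro n
    induction n with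
    | zero => simp [commutatorElement_def]
    | succ n ih =>
      rw [pow_succ', show ⁅x * x ^ n, y⁆ = x * ⁅x ^ n, y⁆ * x⁻¹ * ⁅x, y⁆ by
        simp only [commutatorElement_def]; group, ih, ((hec x).pow_right n).eq, mul_inv_cancel_right,
        pow_succ]
  have hxk : x ^ p ∈ σ.ker := by rw [MonoidHom.mem_ker, map_pow, hx]
  rw [← hpw]
  exact commutatorElement_eq_one_iff_commute.2 (Subgroup.mem_center_iff.1 (hker hxk) y).symm

end Gen

/-- The order of a subgroup generated by `a` and a normalizing `b` of order `p` modulo `⟨a⟩`. -/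
theorem mul_orderOf_dvd_card_closure {G : Type*} [Group G] [Finite G] {a b : G} {p : ℕ} (hp : p.Prime)
    (hb : b ∈ Subgroup.normalizer (Subgroup.zpowers a : Set G)) (hbp : b ^ p ∈ Subgroup.zpowers a)
    (hba : b ∉ Subgroup.zpowers a) : p * orderOf a ∣ Nat.card (Subgroup.closure ({a, b} : Set G)) := by
  haveI := Fact.mk hp
  set K := Subgroup.zpowers a with hK
  set C := Subgroup.closure ({a, b} : Set G) with hC
  have hCN : C ≤ Subgroup.normalizer (K : Set G) := by
    refine (Subgroup.closure_le _).2 ?_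
    rintro x (rfl | rfl)
    · exact Subgroup.le_normalizer (Subgroup.mem_zpowers _)
    · exact hb
  have hKC : K ≤ C := Subgroup.zpowers_le.2 (Subgroup.subset_closure (Or.inl rfl))
  haveI : (K.subgroupOf C).Normal := Subgroup.normal_subgroupOf_of_le_normalizer hCN
  have hbC : b ∈ C := Subgroup.subset_closure (Or.inr rfl)
  have hord : orderOf (QuotientGroup.mk' (K.subgroupOf C) ⟨b, hbC⟩) = p := by
    refine orderOf_eq_prime ?_ ?_
    · rw [← map_pow, QuotientGroup.mk'_apply, QuotientGroup.eq_one_iff, Subgroup.mem_subgroupOf,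
        SubgroupClass.coe_pow]
      exact hbp
    · rw [Ne, QuotientGroup.mk'_apply, QuotientGroup.eq_one_iff, Subgroup.mem_subgroupOf]
      exact hba
  have h1 : p ∣ (K.subgroupOf C).index := by
    rw [Subgroup.index_eq_card, ← hord]; exact orderOf_dvd_natCard _
  rw [← Subgroup.card_mul_index (K.subgroupOf C),
    Nat.card_congr (Subgroup.subgroupOfEquivOfLe hKC).toEquiv, hK, Nat.card_zpowers, mul_comm p]
  exact mul_dvd_mul_left _ h1

/-- A subgroup whose order contains the full `p`-part has index prime to `p`. -/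
theorem not_dvd_index_of_dvd {G : Type*} [Group G] [Finite G] (H : Subgroup G) {p d m : ℕ}
    (hH : d ∣ Nat.card H) (hG : Nat.card G = d * m) (hd : 0 < d) (hm : ¬ p ∣ m) : ¬ p ∣ H.index := by
  intro h
  obtain ⟨k, hk⟩ := hH
  have := H.card_mul_index
  rw [hG, hk, mul_assoc] at this
  have hkm := Nat.eq_of_mul_eq_mul_left hd this
  exact hm (hkm ▸ h.mul_left k)

/-- A subgroup with abelian preimage forced by cyclicity contributes nothing. -/
theorem comap_zpowers_comm {Γ : Type*} [Group Γ] {G : Type*} [Group G] (σ : Γ →* G)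
    (hker : σ.ker ≤ Subgroup.center Γ) (hσ : Function.Surjective σ) (g : G) :
    ∀ x ∈ (Subgroup.zpowers g).comap σ, ∀ y ∈ (Subgroup.zpowers g).comap σ, Commute x y := by
  obtain ⟨a, rfl⟩ := hσ g
  have e : Subgroup.zpowers (σ a) = Subgroup.closure (σ '' {a}) := by
    rw [Set.image_singleton, Subgroup.zpowers_eq_closure]
  rw [e]
  exact Spor.Mult.comm_of_gens σ hker {a} fun x hx y hy => by
    rw [Set.mem_singleton_iff.1 hx, Set.mem_singleton_iff.1 hy]

/-- A cyclic bound on the kernel gives a surjection from `ZMod n`. -/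
theorem exists_surjective_zmod {Γ : Type*} [Group Γ] (L : Subgroup Γ) (g : Γ) (hg : g ∈ L) {n : ℕ}
    (hgn : g ^ n = 1) (hle : L ≤ Subgroup.zpowers g) :
    ∃ π : Multiplicative (ZMod n) →* L, Function.Surjective π := by
  let g' : L := ⟨g, hg⟩
  have hz : (zmultiplesHom (Additive L) (Additive.ofMul g')) (n : ℤ) = 0 := by
    rw [zmultiplesHom_apply, natCast_zsmul, ← ofMul_pow, ← ofMul_one]
    exact congrArg _ (Subtype.ext hgn)
  let f : ZMod n →+ Additive L := ZMod.lift n ⟨_, hz⟩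
  refine ⟨AddMonoidHom.toMultiplicativeLeft f, fun x => ?_⟩
  obtain ⟨k, hk⟩ := hle x.2
  refine ⟨Multiplicative.ofAdd (k : ZMod n), ?_⟩
  show Additive.toMul (f (k : ZMod n)) = x
  rw [ZMod.lift_coe, zmultiplesHom_apply, toMul_zsmul, toMul_ofMul]
  exact Subtype.ext (by rw [SubgroupClass.coe_zpow]; exact hk)

end Cfsg.Agent.Grp.SchurM
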