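import Cfsg.Agent.Lib.Grp.SchurM.TailExp

/-! Orders of subgroups from transversals along a base. -/

set_option autoImplicit false

open Cfsg.Agent.Spor.Cos

namespace Cfsg.Agent.Grp.SchurM.Tails.TableCert

variable (S : TableCert) (A : Act) (base : List ℕ)

/-- Words fixing the earlier points with increasing images of the present one. -/
noncomputable def chkLev (fixed : List ℕ) (b : ℕ) (T : List (List ℕ)) : Bool :=
  Nat.blt b A.N && T.all (fun w => w.all (fun k => Nat.blt k S.P.n) && fixed.all fun c => Nat.beq (A.go (S.flat w) c) c) &&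
    S.inc A [b] T 0

/-- Levels along a base. -/
noncomputable def chkLevels : List (ℕ × List (List ℕ)) → List ℕ → Bool :=
  fun L => List.rec (motive := fun _ => List ℕ → Bool) (fun _ => true)
    (fun l _ r fixed => chkLev S A fixed l.1 l.2 && r (l.1 :: fixed)) L

/-- The sizes multiply to the order. -/
noncomputable def chkChain (L : List (ℕ × List (List ℕ))) : Bool :=
  chkLevels S A L [] && L.all (fun l => base.contains l.1) &&
    Nat.beq ((L.map fun l => l.2.length).prod) (S.P.p ^ S.P.n)

variable {S A base}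
variable {G : Type*} [Group G] {g : ℕ → G} {π : G →* Equiv.Perm (Fin A.N)}

theorem le_card_of_levels [Finite G] (hA : A.Hom g π) (hl : Act.lettersOk A.n S.ews = true) :
    ∀ (L : List (ℕ × List (List ℕ))) (fixed : List ℕ), chkLevels S A L fixed = true → ∀ (K : Subgroup G),
      (∀ x ∈ Subgroup.closure (S.elem g '' {k | k < S.P.n}),
        (∀ q : Fin A.N, (q : ℕ) ∈ fixed → π x q = q) → x ∈ K) →
      (L.map fun l => l.2.length).prod ≤ Nat.card K
  | [], _, _, K, _ => Nat.card_pos
  | (b, T) :: L, fixed, h, K, hK => by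
    have hh : chkLev S A fixed b T = true ∧ chkLevels S A L (b :: fixed) = true := Bool.and_eq_true_iff.1 h
    simp only [chkLev, Bool.and_eq_true, List.all_eq_true] at hh
    obtain ⟨⟨⟨hb, hT⟩, hinc⟩, hrest⟩ := hh
    have hbN : b < A.N := Nat.le_of_ble_eq_true hb
    let Kb : Subgroup G := K ⊓ (MulAction.stabilizer (Equiv.Perm (Fin A.N)) (⟨b, hbN⟩ : Fin A.N)).comap π
    have ih := le_card_of_levels hA hl L (b :: fixed) hrest Kb fun x hx hfix =>
      ⟨hK x hx fun q hq => hfix q (List.mem_cons_of_mem _ hq),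
        MulAction.mem_stabilizer_iff.2 (hfix ⟨b, hbN⟩ List.mem_cons_self)⟩
    have hfl := fun w => letters_flat (S := S) hl w
    let t : Fin T.length → G := fun i => evL (S.elem g) T[i.1]
    have ht : ∀ i, t i ∈ K := fun i => by
      have hm := hT _ (List.getElem_mem i.2)
      refine hK _ (evL_mem fun k hk => Subgroup.subset_closure ⟨k, Nat.le_of_ble_eq_true (hm.1 k hk), rfl⟩)
        fun q hq => Fin.ext ?_
      show (π (evL (S.elem g) T[i.1]) q : ℕ) = q
      rw [← ev_flat, hA.apply_ev _ (hfl _) q]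
      exact Nat.eq_of_beq_eq_true (hm.2 q.1 hq)
    have himg : ∀ i, (π (t i) ⟨b, hbN⟩ : ℕ) = A.go (S.flat T[i.1]) b := fun i => by
      show (π (evL (S.elem g) T[i.1]) _ : ℕ) = _
      rw [← ev_flat, hA.apply_ev _ (hfl _) ⟨b, hbN⟩]
    obtain ⟨-, hpw⟩ := inc_pairwise hinc
    have hdist : ∀ i j : Fin T.length, π (t i) ⟨b, hbN⟩ = π (t j) ⟨b, hbN⟩ → i = j := by
      intro i j e
      have e' : A.go (S.flat T[i.1]) b = A.go (S.flat T[j.1]) b := by rw [← himg, ← himg, e]
      have key := List.pairwise_iff_getElem.1 hpw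
      rcases lt_trichotomy i.1 j.1 with l | l | l
      · have := key i.1 j.1 i.2 j.2 l
        simp [code, e'] at this
      · exact Fin.ext l
      · have := key j.1 i.1 j.2 i.2 l
        simp [code, e'] at this
    let f : Fin T.length × Kb → K := fun x => ⟨t x.1 * x.2.1, mul_mem (ht x.1) x.2.2.1⟩
    have hf : Function.Injective f := by
      rintro ⟨i, x⟩ ⟨j, y⟩ e
      have e1 : t i * x.1 = t j * y.1 := congrArg Subtype.val e
      have hx : π x.1 ⟨b, hbN⟩ = ⟨b, hbN⟩ := x.2.2
      have hy : π y.1 ⟨b, hbN⟩ = ⟨b, hbN⟩ := y.2.2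
      have e2 := congrArg (fun z => π z ⟨b, hbN⟩) e1
      simp only [map_mul, Equiv.Perm.mul_apply, hx, hy] at e2
      obtain rfl := hdist i j e2
      exact Prod.ext rfl (Subtype.ext (mul_left_cancel e1))
    have hc := Nat.card_le_card_of_injective f hf
    rw [Nat.card_prod, Nat.card_fin] at hc
    rw [List.map_cons, List.prod_cons]
    exact (Nat.mul_le_mul_left _ ih).trans hc

theorem le_card_of_chain [Finite G] (hA : A.Hom g π) (_hb : ∀ b ∈ base, b < A.N) (hl : Act.lettersOk A.n S.ews = true)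
    {L : List (ℕ × List (List ℕ))} (h : S.chkChain A base L = true) :
    S.P.p ^ S.P.n ≤ Nat.card (Subgroup.closure (S.elem g '' {k | k < S.P.n})) := by
  simp only [chkChain, Bool.and_eq_true] at h
  obtain ⟨⟨h1, -⟩, h2⟩ := h
  rw [← Nat.eq_of_beq_eq_true h2]
  exact le_card_of_levels hA hl L [] h1 _ fun x hx _ => hx

/-- The certificate gives a Sylow certificate. -/
theorem sylowCert_chain (hA : A.Hom g π) (hb : ∀ b ∈ base, b < A.N)
    (det : ∀ y : G, (∀ q : Fin A.N, (q : ℕ) ∈ base → π y q = q) → y = 1) [Finite G] {L : List (ℕ × List (List ℕ))} {p N : ℕ} (hN : Nat.card G = N)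
    (hp : S.P.p = p) (hp0 : 0 < p) (hr : S.chkRel A base = true) (hc : S.chkChain A base L = true)
    (hk : S.K.check S.P S.C = true) (hf : S.P.R ≤ S.K.free) (hi : N / p ^ S.P.n % p ≠ 0) :
    Nonempty (SylowCert G p) := by
  simp only [chkRel, Bool.and_eq_true, List.all_eq_true, List.mem_range] at hr
  obtain ⟨⟨⟨hl1, hl2⟩, hrels⟩, hconj⟩ := hr
  have hfl := fun w => letters_flat (S := S) hl1 w
  have rels : ∀ j < S.P.n, ∀ i ≤ j, evL (S.elem g) (S.P.rule j i) = lhsV S.P (S.elem g) j i := by
    intro j hj i hij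
    have h := eq_of_agree hA hb det (hfl _) (hfl _) (hrels j hj i (Nat.lt_succ_of_le hij))
    rw [ev_flat, ev_flat] at h
    rw [h, lhsV, PC.lhs]
    split_ifs
    · next he => subst he; exact evL_replicate (S.elem g) _ _
    · simp [evL]
  set H := Subgroup.closure (S.elem g '' {k | k < S.P.n})
  have hwf : S.P.wellFormed = true := by
    have h := hk
    simp only [Cert.check, Bool.and_eq_true] at h
    exact h.1.1.1
  have hpp : 0 < S.P.p := hp ▸ hp0
  have hup : Nat.card H ≤ p ^ S.P.n := by
    have h := card_upper (P := S.P) hwf hpp (S.elem g) (z := (1 : G)) (one_mem _)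
      (fun j hj i hij => by rw [rels j hj i hij, inv_mul_cancel]; exact one_mem _) _ _ (zero_add _)
    rw [Subgroup.zpowers_one_eq_bot, Subgroup.card_bot, one_mul, hp] at h
    refine le_trans (le_of_eq ?_) h
    rw [upper, Set.singleton_union, Subgroup.closure_insert_one]
    simp only [Nat.zero_le, true_and]
    rfl
  have hdown : p ^ S.P.n ≤ Nat.card H := hp ▸ S.le_card_of_chain hA hb hl1 hc
  refine ⟨⟨S.P, S.elem g, fun m => ev g (S.gws.getD m []), S.C, S.K, hp, rels, fun c hc' => ?_, hk, hf, hdown,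
    fun hdvd => hi ?_⟩⟩
  · have h := eq_of_agree hA hb det (u := S.gws.getD c.1 [] ++ S.flat c.2.1)
      (v := S.flat c.2.2 ++ S.gws.getD c.1 [])
      (fun s hs => (List.mem_append.1 hs).elim (letters_getD hl2 _ s) (hfl _ s))
      (fun s hs => (List.mem_append.1 hs).elim (hfl _ s) (letters_getD hl2 _ s)) (hconj c hc')
    rwa [ev_append, ev_append, ev_flat, ev_flat] at h
  · have hH : Nat.card H = p ^ S.P.n := le_antisymm hup hdown
    have hmul := H.card_mul_index
    rw [hH, hN] at hmul
    rw [← hmul, Nat.mul_div_cancel_left _ (pow_pos (hp ▸ hpp) _)]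
    exact Nat.dvd_iff_mod_eq_zero.1 hdvd


/-- The certificate gives a Sylow certificate with one free commutator of any order. -/
theorem sylowExp_chain (hA : A.Hom g π) (hb : ∀ b ∈ base, b < A.N)
    (det : ∀ y : G, (∀ q : Fin A.N, (q : ℕ) ∈ base → π y q = q) → y = 1) [Finite G] {L : List (ℕ × List (List ℕ))} {p N : ℕ} (hN : Nat.card G = N)
    (hp : S.P.p = p) (hp0 : 0 < p) (hr : S.chkRel A base = true) (hc : S.chkChain A base L = true)
    (hk : S.K.check S.P S.C = true) {j i : ℕ} (hji : i < j ∧ j < S.P.n)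
    (hf : S.K.free = tri j i) (hcm : S.P.rule j i = [i, j]) {m : ℕ} (hpj : ev g (S.flat (List.replicate m j)) = 1) (hi : N / p ^ S.P.n % p ≠ 0) :
    ∃ T : SylowExp G p, T.m = m := by
  simp only [chkRel, Bool.and_eq_true, List.all_eq_true, List.mem_range] at hr
  obtain ⟨⟨⟨hl1, hl2⟩, hrels⟩, hconj⟩ := hr
  have hfl := fun w => letters_flat (S := S) hl1 w
  have rels : ∀ j < S.P.n, ∀ i ≤ j, evL (S.elem g) (S.P.rule j i) = lhsV S.P (S.elem g) j i := by
    intro j hj i hij
    have h := eq_of_agree hA hb det (hfl _) (hfl _) (hrels j hj i (Nat.lt_succ_of_le hij))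
    rw [ev_flat, ev_flat] at h
    rw [h, lhsV, PC.lhs]
    split_ifs
    · next he => subst he; exact evL_replicate (S.elem g) _ _
    · simp [evL]
  set H := Subgroup.closure (S.elem g '' {k | k < S.P.n})
  have hwf : S.P.wellFormed = true := by
    have h := hk
    simp only [Cert.check, Bool.and_eq_true] at h
    exact h.1.1.1
  have hpp : 0 < S.P.p := hp ▸ hp0
  have hup : Nat.card H ≤ p ^ S.P.n := by
    have h := card_upper (P := S.P) hwf hpp (S.elem g) (z := (1 : G)) (one_mem _)
      (fun j hj i hij => by rw [rels j hj i hij, inv_mul_cancel]; exact one_mem _) _ _ (zero_add _)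
    rw [Subgroup.zpowers_one_eq_bot, Subgroup.card_bot, one_mul, hp] at h
    refine le_trans (le_of_eq ?_) h
    rw [upper, Set.singleton_union, Subgroup.closure_insert_one]
    simp only [Nat.zero_le, true_and]
    rfl
  have hdown : p ^ S.P.n ≤ Nat.card H := hp ▸ S.le_card_of_chain hA hb hl1 hc
  have hpow : S.elem g j ^ m = 1 := by
    rw [← hpj, ev_flat]; exact (evL_replicate (S.elem g) _ _).symm
  refine ⟨⟨S.P, S.elem g, fun m => ev g (S.gws.getD m []), S.C, S.K, j, i, hp, rels, fun c hc' => ?_, hk, hji.1,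
    hji.2, hf, hcm, m, hpow, hdown,
    fun hdvd => hi ?_⟩, rfl⟩
  · have h := eq_of_agree hA hb det (u := S.gws.getD c.1 [] ++ S.flat c.2.1)
      (v := S.flat c.2.2 ++ S.gws.getD c.1 [])
      (fun s hs => (List.mem_append.1 hs).elim (letters_getD hl2 _ s) (hfl _ s))
      (fun s hs => (List.mem_append.1 hs).elim (hfl _ s) (letters_getD hl2 _ s)) (hconj c hc')
    rwa [ev_append, ev_append, ev_flat, ev_flat] at h
  · have hH : Nat.card H = p ^ S.P.n := le_antisymm hup hdown
    have hmul := H.card_mul_index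
    rw [hH, hN] at hmul
    rw [← hmul, Nat.mul_div_cancel_left _ (pow_pos (hp ▸ hpp) _)]
    exact Nat.dvd_iff_mod_eq_zero.1 hdvd

end Cfsg.Agent.Grp.SchurM.Tails.TableCert
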