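import Cfsg.Agent.Lib.Grp.SchurM.SylowBounds

/-!
Multipliers of order dividing six from a dihedral Sylow 2-subgroup of order eight and an elementary Sylow
3-subgroup of order nine, and the pullback of two stem extensions with kernels of coprime orders.
-/

set_option autoImplicit false

namespace Cfsg.Agent.Grp.SchurM

open scoped commutatorElement

/-- The kernel of every stem extension is cyclic of order dividing six. -/
theorem bound_six {G : Type*} [Group G] [Finite G] {Δ : Type*} [Group Δ] [Finite Δ] (σ : Δ →* G)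
    (hσ : Cfsg.IsStemExtension σ) (A B X Y : G) (hA : orderOf A = 4) (hB : B * B = 1)
    (hBA : B * A * B = A⁻¹) (hBn : ∀ k < 4, A ^ k ≠ B) (hX : orderOf X = 3) (hY : Y ^ 3 = 1)
    (hXY : Commute X Y) (hYn : ∀ k < 3, X ^ k ≠ Y) {m2 m3 : ℕ} (h2 : Nat.card G = 8 * m2) (hm2 : ¬ 2 ∣ m2)
    (h3 : Nat.card G = 9 * m3) (hm3 : ¬ 3 ∣ m3)
    (hsq : ∀ r : ℕ, r.Prime → r ≠ 2 → r ≠ 3 → ¬ r ^ 2 ∣ Nat.card G) :
    ∃ g ∈ σ.ker, g ^ 6 = 1 ∧ σ.ker ≤ Subgroup.zpowers g := by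
  classical
  obtain ⟨hsurj, hc, hder⟩ := hσ
  have hmax : ∀ (Q : Subgroup G) (z : Δ), z ∈ σ.ker → (orderOf z).Coprime Q.index →
      z ∈ ⁅Q.comap σ, Q.comap σ⁆ := fun Q z hz hcop =>
    Spor.Mult.mem_derived_of_coprime _ (hc hz) (hder hz)
      (by rwa [Subgroup.index_comap_of_surjective _ hsurj])
  obtain ⟨x, hx⟩ := hsurj X
  obtain ⟨y, hy⟩ := hsurj Y
  obtain ⟨e, hek, he3, hem⟩ := derived_elementary σ hc (x := x) (y := y) (p := 3)
    (by rw [hx, hy]; exact hXY) (by rw [hx, ← hX, pow_orderOf_eq_one])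
  obtain ⟨a, ha⟩ := hsurj A
  obtain ⟨b, hb⟩ := hsurj B
  have hBinv : B⁻¹ = B := inv_eq_of_mul_eq_one_right hB
  have hA4 : A ^ 4 = 1 := by rw [← hA, pow_orderOf_eq_one]
  have h4c : Commute (a ^ 4) b :=
    (Subgroup.mem_center_iff.1 (hc (show a ^ 4 ∈ σ.ker by rw [MonoidHom.mem_ker, map_pow, ha, hA4])) b).symm
  obtain ⟨c, hc2, hc4, hcm⟩ := derived_dihedral σ hc (a := a) (b := b)
    (by rw [ha, hb, hBinv]; exact hBA) h4c
  have hck : c ^ 2 ∈ σ.ker := by
    rw [MonoidHom.mem_ker, map_pow, hc2, ha, ← pow_mul]; exact hA4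
  have hnot : ∀ {a b : G} {n : ℕ}, orderOf a = n → (∀ k < n, a ^ k ≠ b) → b ∉ Subgroup.zpowers a := by
    intro a b n hn h hb
    rw [← IsOfFinOrder.mem_powers_iff_mem_zpowers (isOfFinOrder_of_finite _),
      IsOfFinOrder.mem_powers_iff_mem_range_orderOf (isOfFinOrder_of_finite _)] at hb
    simp only [Finset.mem_image, Finset.mem_range, hn] at hb
    obtain ⟨k, hk, hk'⟩ := hb
    exact h k hk hk'
  have hnorm : ∀ {a b : G} (j : ℤ), b * a * b⁻¹ = a ^ j → b ∈ Subgroup.normalizer (Subgroup.zpowers a : Set G) := by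
    intro a b j h
    rw [← Subgroup.mem_toSubmonoid]
    have hmap : (Subgroup.zpowers a).map (MulAut.conj b).toMonoidHom ≤ Subgroup.zpowers a := by
      rw [MonoidHom.map_zpowers, Subgroup.zpowers_le]
      exact ⟨j, h.symm⟩
    refine Subgroup.mem_normalizer_iff.2 fun n => ⟨fun hn => hmap ⟨n, hn, rfl⟩, fun hn => ?_⟩
    have hinj : Nat.card ((Subgroup.zpowers a).map (MulAut.conj b).toMonoidHom) = Nat.card (Subgroup.zpowers a) :=
      Subgroup.card_map_of_injective (MulAut.conj b).injective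
    rw [← Subgroup.eq_of_le_of_card_ge hmap hinj.ge] at hn
    obtain ⟨n', hn', he⟩ := hn
    have : n' = n := (MulAut.conj b).injective he
    rwa [← this]
  have hind3 : ¬ 3 ∣ (Subgroup.closure (σ '' {x, y})).index := by
    rw [Set.image_pair, hx, hy]
    refine not_dvd_index_of_dvd _ (d := 9) (m := m3) ?_ h3 (by norm_num) hm3
    have := mul_orderOf_dvd_card_closure (a := X) (b := Y) Nat.prime_three
      (hnorm 1 (by rw [← hXY.eq, mul_inv_cancel_right, zpow_one])) (by rw [hY]; exact one_mem _) (hnot hX hYn)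
    rwa [hX] at this
  have hind2 : ¬ 2 ∣ (Subgroup.closure (σ '' {a, b})).index := by
    rw [Set.image_pair, ha, hb]
    refine not_dvd_index_of_dvd _ (d := 8) (m := m2) ?_ h2 (by norm_num) hm2
    have := mul_orderOf_dvd_card_closure (a := A) (b := B) Nat.prime_two
      (hnorm (-1) (by rw [hBinv, hBA, zpow_neg_one])) (by rw [sq, hB]; exact one_mem _) (hnot hA hBn)
    rwa [hA] at this
  have key : ∀ z ∈ σ.ker, ∀ r : ℕ, r.Prime → orderOf z = r → r = 2 ∨ r = 3 := by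
    intro z hz r hr hzo
    by_contra hr'
    push Not at hr'
    haveI := Fact.mk hr
    obtain ⟨P⟩ : Nonempty (Sylow r G) := inferInstance
    have hPc : IsCyclic P.toSubgroup := by
      have hP := P.card_eq_multiplicity
      have hle : (Nat.card G).factorization r ≤ 1 := by
        by_contra h1
        push Not at h1
        exact hsq r hr hr'.1 hr'.2 ((Nat.Prime.pow_dvd_iff_le_factorization hr Nat.card_pos.ne').2 h1)
      rcases Nat.le_one_iff_eq_zero_or_eq_one.1 hle with e | e <;> rw [e] at hP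
      · haveI : Subsingleton P.toSubgroup := (Nat.card_eq_one_iff_unique.1 (by simpa using hP)).1
        exact isCyclic_of_subsingleton
      · exact isCyclic_of_prime_card (p := r) (by simpa using hP)
    obtain ⟨g, hg⟩ := (Subgroup.isCyclic_iff_exists_zpowers_eq_top _).1 hPc
    have hzm := hmax P.toSubgroup z hz (by rw [hzo]; exact hr.coprime_iff_not_dvd.2 P.not_dvd_index)
    rw [← hg] at hzm
    exact Spor.Mult.no_elt_of_comm _ (comap_zpowers_comm σ hc hsurj g) hr hzo hzm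
  refine ⟨e * c ^ 2, mul_mem hek hck, ?_, fun z hz => ?_⟩
  · have hec : Commute e (c ^ 2) := (Subgroup.mem_center_iff.1 (hc hek) (c ^ 2)).symm
    rw [hec.mul_pow, show (6 : ℕ) = 3 * 2 from rfl, pow_mul, he3, one_pow, one_mul, ← pow_mul,
      show 2 * (3 * 2) = 4 * 3 from rfl, pow_mul, hc4, one_pow]
  set g := e * c ^ 2 with hg
  have hec : Commute e (c ^ 2) := (Subgroup.mem_center_iff.1 (hc hek) (c ^ 2)).symm
  have hg3 : g ^ 3 = c ^ 2 := by
    rw [hg, hec.mul_pow, he3, one_mul, ← pow_mul, show 2 * 3 = 4 + 2 from rfl, pow_add, hc4, one_mul]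
  have hg4 : g ^ 4 = e := by
    rw [hg, hec.mul_pow, pow_succ e 3, he3, one_mul, ← pow_mul, show 2 * 4 = 4 * 2 from rfl, pow_mul, hc4,
      one_pow, mul_one]
  set n := orderOf z with hn
  have hn0 : n ≠ 0 := (orderOf_pos z).ne'
  set s := ordProj[2] n
  set t := ordCompl[2] n
  have hst : s * t = n := Nat.ordProj_mul_ordCompl_eq_self n 2
  have hcop : Nat.Coprime s t := (Nat.coprime_ordCompl Nat.prime_two hn0).pow_left _
  have ht0 : t ≠ 0 := fun h => hn0 (by rw [← hst, h, mul_zero])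
  have hs0 : s ≠ 0 := fun h => hn0 (by rw [← hst, h, zero_mul])
  have hu : z ^ t ∈ Subgroup.zpowers g := by
    have ho : orderOf (z ^ t) = s := by
      rw [orderOf_pow_of_dvd ht0 (Dvd.intro_left _ hst), ← hn, ← hst, Nat.mul_div_cancel _ (Nat.pos_of_ne_zero ht0)]
    obtain ⟨k, hk⟩ := hcm _ (hmax _ (z ^ t) (pow_mem hz t)
      (by rw [ho]; exact (Nat.prime_two.coprime_iff_not_dvd.2 hind2).pow_left _))
    simp only at hk
    have h1 : σ c ^ k = 1 := by rw [← map_zpow, hk]; exact pow_mem hz t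
    obtain ⟨m, rfl⟩ : (2 : ℤ) ∣ k := by
      rw [hc2, ha, ← zpow_natCast, ← zpow_mul, ← orderOf_dvd_iff_zpow_eq_one, hA] at h1
      obtain ⟨m, hm⟩ := h1
      exact ⟨m, by push_cast at hm; omega⟩
    rw [← hk, zpow_mul, show (2 : ℤ) = ((2 : ℕ) : ℤ) from rfl, zpow_natCast, ← hg3]
    exact zpow_mem (pow_mem (Subgroup.mem_zpowers g) 3) m
  have hv : z ^ s ∈ Subgroup.zpowers g := by
    have ho : orderOf (z ^ s) = t := by
      rw [orderOf_pow_of_dvd hs0 (Dvd.intro _ hst), ← hn, ← hst, Nat.mul_div_cancel_left _ (Nat.pos_of_ne_zero hs0)]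
    obtain ⟨k, hk⟩ := hem _ (hmax _ (z ^ s) (pow_mem hz s) (by
      rw [ho]
      refine Nat.coprime_of_dvd fun r hr hr1 hr2 => hind3 ?_
      have hpow : (z ^ s) ^ (orderOf (z ^ s) / r) ∈ σ.ker := pow_mem (pow_mem hz s) _
      have hor : orderOf ((z ^ s) ^ (orderOf (z ^ s) / r)) = r := by
        rw [ho, orderOf_pow_of_dvd (Nat.div_pos (Nat.le_of_dvd (Nat.pos_of_ne_zero ht0) hr1) hr.pos).ne'
          (ho.symm ▸ Nat.div_dvd_of_dvd hr1), ho, Nat.div_div_self hr1 ht0]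
      rcases key _ hpow r hr hor with rfl | rfl
      · exact absurd hr1 (Nat.not_dvd_ordCompl Nat.prime_two hn0)
      · exact hr2))
    simp only at hk
    rw [← hk, ← hg4]
    exact zpow_mem (pow_mem (Subgroup.mem_zpowers g) 4) k
  obtain ⟨u, v, huv⟩ := (Int.isCoprime_iff_gcd_eq_one.2 (by simpa [Int.gcd] using hcop) : IsCoprime (s : ℤ) (t : ℤ))
  have : z = (z ^ s) ^ u * (z ^ t) ^ v := by
    rw [← zpow_natCast z s, ← zpow_natCast z t, ← zpow_mul, ← zpow_mul, ← zpow_add, mul_comm (s : ℤ),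
      mul_comm (t : ℤ), huv, zpow_one]
  rw [this]
  exact mul_mem (zpow_mem hv u) (zpow_mem hu v)

universe u

/-- The pullback of stem extensions with kernels of coprime orders. -/
theorem exists_stem_pullback {G Γ₁ Γ₂ : Type u} [Group G] [Group Γ₁] [Group Γ₂] [Finite Γ₁] [Finite Γ₂]
    (σ₁ : Γ₁ →* G) (σ₂ : Γ₂ →* G) (h₁ : Cfsg.IsStemExtension σ₁) (h₂ : Cfsg.IsStemExtension σ₂)
    (hcy₁ : IsCyclic σ₁.ker) (hcy₂ : IsCyclic σ₂.ker) {a b : ℕ} (ha : Nat.card σ₁.ker = a)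
    (hb : Nat.card σ₂.ker = b) (hab : a.Coprime b) :
    ∃ (Γ : Type u) (_ : Group Γ) (_ : Finite Γ) (σ : Γ →* G),
      Cfsg.IsStemExtension σ ∧ Nonempty (σ.ker ≃* Multiplicative (ZMod (a * b))) := by
  let P : Subgroup (Γ₁ × Γ₂) := (σ₁.comp (MonoidHom.fst _ _)).eqLocus (σ₂.comp (MonoidHom.snd _ _))
  let p₁ : P →* Γ₁ := (MonoidHom.fst _ _).comp P.subtype
  let p₂ : P →* Γ₂ := (MonoidHom.snd _ _).comp P.subtype
  let σ : P →* G := σ₁.comp p₁
  have hp₁ : Function.Surjective p₁ := fun x => by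
    obtain ⟨y, hy⟩ := h₂.1 (σ₁ x); exact ⟨⟨(x, y), hy.symm⟩, rfl⟩
  have hp₂ : Function.Surjective p₂ := fun y => by
    obtain ⟨x, hx⟩ := h₁.1 (σ₂ y); exact ⟨⟨(x, y), hx⟩, rfl⟩
  have hmem : ∀ x : P, x ∈ σ.ker → x.1.1 ∈ σ₁.ker ∧ x.1.2 ∈ σ₂.ker := fun x hx =>
    ⟨hx, (show σ₁ x.1.1 = σ₂ x.1.2 from x.2).symm.trans hx⟩
  obtain ⟨na, hna1, hna2⟩ := Nat.chineseRemainder hab 1 0
  obtain ⟨nb, hnb1, hnb2⟩ := Nat.chineseRemainder hab 0 1
  have hpa : ∀ k ∈ σ₁.ker, k ^ a = 1 := fun k hk => by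
    have := congrArg Subtype.val (pow_card_eq_one' (G := σ₁.ker) (x := ⟨k, hk⟩))
    rwa [ha] at this
  have hpb : ∀ k ∈ σ₂.ker, k ^ b = 1 := fun k hk => by
    have := congrArg Subtype.val (pow_card_eq_one' (G := σ₂.ker) (x := ⟨k, hk⟩))
    rwa [hb] at this
  have hred : ∀ {H : Type u} [Group H] (k : H) (m n r : ℕ), k ^ m = 1 → n ≡ r [MOD m] → k ^ n = k ^ r := by
    intro H _ k m n r hk hnr
    exact pow_eq_pow_iff_modEq.2 (hnr.of_dvd (orderOf_dvd_of_pow_eq_one hk))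
  refine ⟨P, inferInstance, inferInstance, σ, ⟨h₁.1.comp hp₁, fun x hx => ?_, fun x hx => ?_⟩, ?_⟩
  · exact Subgroup.mem_center_iff.2 fun y => Subtype.ext (Prod.ext
      (Subgroup.mem_center_iff.1 (h₁.2.1 (hmem x hx).1) y.1.1)
      (Subgroup.mem_center_iff.1 (h₂.2.1 (hmem x hx).2) y.1.2))
  · have hmap : ∀ {H : Type u} [Group H] (f : P →* H), Function.Surjective f →
        (commutator P).map f = commutator H := by
      intro H _ f hf
      rw [commutator_def, commutator_def, Subgroup.map_commutator, Subgroup.map_top_of_surjective f hf]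
    obtain ⟨u, hu, hu'⟩ : x.1.1 ∈ (commutator P).map p₁ := by rw [hmap p₁ hp₁]; exact h₁.2.2 (hmem x hx).1
    obtain ⟨v, hv, hv'⟩ : x.1.2 ∈ (commutator P).map p₂ := by rw [hmap p₂ hp₂]; exact h₂.2.2 (hmem x hx).2
    have huk : u ∈ σ.ker := by
      show σ₁ (p₁ u) = 1; rw [hu']; exact (hmem x hx).1
    have hvk : v ∈ σ.ker := by
      show σ₁ (p₁ v) = 1
      rw [show σ₁ (p₁ v) = σ₂ (p₂ v) from v.2, hv']; exact (hmem x hx).2
    have : x = u ^ na * v ^ nb := by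
      refine Subtype.ext (Prod.ext ?_ ?_)
      · show x.1.1 = p₁ u ^ na * p₁ v ^ nb
        rw [hu', hred _ a na 1 (hpa _ (hmem x hx).1) hna1, hred (p₁ v) a nb 0 (hpa _ (hmem v hvk).1) hnb1,
          pow_one, pow_zero, mul_one]
      · show x.1.2 = p₂ u ^ na * p₂ v ^ nb
        rw [hv', hred (p₂ u) b na 0 (hpb _ (hmem u huk).2) hna2, hred _ b nb 1 (hpb _ (hmem x hx).2) hnb2,
          pow_one, pow_zero, one_mul]
    rw [this]
    exact mul_mem (pow_mem hu _) (pow_mem hv _)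
  · let ι : σ.ker ≃* σ₁.ker × σ₂.ker :=
      { toFun := fun x => (⟨x.1.1.1, (hmem x.1 x.2).1⟩, ⟨x.1.1.2, (hmem x.1 x.2).2⟩)
        invFun := fun y => ⟨⟨(y.1.1, y.2.1), (show σ₁ y.1.1 = σ₂ y.2.1 from y.1.2.trans y.2.2.symm)⟩, y.1.2⟩
        left_inv := fun _ => rfl
        right_inv := fun _ => rfl
        map_mul' := fun _ _ => rfl }
    haveI : IsCyclic (σ₁.ker × σ₂.ker) :=
      Group.isCyclic_prod_iff.2 ⟨hcy₁, hcy₂, by rw [ha, hb]; exact hab⟩
    have hc : Nat.card (σ₁.ker × σ₂.ker) = a * b := by rw [Nat.card_prod, ha, hb]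
    exact ⟨ι.trans (zmodCyclicMulEquiv inferInstance).symm |>.trans
      (hc ▸ MulEquiv.refl (Multiplicative (ZMod (Nat.card (σ₁.ker × σ₂.ker)))))⟩

end Cfsg.Agent.Grp.SchurM
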