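import Cfsg.Prelude.Def_KGroupFacts
import Mathlib

/-! The fibre product of two stem extensions with kernels of coprime orders. -/

set_option autoImplicit false
set_option linter.style.haveILetI false

namespace Cfsg.Agent.Grp.SchurM

universe u

/-- Two stem extensions with kernels of coprime orders give one with the product of the kernels. -/
theorem exists_stem_prod {G Γ₁ Γ₂ : Type u} [Group G] [Group Γ₁] [Group Γ₂] [Finite Γ₁] [Finite Γ₂]
    (σ₁ : Γ₁ →* G) (σ₂ : Γ₂ →* G) (h₁ : Cfsg.IsStemExtension σ₁) (h₂ : Cfsg.IsStemExtension σ₂)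
    {a b : ℕ} (ha : Nat.card σ₁.ker = a) (hb : Nat.card σ₂.ker = b) (hab : a.Coprime b) :
    ∃ (Γ : Type u) (_ : Group Γ) (_ : Finite Γ) (σ : Γ →* G),
      Cfsg.IsStemExtension σ ∧ Nonempty (σ.ker ≃* σ₁.ker × σ₂.ker) := by
  let P : Subgroup (Γ₁ × Γ₂) := (σ₁.comp (MonoidHom.fst _ _)).eqLocus (σ₂.comp (MonoidHom.snd _ _))
  let p₁ : P →* Γ₁ := (MonoidHom.fst _ _).comp P.subtype
  let p₂ : P →* Γ₂ := (MonoidHom.snd _ _).comp P.subtype
  let σ : P →* G := σ₁.comp p₁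
  have hp₁ : Function.Surjective p₁ := fun x => by
    obtain ⟨y, hy⟩ := h₂.1 (σ₁ x); exact ⟨⟨(x, y), hy.symm⟩, rfl⟩
  have hp₂ : Function.Surjective p₂ := fun y => by
    obtain ⟨x, hx⟩ := h₁.1 (σ₂ y); exact ⟨⟨(x, y), hx⟩, rfl⟩
  have hmem : ∀ x : P, x ∈ σ.ker → x.1.1 ∈ σ₁.ker ∧ x.1.2 ∈ σ₂.ker := fun x hx =>
    ⟨hx, (show σ₁ x.1.1 = σ₂ x.1.2 from x.2).symm.trans hx⟩
  obtain ⟨na, hna1, hna2⟩ := Nat.chineseRemainder hab 1 0
  obtain ⟨nb, hnb1, hnb2⟩ := Nat.chineseRemainder hab 0 1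
  have hpa : ∀ k ∈ σ₁.ker, k ^ a = 1 := fun k hk => by
    have := congrArg Subtype.val (pow_card_eq_one' (G := σ₁.ker) (x := ⟨k, hk⟩))
    rwa [ha] at this
  have hpb : ∀ k ∈ σ₂.ker, k ^ b = 1 := fun k hk => by
    have := congrArg Subtype.val (pow_card_eq_one' (G := σ₂.ker) (x := ⟨k, hk⟩))
    rwa [hb] at this
  have hred : ∀ {H : Type u} [Group H] (k : H) (m n r : ℕ), k ^ m = 1 → n ≡ r [MOD m] → k ^ n = k ^ r := by
    intro H _ k m n r hk hnr
    exact pow_eq_pow_iff_modEq.2 (hnr.of_dvd (orderOf_dvd_of_pow_eq_one hk))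
  refine ⟨P, inferInstance, inferInstance, σ, ⟨h₁.1.comp hp₁, fun x hx => ?_, fun x hx => ?_⟩, ?_⟩
  · exact Subgroup.mem_center_iff.2 fun y => Subtype.ext (Prod.ext
      (Subgroup.mem_center_iff.1 (h₁.2.1 (hmem x hx).1) y.1.1)
      (Subgroup.mem_center_iff.1 (h₂.2.1 (hmem x hx).2) y.1.2))
  · have hmap : ∀ {H : Type u} [Group H] (f : P →* H), Function.Surjective f →
        (commutator P).map f = commutator H := by
      intro H _ f hf
      rw [commutator_def, commutator_def, Subgroup.map_commutator, Subgroup.map_top_of_surjective f hf]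
    obtain ⟨u, hu, hu'⟩ : x.1.1 ∈ (commutator P).map p₁ := by rw [hmap p₁ hp₁]; exact h₁.2.2 (hmem x hx).1
    obtain ⟨v, hv, hv'⟩ : x.1.2 ∈ (commutator P).map p₂ := by rw [hmap p₂ hp₂]; exact h₂.2.2 (hmem x hx).2
    have huk : u ∈ σ.ker := by
      show σ₁ (p₁ u) = 1; rw [hu']; exact (hmem x hx).1
    have hvk : v ∈ σ.ker := by
      show σ₁ (p₁ v) = 1
      rw [show σ₁ (p₁ v) = σ₂ (p₂ v) from v.2, hv']; exact (hmem x hx).2
    have : x = u ^ na * v ^ nb := by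
      refine Subtype.ext (Prod.ext ?_ ?_)
      · show x.1.1 = p₁ u ^ na * p₁ v ^ nb
        rw [hu', hred _ a na 1 (hpa _ (hmem x hx).1) hna1, hred (p₁ v) a nb 0 (hpa _ (hmem v hvk).1) hnb1,
          pow_one, pow_zero, mul_one]
      · show x.1.2 = p₂ u ^ na * p₂ v ^ nb
        rw [hv', hred (p₂ u) b na 0 (hpb _ (hmem u huk).2) hna2, hred _ b nb 1 (hpb _ (hmem x hx).2) hnb2,
          pow_one, pow_zero, one_mul]
    rw [this]
    exact mul_mem (pow_mem hu _) (pow_mem hv _)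
  · let ι : σ.ker ≃* σ₁.ker × σ₂.ker :=
      { toFun := fun x => (⟨x.1.1.1, (hmem x.1 x.2).1⟩, ⟨x.1.1.2, (hmem x.1 x.2).2⟩)
        invFun := fun y => ⟨⟨(y.1.1, y.2.1), (show σ₁ y.1.1 = σ₂ y.2.1 from y.1.2.trans y.2.2.symm)⟩, y.1.2⟩
        left_inv := fun _ => rfl
        right_inv := fun _ => rfl
        map_mul' := fun _ _ => rfl }
    exact ⟨ι⟩

end Cfsg.Agent.Grp.SchurM
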