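import Cfsg.Agent.Lib.Grp.SchurM.TailSection

/-! A faster evaluation of certificates between tails, through stored counts. -/

set_option autoImplicit false

namespace Cfsg.Agent.Grp.SchurM.Tails

/-- A stored count. -/
def dig4 (v r : ℕ) : ℕ := (v >>> (4 * r)) % 16

/-- The stored counts are those of the tails. -/
def chkCounts (P : PC) (V : List ℕ) : List (List ℕ) → ℕ → Bool
  | [], k => Nat.ble V.length k
  | T :: l, k => T.all (fun a => Nat.blt a P.R) &&
      (List.range P.R).all (fun r => Nat.beq (dig4 (V.getD k 0) r) (cnt r T % P.p)) && chkCounts P V l (k + 1)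

/-- The combinations, on stored counts. -/
def chkCombos (P : PC) (K : Cert) (V : List ℕ) : Bool :=
  P.wellFormed && P.defsOK &&
    (List.range P.R).all fun r => P.isDef r || Nat.beq r K.free ||
      (List.range P.R).all fun r' => P.isDef r' || Nat.beq r' K.free ||
        Nat.beq (((K.combo.getD r []).map fun k => dig4 (V.getD k 0) r').sum % P.p) (if Nat.beq r' r then 1 else 0)

theorem chkCounts_spec (P : PC) (V : List ℕ) : ∀ (l : List (List ℕ)) (k : ℕ), chkCounts P V l k = true →
    V.length ≤ k + l.length ∧ ∀ i < l.length,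
      (∀ a ∈ l.getD i [], a < P.R) ∧ ∀ r < P.R, dig4 (V.getD (k + i) 0) r = cnt r (l.getD i []) % P.p
  | [], k, h => ⟨by simpa [chkCounts] using h, fun i hi => absurd hi (Nat.not_lt_zero _)⟩
  | T :: l, k, h => by
    simp only [chkCounts, Bool.and_eq_true, List.all_eq_true, List.mem_range] at h
    obtain ⟨⟨ha, hb⟩, hc⟩ := h
    obtain ⟨h1, h2⟩ := chkCounts_spec P V l (k + 1) hc
    refine ⟨by simp only [List.length_cons]; omega, fun i hi => ?_⟩
    rcases i with _ | i
    · exact ⟨fun a h' => Nat.le_of_ble_eq_true (ha a h'), fun r hr => Nat.eq_of_beq_eq_true (hb r hr)⟩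
    · have := h2 i (by simpa using hi)
      rw [show k + (i + 1) = k + 1 + i by omega]
      simpa using this

/-- A certificate is correct once checked on stored counts. -/
theorem Cert.check_of_counts {P : PC} {C : List Conj} {K : Cert} {V : List ℕ}
    (hs : K.eqns.all (fun q => (q.tails P C).isSome) = true) (h1 : chkCounts P V (eqTails P C K) 0 = true)
    (h2 : chkCombos P K V = true) : K.check P C = true := by
  simp only [chkCombos, Bool.and_eq_true, List.all_eq_true, List.mem_range, Bool.or_eq_true] at h2
  obtain ⟨⟨hw, hd⟩, h2⟩ := h2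
  obtain ⟨hlen, hV⟩ := chkCounts_spec P V _ 0 h1
  set T := eqTails P C K
  have hin : ∀ k a, a ∈ T.getD k [] → a < P.R := fun k a ha => by
    rcases Nat.lt_or_ge k T.length with hk | hk
    · exact (hV k hk).1 a ha
    · rw [List.getD_eq_default _ _ hk] at ha; exact absurd ha List.not_mem_nil
  have hcnt : ∀ k, ∀ r < P.R, dig4 (V.getD k 0) r = cnt r (T.getD k []) % P.p := fun k r hr => by
    rcases Nat.lt_or_ge k T.length with hk | hk
    · simpa using (hV k hk).2 r hr
    · rw [List.getD_eq_default _ _ hk, List.getD_eq_default _ _ (by omega)]; simp [dig4, cnt]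
  have hsum : ∀ (r : ℕ), r < P.R → ∀ c : List ℕ,
      cnt r (comboList T c) % P.p = (c.map fun k => dig4 (V.getD k 0) r).sum % P.p := by
    intro r hr c
    induction c with
    | nil => simp [comboList, cnt]
    | cons a c ih =>
      simp only [comboList, List.flatMap_cons, List.map_cons, List.sum_cons] at ih ⊢
      rw [cnt_eq, List.count_append, ← cnt_eq, ← cnt_eq, Nat.add_mod, ih, hcnt a r hr, Nat.add_mod_mod]
  simp only [Cert.check, Bool.and_eq_true, Bool.or_eq_true, List.all_eq_true, List.mem_range]
  refine ⟨⟨⟨hw, hd⟩, List.all_eq_true.1 hs⟩, fun r hr => ?_⟩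
  rcases h2 r hr with h | h
  · exact Or.inl h
  refine Or.inr ⟨fun a ha => ?_, fun r' hr' => ?_⟩
  · simp only [comboList, List.mem_flatMap] at ha
    obtain ⟨k, -, hk⟩ := ha
    exact Nat.ble_eq_true_of_le (hin k a hk)
  · rcases h r' hr' with h' | h'
    · exact Or.inl h'
    · exact Or.inr (by rw [hsum r' hr']; exact h')

end Cfsg.Agent.Grp.SchurM.Tails
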