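import Cfsg.Agent.Lib.Grp.SchurM.SignCover
import Cfsg.Agent.Lib.Grp.SchurM.SylowBounds

/-!
Two cyclic stem extensions of prime order told apart by two commutators, and their fibre product.
-/

set_option autoImplicit false
set_option linter.style.haveILetI false

open Cfsg.Agent.Spor.Cos
open scoped commutatorElement

namespace Cfsg.Agent.Grp.SchurM

universe u v

/-- A commutator of two lifts that vanishes in the second extension and not in the first. -/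
def Apart {G E₁ E₂ : Type u} [Group G] [Group E₁] [Group E₂] (s₁ : E₁ →* G) (s₂ : E₂ →* G) : Prop :=
  ∃ a b : E₁, ∃ a' b' : E₂, s₁ a = s₂ a' ∧ s₁ b = s₂ b' ∧ s₁ ⁅a, b⁆ = 1 ∧ ⁅a, b⁆ ≠ 1 ∧ ⁅a', b'⁆ = 1

/-- The fibre product of two cyclic stem extensions told apart by commutators. -/
theorem exists_stem_fibre {G E₁ E₂ : Type} [Group G] [Group E₁] [Group E₂] [Finite E₁] [Finite E₂] {p : ℕ}
    (hp : p.Prime) {s₁ : E₁ →* G} {s₂ : E₂ →* G} (h₁ : Cfsg.IsStemExtension s₁) (h₂ : Cfsg.IsStemExtension s₂)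
    (c₁ : Nat.card s₁.ker = p) (c₂ : Nat.card s₂.ker = p) (a₁ : Apart s₁ s₂) (a₂ : Apart s₂ s₁)
    {T : Type v} [Group T] (e : G ≃* T) :
    ∃ (U : Type v) (_ : Group U) (_ : Finite U) (q : U →* T), Cfsg.IsStemExtension q ∧
      Nonempty (q.ker ≃* Multiplicative (ZMod p × ZMod p)) := by
  have := Fact.mk hp
  let P : Subgroup (E₁ × E₂) := (s₁.comp (MonoidHom.fst _ _)).eqLocus (s₂.comp (MonoidHom.snd _ _))
  let q₀ : P →* G := (s₁.comp (MonoidHom.fst _ _)).comp P.subtype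
  have hsurj : Function.Surjective q₀ := fun x => by
    obtain ⟨a, ha⟩ := h₁.1 x
    obtain ⟨b, hb⟩ := h₂.1 x
    exact ⟨⟨(a, b), show s₁ a = s₂ b by rw [ha, hb]⟩, ha⟩
  have hk2 : ∀ z : P, z ∈ q₀.ker → z.1.1 ∈ s₁.ker ∧ z.1.2 ∈ s₂.ker := fun z hz =>
    ⟨hz, show s₂ z.1.2 = 1 from (show s₁ z.1.1 = s₂ z.1.2 from z.2) ▸ hz⟩
  have hcen : q₀.ker ≤ Subgroup.center P := fun z hz => Subgroup.mem_center_iff.2 fun w =>
    Subtype.ext (Prod.ext (Subgroup.mem_center_iff.1 (h₁.2.1 (hk2 z hz).1) _)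
      (Subgroup.mem_center_iff.1 (h₂.2.1 (hk2 z hz).2) _))
  obtain ⟨a, b, a', b', ha, hb, hab, hne, h1⟩ := a₁
  obtain ⟨c, d, c', d', hc, hd, hcd, hne', h1'⟩ := a₂
  let z : P := ⁅(⟨(a, a'), ha⟩ : P), ⟨(b, b'), hb⟩⁆
  let w : P := ⁅(⟨(c', c), hc.symm⟩ : P), ⟨(d', d), hd.symm⟩⁆
  have hz : z.1 = (⁅a, b⁆, 1) := by
    rw [← h1]; rfl
  have hw : w.1 = (1, ⁅c, d⁆) := by
    rw [← h1']; rfl
  have hzc : z ∈ commutator P := Subgroup.commutator_mem_commutator (Subgroup.mem_top _) (Subgroup.mem_top _)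
  have hwc : w ∈ commutator P := Subgroup.commutator_mem_commutator (Subgroup.mem_top _) (Subgroup.mem_top _)
  have g₁ : Subgroup.zpowers (⟨_, hab⟩ : s₁.ker) = ⊤ :=
    zpowers_eq_top_of_prime_card c₁ fun h => hne (congrArg Subtype.val h)
  have g₂ : Subgroup.zpowers (⟨_, hcd⟩ : s₂.ker) = ⊤ :=
    zpowers_eq_top_of_prime_card c₂ fun h => hne' (congrArg Subtype.val h)
  have hcom : q₀.ker ≤ commutator P := fun y hy => by
    obtain ⟨m, hm⟩ := g₁.symm ▸ Subgroup.mem_top (⟨_, (hk2 y hy).1⟩ : s₁.ker)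
    obtain ⟨n, hn⟩ := g₂.symm ▸ Subgroup.mem_top (⟨_, (hk2 y hy).2⟩ : s₂.ker)
    have hm' : y.1.1 = ⁅a, b⁆ ^ m := (congrArg Subtype.val hm).symm
    have hn' : y.1.2 = ⁅c, d⁆ ^ n := (congrArg Subtype.val hn).symm
    rw [show y = z ^ m * w ^ n from Subtype.ext (by
      rw [Subgroup.coe_mul, Subgroup.coe_zpow, Subgroup.coe_zpow, hz, hw]
      exact Prod.ext (by simp [hm']) (by simp [hn']))]
    exact mul_mem (zpow_mem hzc _) (zpow_mem hwc _)
  let κ : q₀.ker ≃* s₁.ker × s₂.ker :=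
    { toFun := fun y => (⟨_, (hk2 y.1 y.2).1⟩, ⟨_, (hk2 y.1 y.2).2⟩)
      invFun := fun r => ⟨⟨(r.1.1, r.2.1), (show s₁ r.1.1 = 1 from r.1.2).trans
        (show s₂ r.2.1 = 1 from r.2.2).symm⟩, r.1.2⟩
      left_inv := fun _ => rfl
      right_inv := fun _ => rfl
      map_mul' := fun _ _ => rfl }
  have := isCyclic_of_prime_card c₁
  have := isCyclic_of_prime_card c₂
  have hcard : Nat.card (Multiplicative (ZMod p)) = p := by
    rw [Nat.card_eq_fintype_card, Fintype.card_multiplicative, ZMod.card]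
  let eker : q₀.ker ≃* Multiplicative (ZMod p × ZMod p) :=
    κ.trans (((mulEquivOfCyclicCardEq (c₁.trans hcard.symm)).prodCongr
      (mulEquivOfCyclicCardEq (c₂.trans hcard.symm))).trans (MulEquiv.prodMultiplicative _ _).symm)
  let U := ULift.{v} P
  let up : U ≃* P := MulEquiv.ulift
  let q : U →* T := e.toMonoidHom.comp (q₀.comp up.toMonoidHom)
  have hker : q.ker = q₀.ker.comap up.toMonoidHom := by
    ext x
    simp only [q, Subgroup.mem_comap, MonoidHom.mem_ker, MonoidHom.comp_apply, MulEquiv.coe_toMonoidHom,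
      map_eq_one_iff e e.injective]
  refine ⟨U, inferInstance, inferInstance, q, ⟨e.surjective.comp (hsurj.comp up.surjective), fun x hx => ?_,
    fun x hx => ?_⟩, ?_⟩
  · rw [hker, Subgroup.mem_comap] at hx
    refine Subgroup.mem_center_iff.2 fun y => up.injective ?_
    rw [map_mul, map_mul]
    exact Subgroup.mem_center_iff.1 (hcen hx) _
  · rw [hker, Subgroup.mem_comap] at hx
    have hx' := Subgroup.mem_map_of_mem up.symm.toMonoidHom (hcom hx)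
    rw [commutator_def, Subgroup.map_commutator] at hx'
    exact Subgroup.commutator_mono le_top le_top (by simpa using hx')
  · rw [hker]
    exact ⟨(MulEquiv.mk
      { toFun := fun x => ⟨up x.1, x.2⟩
        invFun := fun y => ⟨up.symm y.1, by
          rw [Subgroup.mem_comap]; show up (up.symm y.1) ∈ q₀.ker; rw [up.apply_symm_apply]; exact y.2⟩
        left_inv := fun x => Subtype.ext (up.symm_apply_apply _)
        right_inv := fun y => Subtype.ext (up.apply_symm_apply _) }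
      (fun x y => Subtype.ext (map_mul up _ _))).trans eker⟩

namespace SignTab

variable {S : SignTab} {G : Type u} [Group G] [Finite G] {g : ℕ → G} {π : G →* Equiv.Perm (Fin S.B.N)}
  {θ : G →* Equiv.Perm (Fin S.C.N)}

/-- Two words with equal values and equal shifts at the root have equal lifts. -/
theorem Ok.ev_eq_of_trk (h : S.Ok) (hA : S.B.Hom g π) (hC : S.C.Hom g θ) (hn : S.C.n = S.B.n) {a b : List ℕ}
    (ha : ∀ s ∈ a, s < S.B.n) (hb : ∀ s ∈ b, s < S.B.n) (he : ev g a = ev g b)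
    (ht : (S.trk S.root a).2 = (S.trk S.root b).2) : ev (S.xs g π) a = ev (S.xs g π) b := by
  have hmem : ∀ {v : List ℕ}, (∀ s ∈ v, s < S.B.n) → ev (S.xs g π) v ∈ S.cov g π := fun hv =>
    ev_mem _ fun s hs => Subgroup.subset_closure ⟨s, hv s hs, rfl⟩
  set A := ev (S.xs g π) a with hAdef
  set B := ev (S.xs g π) b with hBdef
  have h2 : (B⁻¹ * A).2 = 1 := by
    rw [Prod.snd_mul, Prod.snd_inv, hAdef, hBdef, ev_snd a ha, ev_snd b hb, he, inv_mul_cancel]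
  obtain ⟨d, hd⟩ := h.const_of_mem hA hC hn (mul_mem (inv_mem (hmem hb)) (hmem ha)) h2
  let r : S.Pt := ⟨S.root, h.root_lt⟩
  have e1 := trk_spec (π := π) hA a ha r
  have e2 := trk_spec (π := π) hA b hb r
  have e : A.1 (r, 0) = B.1 (r, 0) := by
    refine Prod.ext (Fin.ext ?_) ?_
    · have f1 : ((A.1 (r, 0)).1 : ℕ) = (π (ev g a) r : ℕ) := by
        obtain ⟨σ, k1, -⟩ := h.good_of_mem hA hC hn (hmem ha)
        rw [← hAdef] at k1
        rw [k1, lift_apply, hAdef, ev_snd a ha]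
      have f2 : ((B.1 (r, 0)).1 : ℕ) = (π (ev g b) r : ℕ) := by
        obtain ⟨σ, k1, -⟩ := h.good_of_mem hA hC hn (hmem hb)
        rw [← hBdef] at k1
        rw [k1, lift_apply, hBdef, ev_snd b hb]
      rw [f1, f2, he]
    · rw [e1.2, e2.2, ht]
  have hr : (B⁻¹ * A).1 (r, 0) = (r, 0) := by
    rw [Prod.fst_mul, Prod.fst_inv, Equiv.Perm.mul_apply, e, Equiv.Perm.inv_def, Equiv.symm_apply_apply]
  rw [hd, lift_apply, map_one, Equiv.Perm.one_apply, zero_add] at hr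
  have hd0 : d = 0 := (Prod.ext_iff.1 hr).2
  subst hd0
  refine (inv_mul_eq_one.1 (Prod.ext ?_ h2)).symm
  rw [hd, lift_one]
  rfl

/-- Two pairs of words give a commutator in one extension and none in the other. -/
theorem apart {S₁ S₂ : SignTab} {π₁ : G →* Equiv.Perm (Fin S₁.B.N)} {θ₁ : G →* Equiv.Perm (Fin S₁.C.N)}
    {π₂ : G →* Equiv.Perm (Fin S₂.B.N)} {θ₂ : G →* Equiv.Perm (Fin S₂.C.N)}
    (h₁ : S₁.Ok) (h₂ : S₂.Ok) (hA₁ : S₁.B.Hom g π₁) (hC₁ : S₁.C.Hom g θ₁) (hn₁ : S₁.C.n = S₁.B.n)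
    (hA₂ : S₂.B.Hom g π₂) (hC₂ : S₂.C.Hom g θ₂) (hn₂ : S₂.C.n = S₂.B.n) (hB : S₂.B.n = S₁.B.n)
    {u w : List ℕ} (hcomm : ev g (u ++ w) = ev g (w ++ u)) (hs : S₁.chkShift u w = true)
    (hs' : Nat.beq (S₂.trk S₂.root (u ++ w)).2 (S₂.trk S₂.root (w ++ u)).2 = true) :
    Apart (S₁.proj g π₁) (S₂.proj g π₂) := by
  simp only [chkShift, Bool.and_eq_true, List.all_eq_true, Bool.not_eq_true'] at hs
  obtain ⟨⟨hu, hw⟩, hne⟩ := hs
  have hu' : ∀ s ∈ u, s < S₁.B.n := fun s hs => Nat.le_of_ble_eq_true (hu s hs)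
  have hw' : ∀ s ∈ w, s < S₁.B.n := fun s hs => Nat.le_of_ble_eq_true (hw s hs)
  have huw : ∀ s ∈ u ++ w, s < S₁.B.n := fun s hs => (List.mem_append.1 hs).elim (hu' s) (hw' s)
  have hwu : ∀ s ∈ w ++ u, s < S₁.B.n := fun s hs => (List.mem_append.1 hs).elim (hw' s) (hu' s)
  have hmem : ∀ (S : SignTab) (ρ : G →* Equiv.Perm (Fin S.B.N)) {v : List ℕ}, (∀ s ∈ v, s < S.B.n) →
      ev (S.xs g ρ) v ∈ S.cov g ρ := fun S ρ _ hv => ev_mem _ fun s hs => Subgroup.subset_closure ⟨s, hv s hs, rfl⟩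
  refine ⟨⟨_, hmem S₁ π₁ hu'⟩, ⟨_, hmem S₁ π₁ hw'⟩, ⟨_, hmem S₂ π₂ (hB ▸ hu')⟩, ⟨_, hmem S₂ π₂ (hB ▸ hw')⟩,
    ?_, ?_, ?_, ?_, ?_⟩
  · show (ev (S₁.xs g π₁) u).2 = (ev (S₂.xs g π₂) u).2
    rw [ev_snd u hu', ev_snd u (hB ▸ hu')]
  · show (ev (S₁.xs g π₁) w).2 = (ev (S₂.xs g π₂) w).2
    rw [ev_snd w hw', ev_snd w (hB ▸ hw')]
  · rw [map_commutatorElement, commutatorElement_eq_one_iff_mul_comm]
    show (ev (S₁.xs g π₁) u).2 * (ev (S₁.xs g π₁) w).2 = (ev (S₁.xs g π₁) w).2 * (ev (S₁.xs g π₁) u).2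
    rw [ev_snd u hu', ev_snd w hw', ← ev_append, ← ev_append, hcomm]
  · intro h1
    have h1' := congrArg Subtype.val h1
    have heq : ev (S₁.xs g π₁) (u ++ w) = ev (S₁.xs g π₁) (w ++ u) := by
      rw [ev_append, ev_append]
      exact commutatorElement_eq_one_iff_mul_comm.1 h1'
    have e1 := (trk_spec hA₁ _ huw ⟨S₁.root, h₁.root_lt⟩).2
    rw [heq, (trk_spec hA₁ _ hwu ⟨S₁.root, h₁.root_lt⟩).2, ZMod.natCast_eq_natCast_iff'] at e1
    have hlt : ∀ v, (S₁.trk S₁.root v).2 < S₁.p := fun v => by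
      cases v with
      | nil => exact h₁.prime.pos
      | cons => exact Nat.mod_lt _ h₁.prime.pos
    rw [Nat.mod_eq_of_lt (hlt _), Nat.mod_eq_of_lt (hlt _)] at e1
    rw [← Bool.not_eq_true] at hne
    exact hne (e1 ▸ Nat.beq_refl _)
  · refine Subtype.ext (commutatorElement_eq_one_iff_mul_comm.2 ?_)
    show ev (S₂.xs g π₂) u * ev (S₂.xs g π₂) w = ev (S₂.xs g π₂) w * ev (S₂.xs g π₂) u
    rw [← ev_append, ← ev_append]
    exact h₂.ev_eq_of_trk hA₂ hC₂ hn₂ (hB ▸ huw) (hB ▸ hwu) hcomm (Nat.eq_of_beq_eq_true hs')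

end SignTab

end Cfsg.Agent.Grp.SchurM
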