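import Mathlib

/-!
Collection in a power–commutator presentation, recording the rules used, and the value of the recorded rules in a
central extension.
-/

set_option autoImplicit false

namespace Cfsg.Agent.Grp.SchurM.Tails

/-- A power–commutator presentation: the prime, the number of generators, the right-hand sides of the rules
(rule `tri j i` rewrites `g j * g i` for `i < j` and `g i ^ p` for `i = j`), and the defining rules. -/
structure PC where
  /-- the prime -/
  p : ℕ
  /-- number of generators -/
  n : ℕ
  /-- right-hand sides -/
  rhs : List (List ℕ)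
  /-- pairs (generator, rule) of definitions -/
  defs : List (ℕ × ℕ × ℕ)

/-- The place of a rule. -/
def tri (j i : ℕ) : ℕ := j * (j + 1) / 2 + i

namespace PC

variable (P : PC)

/-- Number of rules. -/
def R : ℕ := P.n * (P.n + 1) / 2

/-- Left-hand side of a rule. -/
def lhs (j i : ℕ) : List ℕ := if i = j then List.replicate P.p i else [j, i]

/-- Right-hand side of a rule. -/
def rule (j i : ℕ) : List ℕ := P.rhs.getD (tri j i) []

/-- Rewrite the prefix of a word. -/
def stepHead : List ℕ → Option (List ℕ × ℕ)
  | [] => none
  | j :: w =>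
    if Nat.blt j P.n && (List.replicate P.p j).isPrefixOf (j :: w) then
      some (P.rule j j ++ (j :: w).drop P.p, tri j j)
    else
      match w with
      | [] => none
      | i :: w => if Nat.blt i j && Nat.blt j P.n then some (P.rule j i ++ w, tri j i) else none

/-- Rewrite at a given place. -/
def stepAt : ℕ → List ℕ → Option (List ℕ × ℕ)
  | 0, w => P.stepHead w
  | _ + 1, [] => none
  | k + 1, a :: w => (stepAt k w).map fun r => (a :: r.1, r.2)

/-- Rewrite at the first possible place. -/
def stepFirst : List ℕ → Option (List ℕ × ℕ)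
  | [] => none
  | a :: w =>
    match P.stepHead (a :: w) with
    | some r => some r
    | none => (stepFirst w).map fun r => (a :: r.1, r.2)

/-- Collect with bounded fuel. -/
def collect : ℕ → List ℕ → List ℕ × List ℕ
  | 0, w => (w, [])
  | f + 1, w =>
    match P.stepFirst w with
    | some r => ((collect f r.1).1, r.2 :: (collect f r.1).2)
    | none => (w, [])

/-- Every generator above the current one: the shape of the rules. -/
def wellFormed : Bool :=
  (List.range P.n).all fun j => (List.range (j + 1)).all fun i =>
    if i = j then (P.rule j i).all fun k => Nat.blt i k && Nat.blt k P.n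
    else match P.rule j i with
      | [] => false
      | h :: u => Nat.beq h i && u.all fun k => Nat.blt i k && Nat.blt k P.n

/-- The definitions mention the new generator last, once. -/
def defsOK : Bool :=
  P.defs.all fun d => Nat.ble d.2.2 d.2.1 && Nat.blt d.2.1 d.1 && Nat.blt d.1 P.n &&
    (match (P.rule d.2.1 d.2.2).getLast? with
      | some m => Nat.beq m d.1
      | none => false) &&
    (P.rule d.2.1 d.2.2).dropLast.all (fun k => Nat.blt k d.1) &&
    (P.defs.all fun d' => d'.1 != d.1 || (d'.2.1 == d.2.1 && d'.2.2 == d.2.2))

end PC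

section Ev

variable {Γ : Type*} [Group Γ]

/-- The product of a word. -/
def evL (L : ℕ → Γ) (w : List ℕ) : Γ := (w.map L).prod

theorem evL_nil (L : ℕ → Γ) : evL L [] = 1 := rfl

theorem evL_cons (L : ℕ → Γ) (a : ℕ) (w : List ℕ) : evL L (a :: w) = L a * evL L w := by
  simp [evL]

theorem evL_append (L : ℕ → Γ) (v w : List ℕ) : evL L (v ++ w) = evL L v * evL L w := by
  simp [evL]

theorem evL_replicate (L : ℕ → Γ) (m a : ℕ) : evL L (List.replicate m a) = L a ^ m := by
  simp [evL]

theorem evL_map {H : Type*} [Group H] (f : Γ →* H) (L : ℕ → Γ) (w : List ℕ) :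
    f (evL L w) = evL (fun k => f (L k)) w := by
  simp only [evL, map_list_prod, List.map_map]
  rfl

theorem evL_congr {L M : ℕ → Γ} {w : List ℕ} (h : ∀ k ∈ w, L k = M k) : evL L w = evL M w :=
  congrArg List.prod (List.map_congr_left h)

theorem evL_mem {L : ℕ → Γ} {H : Subgroup Γ} {w : List ℕ} (h : ∀ k ∈ w, L k ∈ H) : evL L w ∈ H :=
  H.list_prod_mem fun x hx => by obtain ⟨k, hk, rfl⟩ := List.mem_map.1 hx; exact h k hk

variable (P : PC) (L : ℕ → Γ) (t : ℕ → Γ)

/-- The tails of the rules in the extension. -/
structure Holds : Prop where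
  central : ∀ r g, Commute g (t r)
  comm : ∀ j < P.n, ∀ i < j, L j * L i = evL L (P.rule j i) * t (tri j i)
  pow : ∀ j < P.n, L j ^ P.p = evL L (P.rule j j) * t (tri j j)

/-- The value of some recorded rules. -/
def tv (rs : List ℕ) : Γ := (rs.map t).prod

variable {P L t}

theorem Holds.stepHead (h : Holds P L t) : ∀ {w : List ℕ} {r : List ℕ × ℕ}, P.stepHead w = some r →
    evL L w = evL L r.1 * t r.2
  | [], r, e => by simp [PC.stepHead] at e
  | j :: w, r, e => by
    rw [PC.stepHead.eq_def] at e
    simp only at e
    split at e
    · next hb =>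
      simp only [Bool.and_eq_true, List.isPrefixOf_iff_prefix] at hb
      obtain ⟨hj, u, hu⟩ := hb
      obtain rfl := Option.some.inj e
      rw [← hu, List.drop_left' (List.length_replicate ..), evL_append, evL_append, evL_replicate,
        h.pow j (Nat.le_of_ble_eq_true hj), mul_assoc, ← (h.central _ _).eq, ← mul_assoc]
    · cases w with
      | nil => simp at e
      | cons i w =>
        simp only at e
        split at e
        · next hb =>
          simp only [Bool.and_eq_true] at hb
          obtain rfl := Option.some.inj e
          rw [evL_cons, evL_cons, ← mul_assoc, h.comm j (Nat.le_of_ble_eq_true hb.2) i (Nat.le_of_ble_eq_true hb.1),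
            evL_append, mul_assoc, ← (h.central _ _).eq, ← mul_assoc]
        · simp at e

theorem Holds.stepAt (h : Holds P L t) : ∀ {k : ℕ} {w : List ℕ} {r : List ℕ × ℕ}, P.stepAt k w = some r →
    evL L w = evL L r.1 * t r.2
  | 0, w, r, e => h.stepHead e
  | k + 1, [], r, e => by simp [PC.stepAt] at e
  | k + 1, a :: w, r, e => by
    rw [PC.stepAt, Option.map_eq_some_iff] at e
    obtain ⟨r', e', rfl⟩ := e
    rw [evL_cons, h.stepAt e', evL_cons, mul_assoc]

theorem Holds.stepFirst (h : Holds P L t) : ∀ {w : List ℕ} {r : List ℕ × ℕ}, P.stepFirst w = some r →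
    evL L w = evL L r.1 * t r.2
  | [], r, e => by simp [PC.stepFirst] at e
  | a :: w, r, e => by
    rw [PC.stepFirst] at e
    split at e
    · next r' e' => obtain rfl := Option.some.inj e; exact h.stepHead e'
    · rw [Option.map_eq_some_iff] at e
      obtain ⟨r', e', rfl⟩ := e
      rw [evL_cons, h.stepFirst e', evL_cons, mul_assoc]

theorem tv_central (h : Holds P L t) (rs : List ℕ) (g : Γ) : Commute g (tv t rs) := by
  induction rs with
  | nil => exact Commute.one_right g
  | cons a rs ih => rw [tv, List.map_cons, List.prod_cons]; exact (h.central a g).mul_right ih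

theorem tv_append (u v : List ℕ) : tv t (u ++ v) = tv t u * tv t v := by simp [tv]

theorem Holds.collect (h : Holds P L t) : ∀ (f : ℕ) (w : List ℕ),
    evL L w = evL L (P.collect f w).1 * tv t (P.collect f w).2
  | 0, w => by simp [PC.collect, tv]
  | f + 1, w => by
    rw [PC.collect]
    split
    · next r e =>
      rw [h.stepFirst e, h.collect f r.1, mul_assoc, (h.central r.2 _).eq]
      simp [tv]
    · simp [tv]

end Ev

end Cfsg.Agent.Grp.SchurM.Tails
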