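import Mathlib
import Cfsg.Agent.Lib.Spor.Cos.Act

/-! Square matrices modulo a small number, with vectors packed four bits an entry. -/

set_option autoImplicit false

open Cfsg.Agent.Spor.Cos Matrix

namespace Cfsg.Agent.Grp.SchurM.PackMat

/-- An entry of a packed vector. -/
def dig (v k : ℕ) : ℕ := (v >>> (4 * k)) % 16

/-- The data: a dimension, a modulus, the matrices as lists of packed rows. -/
structure MatData where
  /-- the dimension -/
  n : ℕ
  /-- the modulus -/
  p : ℕ
  /-- the rows -/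
  M : List (List ℕ)

namespace MatData

variable (D : MatData)

/-- One entry of the product of a vector and a matrix, before reduction. -/
noncomputable def dot (v : ℕ) (L : List ℕ) (j : ℕ) : ℕ :=
  Nat.rec (motive := fun _ => ℕ) 0 (fun k r => force r fun r => r + dig v k * dig (L.getD k 0) j) D.n

/-- The first entries of the product, packed. -/
noncomputable def part (v : ℕ) (L : List ℕ) (m : ℕ) : ℕ :=
  Nat.rec (motive := fun _ => ℕ) 0 (fun j r => force r fun r => r + (D.dot v L j % D.p) * 2 ^ (4 * j)) m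

/-- A vector times a matrix of the list. -/
noncomputable def step (v s : ℕ) : ℕ := D.part v (D.M.getD s []) D.n

/-- A vector times the product of a word. -/
noncomputable def goV (w : List ℕ) : ℕ → ℕ :=
  List.rec (motive := fun _ => ℕ → ℕ) (fun v => v) (fun s _ r v => force (D.step v s) r) w

/-- A matrix of the list. -/
def mat (s : ℕ) : Matrix (Fin D.n) (Fin D.n) (ZMod D.p) :=
  fun i j => (dig ((D.M.getD s []).getD i 0) j : ZMod D.p)

/-- The vector of a number. -/
def vec (v : ℕ) : Fin D.n → ZMod D.p := fun i => (dig v i : ZMod D.p)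

/-- The product of a word. -/
def prod (w : List ℕ) : Matrix (Fin D.n) (Fin D.n) (ZMod D.p) := (w.map D.mat).prod

theorem dot_eq (v : ℕ) (L : List ℕ) (j : ℕ) :
    D.dot v L j = ∑ k ∈ Finset.range D.n, dig v k * dig (L.getD k 0) j := by
  unfold dot
  induction D.n with
  | zero => simp
  | succ m ih =>
    rw [Finset.sum_range_succ, ← ih]
    simp only [force_eq]

theorem part_spec (hp : 0 < D.p) (hp' : D.p ≤ 16) (v : ℕ) (L : List ℕ) :
    ∀ m, D.part v L m < 2 ^ (4 * m) ∧ ∀ j < m, dig (D.part v L m) j = D.dot v L j % D.p := by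
  intro m
  induction m with
  | zero => exact ⟨by simp [part], fun j hj => absurd hj (Nat.not_lt_zero j)⟩
  | succ m ih =>
    obtain ⟨hlt, hd⟩ := ih
    set r := D.part v L m with hr
    set a := D.dot v L m % D.p with ha
    have ha16 : a < 16 := lt_of_lt_of_le (Nat.mod_lt _ hp) hp'
    have e : D.part v L (m + 1) = r + a * 2 ^ (4 * m) := by
      simp only [part, force_eq, hr, ha]
    have e2 : (2 : ℕ) ^ (4 * (m + 1)) = 16 * 2 ^ (4 * m) := by
      rw [show 4 * (m + 1) = 4 + 4 * m by ring, pow_add]; norm_num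
    rw [e]
    refine ⟨by rw [e2]; nlinarith, fun j hj => ?_⟩
    rcases Nat.lt_succ_iff_lt_or_eq.1 hj with hj | rfl
    · rw [← hd j hj, dig, dig, Nat.shiftRight_eq_div_pow, Nat.shiftRight_eq_div_pow]
      have : 2 ^ (4 * m) = 2 ^ (4 * j) * (16 * 2 ^ (4 * (m - j - 1))) := by
        rw [show (16 : ℕ) = 2 ^ 4 by norm_num, ← pow_add, ← pow_add]
        congr 1
        omega
      rw [this, show a * (2 ^ (4 * j) * (16 * 2 ^ (4 * (m - j - 1)))) =
          2 ^ (4 * j) * (16 * (a * 2 ^ (4 * (m - j - 1)))) by ring, Nat.add_mul_div_left _ _ (by positivity),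
        Nat.add_mul_mod_self_left]
    · rw [dig, Nat.shiftRight_eq_div_pow, Nat.add_mul_div_right _ _ (by positivity), Nat.div_eq_of_lt hlt,
        zero_add, Nat.mod_eq_of_lt ha16]

theorem vec_step (hp : 0 < D.p) (hp' : D.p ≤ 16) (v s : ℕ) :
    D.vec (D.step v s) = Matrix.vecMul (D.vec v) (D.mat s) := by
  funext j
  rw [vec, step, (D.part_spec hp hp' v _ D.n).2 j j.2, ZMod.natCast_mod, dot_eq, Nat.cast_sum, ← Fin.sum_univ_eq_sum_range
    (fun k => ((dig v k * dig ((D.M.getD s []).getD k 0) j : ℕ) : ZMod D.p))]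
  simp only [Matrix.vecMul, dotProduct, Nat.cast_mul, vec, mat]

theorem vec_goV (hp : 0 < D.p) (hp' : D.p ≤ 16) : ∀ (w : List ℕ) (v : ℕ),
    D.vec (D.goV w v) = Matrix.vecMul (D.vec v) (D.prod w)
  | [], v => by simp [goV, prod]
  | s :: w, v => by
    have h : D.goV (s :: w) v = D.goV w (D.step v s) := by simp only [goV, force_eq]
    rw [h, vec_goV hp hp' w, D.vec_step hp hp', Matrix.vecMul_vecMul]
    simp [prod]

/-- A word acts as a multiple of another. -/
noncomputable def chkMul (u w : List ℕ) (c : ℕ) : Bool :=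
  (List.range D.n).all fun i =>
    force (D.goV u (2 ^ (4 * i))) fun a => force (D.goV w (2 ^ (4 * i))) fun b =>
      (List.range D.n).all fun j => Nat.beq (dig a j % D.p) (c * dig b j % D.p)

theorem dig_unit (i j : ℕ) : dig (2 ^ (4 * i)) j = if j = i then 1 else 0 := by
  rw [dig, Nat.shiftRight_eq_div_pow]
  rcases lt_trichotomy j i with h | rfl | h
  · rw [Nat.pow_div (by omega) (by norm_num), if_neg h.ne, ← Nat.mul_sub,
      show 4 * (i - j) = 4 + 4 * (i - j - 1) by omega, pow_add]
    simp
  · simp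
  · rw [Nat.div_eq_of_lt (Nat.pow_lt_pow_right (by norm_num) (by omega)), if_neg h.ne']

theorem vec_unit (i : Fin D.n) : D.vec (2 ^ (4 * (i : ℕ))) = Pi.single i 1 := by
  funext j
  rw [vec, dig_unit]
  rcases eq_or_ne j i with rfl | h
  · simp
  · rw [if_neg fun e => h (Fin.ext e), Pi.single_apply, if_neg h, Nat.cast_zero]

theorem prod_of_chk (hp : 0 < D.p) (hp' : D.p ≤ 16) {u w : List ℕ} {c : ℕ} (h : D.chkMul u w c = true) :
    D.prod u = (c : ZMod D.p) • D.prod w := by
  refine Matrix.ext fun i j => ?_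
  have h1 := List.all_eq_true.1 h i.1 (List.mem_range.2 i.2)
  simp only [force_eq, List.all_eq_true, List.mem_range] at h1
  have e := congrArg (fun n : ℕ => (n : ZMod D.p)) (Nat.eq_of_beq_eq_true (h1 j.1 j.2))
  simp only [ZMod.natCast_mod, Nat.cast_mul] at e
  have hu := congrFun (D.vec_goV hp hp' u (2 ^ (4 * (i : ℕ)))) j
  have hw := congrFun (D.vec_goV hp hp' w (2 ^ (4 * (i : ℕ)))) j
  simp only [vec_unit, Matrix.single_one_vecMul] at hu hw
  simp only [vec, Matrix.row_apply] at hu hw
  rw [Matrix.smul_apply, smul_eq_mul, ← hu, ← hw]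
  exact e

theorem prod_append (u w : List ℕ) : D.prod (u ++ w) = D.prod u * D.prod w := by simp [prod]

end MatData

end Cfsg.Agent.Grp.SchurM.PackMat
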