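import Mathlib

/-!
Subgroups generated by involutions modulo a central involution, and derived groups of generated subgroups.
-/

set_option autoImplicit false

namespace Cfsg.Agent.Grp.SchurM

open scoped commutatorElement

variable {Γ : Type*} [Group Γ]

/-- A central involution times products of sublists. -/
def pairSpan (z : Γ) : List Γ → Set Γ
  | [] => {1, z}
  | g :: l => pairSpan z l ∪ (fun p => g * p) '' pairSpan z l

theorem pairSpan_ncard (z : Γ) : ∀ l : List Γ,
    (pairSpan z l).Finite ∧ (pairSpan z l).ncard ≤ 2 ^ (l.length + 1) := by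
  intro l
  induction l with
  | nil =>
    refine ⟨Set.toFinite ({1, z} : Set Γ), (Set.ncard_insert_le _ _).trans ?_⟩
    simp
  | cons g l ih =>
    refine ⟨ih.1.union (ih.1.image _), (Set.ncard_union_le _ _).trans ?_⟩
    have := Set.ncard_image_le (f := fun p => g * p) ih.1
    rw [List.length_cons, pow_succ' 2 (l.length + 1)]
    omega

theorem one_mem_pairSpan (z : Γ) : ∀ l : List Γ, (1 : Γ) ∈ pairSpan z l
  | [] => Or.inl rfl
  | _ :: l => Or.inl (one_mem_pairSpan z l)

theorem self_mem_pairSpan (z : Γ) : ∀ l : List Γ, z ∈ pairSpan z l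
  | [] => Or.inr rfl
  | _ :: l => Or.inl (self_mem_pairSpan z l)

theorem center_mul_pairSpan {z : Γ} (hz : z * z = 1) : ∀ {l : List Γ} (_ : ∀ g ∈ l, Commute z g) {p : Γ},
    p ∈ pairSpan z l → z * p ∈ pairSpan z l
  | [], _, p, hp => by
    rcases hp with rfl | rfl
    · rw [mul_one]; exact Or.inr rfl
    · rw [hz]; exact Or.inl rfl
  | g :: l, hc, p, hp => by
    rcases hp with hp | ⟨q, hq, rfl⟩
    · exact Or.inl (center_mul_pairSpan hz (fun x hx => hc x (List.mem_cons_of_mem _ hx)) hp)
    · refine Or.inr ⟨z * q, center_mul_pairSpan hz (fun x hx => hc x (List.mem_cons_of_mem _ hx)) hq, ?_⟩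
      show g * (z * q) = z * (g * q)
      rw [← mul_assoc, ← mul_assoc, (hc g List.mem_cons_self).eq]

theorem gen_mul_pairSpan {z : Γ} (hz : z * z = 1) : ∀ {l : List Γ} (_ : ∀ g ∈ l, Commute z g)
    (_ : ∀ g ∈ l, g * g = 1 ∨ g * g = z) (_ : ∀ g ∈ l, ∀ h ∈ l, g * h = h * g ∨ g * h = z * (h * g))
    {g p : Γ}, g ∈ l → p ∈ pairSpan z l → g * p ∈ pairSpan z l
  | [], _, _, _, g, p, hg, _ => absurd hg List.not_mem_nil
  | a :: l, hc, hs, hcm, g, p, hg, hp => by
    have hc' : ∀ x ∈ l, Commute z x := fun x hx => hc x (List.mem_cons_of_mem _ hx)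
    have hs' : ∀ x ∈ l, x * x = 1 ∨ x * x = z := fun x hx => hs x (List.mem_cons_of_mem _ hx)
    have hcm' : ∀ x ∈ l, ∀ y ∈ l, x * y = y * x ∨ x * y = z * (y * x) := fun x hx y hy =>
      hcm x (List.mem_cons_of_mem _ hx) y (List.mem_cons_of_mem _ hy)
    rcases List.mem_cons.mp hg with rfl | hg
    · rcases hp with hp | ⟨q, hq, rfl⟩
      · exact Or.inr ⟨p, hp, rfl⟩
      · left
        show g * (g * q) ∈ pairSpan z l
        rw [← mul_assoc]
        rcases hs g List.mem_cons_self with e | e <;> rw [e]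
        · rwa [one_mul]
        · exact center_mul_pairSpan hz hc' hq
    · rcases hp with hp | ⟨q, hq, rfl⟩
      · exact Or.inl (gen_mul_pairSpan hz hc' hs' hcm' hg hp)
      · right
        have ih := gen_mul_pairSpan hz hc' hs' hcm' hg hq
        rcases hcm g (List.mem_cons_of_mem _ hg) a List.mem_cons_self with e | e
        · exact ⟨g * q, ih, by show a * (g * q) = g * (a * q); rw [← mul_assoc, ← mul_assoc, e]⟩
        · refine ⟨z * (g * q), center_mul_pairSpan hz hc' ih, ?_⟩
          show a * (z * (g * q)) = g * (a * q)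
          rw [← mul_assoc g, e, ← mul_assoc a, ← (hc a List.mem_cons_self).eq]
          simp [mul_assoc]

/-- A group generated by `z` and a list with squares and commutators in `⟨z⟩`. -/
theorem card_closure_pairSpan [Finite Γ] {z : Γ} (hz : z * z = 1) (l : List Γ) (hc : ∀ g ∈ l, Commute z g)
    (hs : ∀ g ∈ l, g * g = 1 ∨ g * g = z) (hcm : ∀ g ∈ l, ∀ h ∈ l, g * h = h * g ∨ g * h = z * (h * g)) :
    Nat.card (Subgroup.closure ({z} ∪ {g | g ∈ l})) ≤ 2 ^ (l.length + 1) := by
  have hle : (Subgroup.closure ({z} ∪ {g | g ∈ l}) : Set Γ) ⊆ pairSpan z l := by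
    intro x hx
    have hm : x ∈ Submonoid.closure ({z} ∪ {g | g ∈ l}) := by
      rw [← Subgroup.closure_toSubmonoid_of_finite]
      exact hx
    refine Submonoid.closure_induction_left (one_mem_pairSpan z l) (fun s hs' y _ hy => ?_) hm
    rcases hs' with rfl | hs'
    · exact center_mul_pairSpan hz hc hy
    · exact gen_mul_pairSpan hz hc hs hcm hs' hy
  exact (Nat.card_mono (pairSpan_ncard z l).1 hle).trans
    (by rw [Nat.card_coe_set_eq]; exact (pairSpan_ncard z l).2)

/-- The derived group of a generated subgroup lies in a normalised subgroup containing the commutators of the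
generators. -/
theorem derived_closure_le [Finite Γ] (S : Set Γ) (N : Subgroup Γ) (hconj : ∀ s ∈ S, ∀ n ∈ N, s * n * s⁻¹ ∈ N)
    (hcomm : ∀ x ∈ S, ∀ y ∈ S, ⁅x, y⁆ ∈ N) : ⁅Subgroup.closure S, Subgroup.closure S⁆ ≤ N := by
  have hS : ∀ s ∈ S, s ∈ Subgroup.normalizer (N : Set Γ) := by
    intro s hs
    have hle : N.map (MulAut.conj s).toMonoidHom ≤ N := by
      rintro _ ⟨n, hn, rfl⟩; exact hconj s hs n hn
    have heq : N.map (MulAut.conj s).toMonoidHom = N :=
      Subgroup.eq_of_le_of_card_ge hle (by rw [Subgroup.card_map_of_injective (MulAut.conj s).injective])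
    rw [Subgroup.mem_normalizer_iff]
    intro n
    refine ⟨fun hn => hconj s hs n hn, fun hn => ?_⟩
    have : s * n * s⁻¹ ∈ N.map (MulAut.conj s).toMonoidHom := by rw [heq]; exact hn
    obtain ⟨m, hm, e⟩ := this
    have : m = n := by
      have e' : s * m * s⁻¹ = s * n * s⁻¹ := e
      simpa using e'
    exact this ▸ hm
  set M := Subgroup.normalizer (N : Set Γ) with hM
  have hSM : Subgroup.closure S ≤ M := (Subgroup.closure_le _).2 hS
  have : (N.subgroupOf M).Normal := Subgroup.normal_in_normalizer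
  set q := QuotientGroup.mk' (N.subgroupOf M) with hq
  have key : ∀ (x : M) (_ : (x : Γ) ∈ Subgroup.closure S) (y : M) (_ : (y : Γ) ∈ Subgroup.closure S),
      Commute (q x) (q y) := by
    have hsub : ∀ x : M, (x : Γ) ∈ Subgroup.closure S →
        q x ∈ Subgroup.closure (q '' {y | (y : Γ) ∈ S}) := by
      intro x hx
      rw [← q.map_closure]
      refine Subgroup.mem_map_of_mem q ?_
      have e : (Subgroup.closure S).subgroupOf M = Subgroup.closure {y : M | (y : Γ) ∈ S} := by
        refine (Subgroup.map_injective M.subtype_injective) ?_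
        rw [Subgroup.map_subgroupOf_eq_of_le hSM, MonoidHom.map_closure]
        congr 1
        ext g
        exact ⟨fun hg => ⟨⟨g, hS g hg⟩, hg, rfl⟩, fun ⟨y, hy, e⟩ => e ▸ hy⟩
      rw [← e]
      exact hx
    have hc : Subgroup.closure (q '' {y : M | (y : Γ) ∈ S}) ≤
        Subgroup.centralizer (Subgroup.closure (q '' {y : M | (y : Γ) ∈ S}) : Set _) := by
      refine (Subgroup.closure_le _).2 ?_
      rintro _ ⟨x, hx, rfl⟩
      rw [SetLike.mem_coe, Subgroup.centralizer_closure, Subgroup.mem_centralizer_iff]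
      rintro _ ⟨y, hy, rfl⟩
      refine (commutatorElement_eq_one_iff_commute.1 ?_).eq
      rw [← map_commutatorElement, hq, QuotientGroup.mk'_apply, QuotientGroup.eq_one_iff,
        Subgroup.mem_subgroupOf, show ((⁅y, x⁆ : M) : Γ) = ⁅(y : Γ), (x : Γ)⁆ from map_commutatorElement M.subtype y x]
      exact hcomm _ hy _ hx
    intro x hx y hy
    exact (Subgroup.mem_centralizer_iff.1 (hc (hsub x hx)) _ (hsub y hy)).symm
  refine Subgroup.commutator_le.2 fun x hx y hy => ?_
  have := commutatorElement_eq_one_iff_commute.2 (key ⟨x, hSM hx⟩ hx ⟨y, hSM hy⟩ hy)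
  rw [← map_commutatorElement, hq, QuotientGroup.mk'_apply, QuotientGroup.eq_one_iff,
    Subgroup.mem_subgroupOf] at this
  rwa [show ((⁅(⟨x, hSM hx⟩ : M), ⟨y, hSM hy⟩⁆ : M) : Γ) = ⁅x, y⁆ from
    map_commutatorElement M.subtype _ _] at this

/-- The order of a generated subgroup from a closed enumeration. -/
theorem card_closure_of_enum {G : Type*} [Group G] [Finite G] {n : ℕ} (S : Set G) (e : Fin n → G)
    (hinj : Function.Injective e) (hmem : ∀ i, e i ∈ Subgroup.closure S) (h1 : ∃ i, e i = 1)
    (hstep : ∀ s ∈ S, ∀ i, ∃ j, s * e i = e j) : Nat.card (Subgroup.closure S) = n := by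
  have hset : (Subgroup.closure S : Set G) = Set.range e := by
    refine Set.Subset.antisymm (fun x hx => ?_) ?_
    · have hm : x ∈ Submonoid.closure S := by
        rw [← Subgroup.closure_toSubmonoid_of_finite]
        exact hx
      refine Submonoid.closure_induction_left (motive := fun x _ => x ∈ Set.range e) ?_ (fun s hs y _ hy => ?_) hm
      · obtain ⟨i, hi⟩ := h1; exact ⟨i, hi⟩
      · obtain ⟨i, rfl⟩ := hy
        obtain ⟨j, hj⟩ := hstep s hs i
        exact ⟨j, hj.symm⟩
    · rintro _ ⟨i, rfl⟩; exact hmem i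
  rw [← SetLike.coe_sort_coe, hset, Nat.card_range_of_injective hinj, Nat.card_fin]

end Cfsg.Agent.Grp.SchurM
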