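import Mathlib
import Cfsg.Agent.Lib.Grp.SchurM.Basic
import Cfsg.Agent.Lib.Grp.SchurM.Bilinear
import Cfsg.Agent.Lib.Grp.SchurM.Projective

/-!
The multiplier of a direct product.
-/

namespace Cfsg.Agent.Grp.SchurM

open scoped commutatorElement TensorProduct

universe u v w

theorem bracket_central {Γ : Type u} [Group Γ] {a b z t : Γ} (hz : z ∈ Subgroup.center Γ)
    (ht : t ∈ Subgroup.center Γ) : ⁅a * z, b * t⁆ = ⁅a, b⁆ := by
  have e1 := Subgroup.mem_center_iff.mp hz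
  have e2 := Subgroup.mem_center_iff.mp ht
  simp only [commutatorElement_def, mul_inv_rev]
  calc a * z * (b * t) * (z⁻¹ * a⁻¹) * (t⁻¹ * b⁻¹) = a * (z * (b * t)) * z⁻¹ * a⁻¹ * (t⁻¹ * b⁻¹) := by group
    _ = a * ((b * t) * z) * z⁻¹ * a⁻¹ * (t⁻¹ * b⁻¹) := by rw [e1]
    _ = a * b * (t * a⁻¹) * t⁻¹ * b⁻¹ := by group
    _ = a * b * (a⁻¹ * t) * t⁻¹ * b⁻¹ := by rw [e2]
    _ = a * b * a⁻¹ * b⁻¹ := by group

theorem bracket_congr_center {Γ : Type u} [Group Γ] {a a' b b' : Γ} (ha : a⁻¹ * a' ∈ Subgroup.center Γ)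
    (hb : b⁻¹ * b' ∈ Subgroup.center Γ) : ⁅a', b'⁆ = ⁅a, b⁆ := by
  conv_lhs => rw [show a' = a * (a⁻¹ * a') by group, show b' = b * (b⁻¹ * b') by group]
  exact bracket_central ha hb

variable (Q₁ : Type u) (Q₂ : Type v) [Group Q₁] [Group Q₂]

/-- Tensor product of the abelianisations. -/
abbrev Tens : Type (max u v) :=
  Multiplicative (Additive (Abelianization Q₁) ⊗[ℤ] Additive (Abelianization Q₂))

/-- The bimultiplicative map defining the twisted extension. -/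
noncomputable def tensB : (Abelianization Q₁ × Abelianization Q₂) →* (Abelianization Q₁ × Abelianization Q₂) →* Tens Q₁ Q₂ where
  toFun g :=
    { toFun := fun h => Multiplicative.ofAdd (Additive.ofMul g.1 ⊗ₜ[ℤ] Additive.ofMul h.2)
      map_one' := by simp
      map_mul' := fun x y => by simp [TensorProduct.tmul_add] }
  map_one' := by ext h <;> simp
  map_mul' x y := by
    refine MonoidHom.ext fun h => ?_
    simp [TensorProduct.add_tmul]

theorem product_equiv [Finite Q₁] [Finite Q₂] :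
    Nonempty ((mult (std Q₁) × mult (std Q₂) × Tens Q₁ Q₂) ≃* mult (std (Q₁ × Q₂))) := by
  classical
  obtain ⟨β₁, h₁⟩ := exists_lift (std Q₁) (MonoidHom.inl Q₁ Q₂) (rho (std (Q₁ × Q₂)))
    (rho_surjective _ (std_surjective _)) (rel_le_center _)
  obtain ⟨β₂, h₂⟩ := exists_lift (std Q₂) (MonoidHom.inr Q₁ Q₂) (rho (std (Q₁ × Q₂)))
    (rho_surjective _ (std_surjective _)) (rel_le_center _)
  set E := UE (std (Q₁ × Q₂))
  set ρ := rho (std (Q₁ × Q₂))
  set ρ₁ := rho (std Q₁)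
  set ρ₂ := rho (std Q₂)
  have hρ₁ : ∀ x, ρ (β₁ x) = (ρ₁ x, 1) := fun x => DFunLike.congr_fun h₁ x
  have hρ₂ : ∀ x, ρ (β₂ x) = (1, ρ₂ x) := fun x => DFunLike.congr_fun h₂ x
  have hZ : ρ.ker ≤ Subgroup.center E := rel_le_center _
  have hdiff : ∀ a a' : E, ρ a = ρ a' → a⁻¹ * a' ∈ Subgroup.center E := fun a a' h => hZ (by
    rw [MonoidHom.mem_ker, map_mul, map_inv, h, inv_mul_cancel])
  have hcm : ∀ x y, ⁅β₁ x, β₂ y⁆ ∈ mult (std (Q₁ × Q₂)) := fun x y => ⟨by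
      show ρ ⁅β₁ x, β₂ y⁆ = 1
      rw [map_commutatorElement, hρ₁, hρ₂, commutatorElement_eq_one_iff_mul_comm]
      simp, Subgroup.commutator_mem_commutator (Subgroup.mem_top _) (Subgroup.mem_top _)⟩
  have hcc : ∀ x y, ⁅β₁ x, β₂ y⁆ ∈ Subgroup.center E := fun x y => mult_le_center _ (hcm x y)
  choose s₁ hs₁ using rho_surjective (std Q₁) (std_surjective Q₁)
  choose s₂ hs₂ using rho_surjective (std Q₂) (std_surjective Q₂)
  let B : Q₁ → Q₂ → mult (std (Q₁ × Q₂)) := fun a b => ⟨⁅β₁ (s₁ a), β₂ (s₂ b)⁆, hcm _ _⟩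
  have hB : ∀ x y, (B (ρ₁ x) (ρ₂ y) : E) = ⁅β₁ x, β₂ y⁆ := fun x y =>
    bracket_congr_center (hdiff _ _ (by rw [hρ₁, hρ₁, hs₁])) (hdiff _ _ (by rw [hρ₂, hρ₂, hs₂]))
  have hmulR : ∀ a b b', B a (b * b') = B a b * B a b' := fun a b b' => Subtype.ext (by
    obtain ⟨x, rfl⟩ := rho_surjective (std Q₁) (std_surjective Q₁) a
    obtain ⟨y, rfl⟩ := rho_surjective (std Q₂) (std_surjective Q₂) b
    obtain ⟨y', rfl⟩ := rho_surjective (std Q₂) (std_surjective Q₂) b'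
    rw [Subgroup.coe_mul, ← map_mul, hB, hB, hB, map_mul, commutatorElement_mul_right_eq_mul_conj,
      mul_assoc ⁅β₁ x, β₂ y⁆ (β₂ y), Subgroup.mem_center_iff.mp (hcc x y') (β₂ y)]
    group)
  have hmulL : ∀ a a' b, B (a * a') b = B a b * B a' b := fun a a' b => Subtype.ext (by
    obtain ⟨x, rfl⟩ := rho_surjective (std Q₁) (std_surjective Q₁) a
    obtain ⟨x', rfl⟩ := rho_surjective (std Q₁) (std_surjective Q₁) a'
    obtain ⟨y, rfl⟩ := rho_surjective (std Q₂) (std_surjective Q₂) b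
    rw [Subgroup.coe_mul, ← map_mul, hB, hB, hB, map_mul, commutatorElement_mul_left_eq_conj_mul,
      Subgroup.mem_center_iff.mp (hcc x' y) (β₁ x), mul_inv_cancel_right]
    exact (Subgroup.mem_center_iff.mp (hcc x' y) _).symm)
  let B₂ : Q₁ → (Abelianization Q₂ →* mult (std (Q₁ × Q₂))) := fun a =>
    Abelianization.lift (MonoidHom.mk' (B a) (hmulR a))
  let B₁ : Abelianization Q₁ →* (Abelianization Q₂ →* mult (std (Q₁ × Q₂))) :=
    Abelianization.lift (MonoidHom.mk' B₂ fun a a' => Abelianization.hom_ext _ _ (MonoidHom.ext fun b => by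
      show B (a * a') b = B a b * B a' b
      exact hmulL a a' b))
  let βadd : Additive (Abelianization Q₁) →+ Additive (Abelianization Q₂) →+ Additive (mult (std (Q₁ × Q₂))) :=
    { toFun := fun a => MonoidHom.toAdditive (B₁ (Additive.toMul a))
      map_zero' := by ext; simp
      map_add' := fun a a' => by ext; simp }
  let ΦT : Tens Q₁ Q₂ →* mult (std (Q₁ × Q₂)) := AddMonoidHom.toMultiplicativeLeft
    (TensorProduct.liftAddHom βadd fun r a b => by rw [map_zsmul, AddMonoidHom.smul_apply, map_zsmul])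
  have hΦT : ∀ x y, (ΦT (Multiplicative.ofAdd (Additive.ofMul (Abelianization.of (ρ₁ x)) ⊗ₜ[ℤ]
      Additive.ofMul (Abelianization.of (ρ₂ y)))) : E) = ⁅β₁ x, β₂ y⁆ := fun x y => hB x y
  have hm₁ : ∀ m : mult (std Q₁), β₁ m ∈ mult (std (Q₁ × Q₂)) := fun m => ⟨by
      show ρ (β₁ m) = 1
      rw [hρ₁, show ρ₁ (m : UE (std Q₁)) = 1 from m.2.1]; rfl, by
      have h := Subgroup.mem_map_of_mem β₁ m.2.2
      rw [commutator_def, Subgroup.map_commutator] at h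
      exact Subgroup.commutator_mono le_top le_top h⟩
  have hm₂ : ∀ m : mult (std Q₂), β₂ m ∈ mult (std (Q₁ × Q₂)) := fun m => ⟨by
      show ρ (β₂ m) = 1
      rw [hρ₂, show ρ₂ (m : UE (std Q₂)) = 1 from m.2.1]; rfl, by
      have h := Subgroup.mem_map_of_mem β₂ m.2.2
      rw [commutator_def, Subgroup.map_commutator] at h
      exact Subgroup.commutator_mono le_top le_top h⟩
  let Φ : mult (std Q₁) × mult (std Q₂) × Tens Q₁ Q₂ →* mult (std (Q₁ × Q₂)) :=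
    ((β₁.comp (Subgroup.subtype _)).codRestrict _ hm₁).coprod
      (((β₂.comp (Subgroup.subtype _)).codRestrict _ hm₂).coprod ΦT)
  have hΦ : ∀ m₁ m₂ t, (Φ (m₁, m₂, t) : E) = β₁ m₁ * (β₂ m₂ * ΦT t) := fun _ _ _ => rfl
  -- surjectivity
  set H : Subgroup E := ΦT.range.map (Subgroup.subtype _)
  have hHc : H ≤ Subgroup.center E := (Subgroup.map_subtype_le _).trans (mult_le_center _)
  have hBH : ∀ x y, ⁅β₁ x, β₂ y⁆ ∈ H := fun x y => by
    rw [← hΦT x y]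
    have key : ∀ t, (ΦT t : E) ∈ H := fun t => Subgroup.mem_map_of_mem (Subgroup.subtype _) (⟨t, rfl⟩ : ΦT t ∈ ΦT.range)
    exact key _
  set C₁ := (commutator (UE (std Q₁))).map β₁
  set C₂ := (commutator (UE (std Q₂))).map β₂
  have hcomm₁ : ∀ a ∈ commutator (UE (std Q₁)), ∀ y, Commute (β₁ a) (β₂ y) := by
    intro a ha y
    rw [← commutatorElement_eq_one_iff_commute, ← hB]
    show ((B₁ (Abelianization.of (ρ₁ a))) (Abelianization.of (ρ₂ y)) : E) = 1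
    rw [show Abelianization.of (ρ₁ a) = (1 : Abelianization Q₁) from
      Abelianization.commutator_subset_ker (Abelianization.of.comp ρ₁) ha, map_one, MonoidHom.one_apply,
      OneMemClass.coe_one]
  have hcomm₂ : ∀ b ∈ commutator (UE (std Q₂)), ∀ x, Commute (β₁ x) (β₂ b) := by
    intro b hb x
    rw [← commutatorElement_eq_one_iff_commute, ← hB]
    show ((B₁ (Abelianization.of (ρ₁ x))) (Abelianization.of (ρ₂ b)) : E) = 1
    rw [show Abelianization.of (ρ₂ b) = (1 : Abelianization Q₂) from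
      Abelianization.commutator_subset_ker (Abelianization.of.comp ρ₂) hb, map_one, OneMemClass.coe_one]
  have hdec : ∀ e : E, ∃ x y, (β₁ x * β₂ y)⁻¹ * e ∈ Subgroup.center E := fun e =>
    ⟨s₁ (ρ e).1, s₂ (ρ e).2, hdiff _ _ (by rw [map_mul, hρ₁, hρ₂, hs₁, hs₂]; simp)⟩
  have hle : commutator E ≤ C₁ ⊔ C₂ ⊔ H := by
    rw [commutator_def, Subgroup.commutator_le]
    intro e _ e' _
    obtain ⟨x, y, he⟩ := hdec e
    obtain ⟨x', y', he'⟩ := hdec e'
    rw [bracket_congr_center he he']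
    have z1 : ⁅β₂ y, β₁ x'⁆ ∈ H := by rw [← commutatorElement_inv]; exact inv_mem (hBH x' y)
    have z2 := hBH x y'
    have k1 : ⁅β₁ x, β₁ x'⁆ ∈ C₁ := ⟨⁅x, x'⁆, Subgroup.commutator_mem_commutator (Subgroup.mem_top _) (Subgroup.mem_top _), map_commutatorElement β₁ x x'⟩
    have k2 : ⁅β₂ y, β₂ y'⁆ ∈ C₂ := ⟨⁅y, y'⁆, Subgroup.commutator_mem_commutator (Subgroup.mem_top _) (Subgroup.mem_top _), map_commutatorElement β₂ y y'⟩
    have q1 : Commute (β₁ x') ⁅β₂ y, β₂ y'⁆ := by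
      rw [← map_commutatorElement]
      exact hcomm₂ _ (Subgroup.commutator_mem_commutator (Subgroup.mem_top _) (Subgroup.mem_top _)) x'
    have q2 : Commute (β₁ x) ⁅β₂ y, β₂ y'⁆ := by
      rw [← map_commutatorElement]
      exact hcomm₂ _ (Subgroup.commutator_mem_commutator (Subgroup.mem_top _) (Subgroup.mem_top _)) x
    have e1 : ⁅β₂ y, β₁ x' * β₂ y'⁆ = ⁅β₂ y, β₁ x'⁆ * ⁅β₂ y, β₂ y'⁆ := by
      rw [commutatorElement_mul_right_eq_mul_conj, mul_assoc ⁅β₂ y, β₁ x'⁆ (β₁ x'), q1.eq]; group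
    have e2 : ⁅β₁ x, β₁ x' * β₂ y'⁆ = ⁅β₁ x, β₁ x'⁆ * ⁅β₁ x, β₂ y'⁆ := by
      rw [commutatorElement_mul_right_eq_mul_conj, mul_assoc ⁅β₁ x, β₁ x'⁆ (β₁ x'),
        Subgroup.mem_center_iff.mp (hHc z2) (β₁ x')]; group
    have e3 : β₁ x * (⁅β₂ y, β₁ x'⁆ * ⁅β₂ y, β₂ y'⁆) * (β₁ x)⁻¹ = ⁅β₂ y, β₁ x'⁆ * ⁅β₂ y, β₂ y'⁆ := by
      rw [← mul_assoc, Subgroup.mem_center_iff.mp (hHc z1) (β₁ x), mul_assoc ⁅β₂ y, β₁ x'⁆, q2.eq]; group
    rw [commutatorElement_mul_left_eq_conj_mul, e1, e2, e3]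
    refine mul_mem (mul_mem ?_ ?_) (mul_mem ?_ ?_)
    · exact Subgroup.mem_sup_right z1
    · exact Subgroup.mem_sup_left (Subgroup.mem_sup_right k2)
    · exact Subgroup.mem_sup_left (Subgroup.mem_sup_left k1)
    · exact Subgroup.mem_sup_right z2
  have hsurj : Function.Surjective Φ := by
    rintro ⟨m, hm⟩
    have := normal_of_central hHc
    obtain ⟨c, hc, h, hh, rfl⟩ := Subgroup.mem_sup_of_normal_right.mp (hle hm.2)
    have hc' : c ∈ ((C₁ ⊔ C₂ : Subgroup E) : Set E) := hc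
    rw [Subgroup.coe_mul_of_left_le_normalizer_right C₁ C₂ ?_] at hc'
    swap
    · rintro _ ⟨a, ha, rfl⟩
      refine Subgroup.centralizer_le_normalizer _ (Subgroup.mem_centralizer_iff.mpr ?_)
      rintro _ ⟨b, hb, rfl⟩
      exact (hcomm₁ a ha b).eq.symm
    obtain ⟨_, ⟨a, ha, rfl⟩, _, ⟨b, hb, rfl⟩, rfl⟩ := hc'
    obtain ⟨_, ⟨t, rfl⟩, rfl⟩ := hh
    have h0 : ρ (β₁ a * β₂ b * (ΦT t : E)) = 1 := hm.1
    rw [map_mul, show ρ (ΦT t : E) = 1 from (ΦT t).2.1, mul_one, map_mul, hρ₁, hρ₂, Prod.mk_mul_mk, mul_one, one_mul,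
      Prod.mk_eq_one] at h0
    exact ⟨(⟨a, h0.1, ha⟩, ⟨b, h0.2, hb⟩, t), Subtype.ext (by rw [hΦ]; exact (mul_assoc _ _ _).symm)⟩
  -- injectivity through the twisted extension
  let b := tensB Q₁ Q₂
  let abP : UE (std Q₁) × UE (std Q₂) →* Abelianization Q₁ × Abelianization Q₂ :=
    MonoidHom.prodMap (Abelianization.of.comp ρ₁) (Abelianization.of.comp ρ₂)
  let D : Subgroup ((UE (std Q₁) × UE (std Q₂)) × BExt b) :=
    (abP.comp (MonoidHom.fst _ _)).eqLocus ((BExt.proj b).comp (MonoidHom.snd _ _))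
  let τ : D →* Q₁ × Q₂ := ((MonoidHom.prodMap ρ₁ ρ₂).comp (MonoidHom.fst _ _)).comp D.subtype
  have hτ : Function.Surjective τ := fun q =>
    ⟨⟨((s₁ q.1, s₂ q.2), ⟨1, abP (s₁ q.1, s₂ q.2)⟩), rfl⟩, Prod.ext (hs₁ _) (hs₂ _)⟩
  have hτc : τ.ker ≤ Subgroup.center D := by
    rintro ⟨⟨⟨x, y⟩, w⟩, hw⟩ hk
    have hx : ρ₁ x = 1 := congrArg Prod.fst hk
    have hy : ρ₂ y = 1 := congrArg Prod.snd hk
    have hg : (BExt.proj b) w = 1 := by
      rw [show (BExt.proj b) w = abP (x, y) from hw.symm]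
      simp [abP, hx, hy]
    refine Subgroup.mem_center_iff.mpr fun v => Subtype.ext (Prod.ext (Prod.ext ?_ ?_) ?_)
    · exact Subgroup.mem_center_iff.mp (rel_le_center (std Q₁) hx) _
    · exact Subgroup.mem_center_iff.mp (rel_le_center (std Q₂) hy) _
    · exact Subgroup.mem_center_iff.mp (BExt.ker_le_center hg) _
  obtain ⟨β, hβ⟩ := exists_lift (std (Q₁ × Q₂)) (MonoidHom.id _) τ hτ hτc
  rw [MonoidHom.id_comp] at hβ
  have hb1 : ∀ x x' : Abelianization Q₁, b (x, 1) (x', 1) = 1 := fun x x' => by simp [b, tensB]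
  have hb2 : ∀ x x' : Abelianization Q₂, b (1, x) (1, x') = 1 := fun x x' => by simp [b, tensB]
  let j₁ : UE (std Q₁) →* D := MonoidHom.mk'
    (fun x => ⟨((x, 1), ⟨1, (Abelianization.of (ρ₁ x), 1)⟩), Prod.ext rfl (by simp [abP, BExt.proj])⟩)
    (fun x x' => Subtype.ext (Prod.ext (Prod.ext rfl (one_mul 1).symm) (by
      show _ = (⟨_, _⟩ : BExt b) * ⟨_, _⟩
      rw [BExt.mul_def]
      refine BExt.ext ?_ ?_ <;> simp [hb1])))
  let j₂ : UE (std Q₂) →* D := MonoidHom.mk'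
    (fun y => ⟨((1, y), ⟨1, (1, Abelianization.of (ρ₂ y))⟩), Prod.ext (by simp [abP, BExt.proj]) rfl⟩)
    (fun y y' => Subtype.ext (Prod.ext (Prod.ext (one_mul 1).symm rfl) (by
      show _ = (⟨_, _⟩ : BExt b) * ⟨_, _⟩
      rw [BExt.mul_def]
      refine BExt.ext ?_ ?_ <;> simp [hb2])))
  have hd₁ : ∀ x, (j₁ x)⁻¹ * β (β₁ x) ∈ Subgroup.center D := fun x => hτc (by
    rw [MonoidHom.mem_ker, map_mul, map_inv, ← MonoidHom.comp_apply τ β, hβ, hρ₁]
    rw [show τ (j₁ x) = (ρ₁ x, 1) from Prod.ext rfl (map_one ρ₂), inv_mul_cancel])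
  have hd₂ : ∀ y, (j₂ y)⁻¹ * β (β₂ y) ∈ Subgroup.center D := fun y => hτc (by
    rw [MonoidHom.mem_ker, map_mul, map_inv, ← MonoidHom.comp_apply τ β, hβ, hρ₂]
    rw [show τ (j₂ y) = (1, ρ₂ y) from Prod.ext (map_one ρ₁) rfl, inv_mul_cancel])
  let ι : Tens Q₁ Q₂ →* (UE (std Q₁) × UE (std Q₂)) × BExt b :=
    { toFun := fun t => (1, ⟨t, 1⟩)
      map_one' := rfl
      map_mul' := fun t t' => Prod.ext (one_mul 1).symm (by
        show (⟨_, _⟩ : BExt b) = ⟨_, _⟩ * ⟨_, _⟩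
        rw [BExt.mul_def]
        refine BExt.ext ?_ ?_ <;> simp) }
  have hkey : ∀ t, ((β (ΦT t : E) : D) : (UE (std Q₁) × UE (std Q₂)) × BExt b) = ι t := by
    intro t
    induction t using Multiplicative.rec with
    | ofAdd t =>
    induction t using TensorProduct.induction_on with
    | zero => rw [ofAdd_zero, map_one, map_one, OneMemClass.coe_one, map_one]; rfl
    | add t t' ht ht' => rw [ofAdd_add, map_mul, map_mul, Subgroup.coe_mul, map_mul, Subgroup.coe_mul, ht, ht']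
    | tmul a a' =>
      obtain ⟨qa, ha⟩ := QuotientGroup.mk'_surjective (commutator Q₁) (Additive.toMul a)
      obtain ⟨qa', ha'⟩ := QuotientGroup.mk'_surjective (commutator Q₂) (Additive.toMul a')
      obtain ⟨x, rfl⟩ := rho_surjective (std Q₁) (std_surjective Q₁) qa
      obtain ⟨y, rfl⟩ := rho_surjective (std Q₂) (std_surjective Q₂) qa'
      have ea : a = Additive.ofMul (Abelianization.of (ρ₁ x)) := congrArg Additive.ofMul ha.symm
      have ea' : a' = Additive.ofMul (Abelianization.of (ρ₂ y)) := congrArg Additive.ofMul ha'.symm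
      rw [ea, ea', hΦT, map_commutatorElement, bracket_congr_center (hd₁ x) (hd₂ y)]
      show ⁅(j₁ x : (UE (std Q₁) × UE (std Q₂)) × BExt b), (j₂ y : (UE (std Q₁) × UE (std Q₂)) × BExt b)⁆ = _
      refine Prod.ext ?_ ?_
      · show ⁅((x, (1 : UE (std Q₂))) : UE (std Q₁) × UE (std Q₂)), ((1 : UE (std Q₁)), y)⁆ = 1
        rw [commutatorElement_eq_one_iff_mul_comm]; simp
      · show ⁅(⟨1, (Abelianization.of (ρ₁ x), 1)⟩ : BExt b), (⟨1, (1, Abelianization.of (ρ₂ y))⟩ : BExt b)⁆ = _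
        rw [BExt.commutator_mk]
        refine BExt.ext ?_ rfl
        simp [b, tensB, ι]
        rfl
  refine ⟨MulEquiv.ofBijective Φ ⟨?_, hsurj⟩⟩
  rw [injective_iff_map_eq_one]
  rintro ⟨⟨m₁, hm₁'⟩, ⟨m₂, hm₂'⟩, t⟩ h
  have h1 : β₁ m₁ * (β₂ m₂ * (ΦT t : E)) = 1 := congrArg Subtype.val h
  have h2 := congrArg (fun e => ((β e : D) : (UE (std Q₁) × UE (std Q₂)) × BExt b)) h1
  simp only [map_mul, map_one, Subgroup.coe_mul, OneMemClass.coe_one, hkey] at h2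
  have e1 : β (β₁ m₁) = j₁ m₁ := (eq_on_commutator j₁ (β.comp β₁) hd₁ hm₁'.2).symm
  have e2 : β (β₂ m₂) = j₂ m₂ := (eq_on_commutator j₂ (β.comp β₂) hd₂ hm₂'.2).symm
  rw [e1, e2] at h2
  have k1 : m₁ * (1 * 1) = 1 := congrArg (fun v : (UE (std Q₁) × UE (std Q₂)) × BExt b => v.1.1) h2
  have k2 : 1 * (m₂ * 1) = 1 := congrArg (fun v : (UE (std Q₁) × UE (std Q₂)) × BExt b => v.1.2) h2
  simp only [one_mul, mul_one] at k1 k2
  subst k1 k2
  simp only [map_one, OneMemClass.coe_one, one_mul] at h2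
  have k4 : t = 1 := congrArg (fun v : (UE (std Q₁) × UE (std Q₂)) × BExt b => v.2.c) h2
  subst k4
  rfl

theorem hasSchurMultiplier_prod [Finite Q₁] [Finite Q₂] {A : Type w} {B : Type w} [CommGroup A] [CommGroup B]
    (hA : Cfsg.HasSchurMultiplier Q₁ A) (hB : Cfsg.HasSchurMultiplier Q₂ B) :
    Cfsg.HasSchurMultiplier (Q₁ × Q₂) (A × B × Tens Q₁ Q₂) := by
  obtain ⟨eA⟩ := equiv_mult (std Q₁) (std_surjective Q₁) hA
  obtain ⟨eB⟩ := equiv_mult (std Q₂) (std_surjective Q₂) hB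
  obtain ⟨e⟩ := product_equiv Q₁ Q₂
  exact hasSchurMultiplier_of_equiv (std (Q₁ × Q₂)) (std_surjective _)
    ((eA.prodCongr (eB.prodCongr (MulEquiv.refl (Tens Q₁ Q₂)))).trans e)

end Cfsg.Agent.Grp.SchurM
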