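import Mathlib
import Cfsg.Agent.Lib.Grp.SchurM.Basic
import Cfsg.Agent.Lib.Grp.SchurM.Projective

/-!
Restriction and corestriction between the multiplier of a group and of a subgroup; duality of finite abelian groups.
-/

namespace Cfsg.Agent.Grp.SchurM

open scoped commutatorElement

universe u v

theorem exists_res_cor {Q : Type u} [Group Q] [Finite Q] (U : Subgroup Q) :
    ∃ (res : mult (std Q) →* mult (std U)) (cor : mult (std U) →* mult (std Q)), ∀ a, cor (res a) = a ^ U.index := by
  classical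
  set f := std Q
  have hf : Function.Surjective f := std_surjective Q
  set R : Subgroup (FreeGroup Q) := f.ker
  set H : Subgroup (FreeGroup Q) := U.comap f
  have hRH : R ≤ H := fun x hx => by
    show f x ∈ U
    rw [MonoidHom.mem_ker.mp hx]; exact one_mem _
  set RH := R.subgroupOf H
  set N : Subgroup H := ⁅(⊤ : Subgroup H), RH⁆
  let mkW : H →* H ⧸ N := QuotientGroup.mk' N
  set KW : Subgroup (H ⧸ N) := RH.map mkW
  have hKWc : KW ≤ Subgroup.center (H ⧸ N) := by
    rintro _ ⟨r, hr, rfl⟩
    refine Subgroup.mem_center_iff.mpr fun g => ?_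
    obtain ⟨y, rfl⟩ := QuotientGroup.mk'_surjective N g
    show mkW y * mkW r = mkW r * mkW y
    rw [← commutatorElement_eq_one_iff_mul_comm, ← map_commutatorElement]
    exact (QuotientGroup.eq_one_iff _).mpr (Subgroup.commutator_mem_commutator (Subgroup.mem_top y) hr)
  let _ : CommGroup KW := { (inferInstance : Group KW) with
    mul_comm := fun a b => Subtype.ext (Subgroup.mem_center_iff.mp (hKWc b.2) a) }
  have hfin : H.index = U.index := U.index_comap_of_surjective hf
  have : H.FiniteIndex := ⟨by rw [hfin]; exact Subgroup.index_ne_zero_of_finite⟩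
  let _ := H.fintypeQuotientOfFiniteIndex
  have hRn : R.Normal := inferInstance
  let cst : FreeGroup Q → (R →* KW) := fun g =>
    { toFun := fun r => ⟨mkW ⟨g⁻¹ * r * g, hRH (by simpa using hRn.conj_mem _ r.2 g⁻¹)⟩,
        Subgroup.mem_map_of_mem mkW (show g⁻¹ * (r : FreeGroup Q) * g ∈ R by simpa using hRn.conj_mem _ r.2 g⁻¹)⟩
      map_one' := Subtype.ext (by
        show mkW _ = 1
        convert map_one mkW
        simp)
      map_mul' := fun a b => Subtype.ext (by
        show mkW _ = mkW _ * mkW _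
        rw [← map_mul]
        congr 1
        apply Subtype.ext
        show g⁻¹ * ((a : FreeGroup Q) * b) * g = g⁻¹ * a * g * (g⁻¹ * b * g)
        group) }
  have hcst : ∀ g (h : H) r, cst (g * h) r = cst g r := fun g h r => Subtype.ext (by
    show mkW _ = mkW ⟨g⁻¹ * r * g, _⟩
    set w : H := ⟨g⁻¹ * r * g, hRH (by simpa using hRn.conj_mem _ r.2 g⁻¹)⟩
    have hw : w ∈ RH := by
      show g⁻¹ * (r : FreeGroup Q) * g ∈ R
      simpa using hRn.conj_mem _ r.2 g⁻¹
    have e := Subgroup.mem_center_iff.mp (hKWc (Subgroup.mem_map_of_mem mkW hw)) (mkW h⁻¹)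
    calc mkW _ = mkW (h⁻¹ * w * h) := by congr 1; apply Subtype.ext; simp [w, mul_assoc]
      _ = mkW w := by rw [map_mul, map_mul, e, mul_assoc, ← map_mul, inv_mul_cancel, map_one, mul_one])
  let T : H.LeftTransversal := default
  let α : FreeGroup Q ⧸ H → FreeGroup Q := fun q => (T.2.leftQuotientEquiv q : FreeGroup Q)
  have hα : ∀ q, (QuotientGroup.mk (α q) : FreeGroup Q ⧸ H) = q := fun q => T.2.leftQuotientEquiv.symm_apply_apply q
  let trf : R →* KW := ∏ q, cst (α q)
  have htrf : ∀ r, trf r = ∏ q, cst (α q) r := fun r => by simp [trf, MonoidHom.finsetProd_apply]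
  have hinv : ∀ (g : FreeGroup Q) (r : R), trf ⟨g * r * g⁻¹, hRn.conj_mem _ r.2 g⟩ = trf r := by
    intro g r
    rw [htrf, htrf]
    refine Fintype.prod_equiv (MulAction.toPerm g⁻¹) _ _ fun q => ?_
    have h1 : (g⁻¹ * α q)⁻¹ * α (g⁻¹ • q) ∈ H := by
      rw [← QuotientGroup.eq, hα, ← smul_eq_mul, ← MulAction.Quotient.smul_coe, hα]
    rw [show cst (α q) ⟨g * r * g⁻¹, _⟩ = cst (g⁻¹ * α q) r from Subtype.ext (by
      show mkW _ = mkW _
      congr 1; apply Subtype.ext; simp [mul_assoc])]
    have h2 := hcst (g⁻¹ * α q) ⟨_, h1⟩ r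
    rw [show g⁻¹ * α q * ((⟨_, h1⟩ : H) : FreeGroup Q) = α (g⁻¹ • q) by simp [mul_assoc]] at h2
    exact h2.symm
  -- descend to the relations
  let p : R →* rel f := ((QuotientGroup.mk' (relComm f)).comp R.subtype).codRestrict (rel f) fun r => r.2
  have hp : Function.Surjective p := fun e => by
    obtain ⟨x, hx⟩ := QuotientGroup.mk'_surjective (relComm f) (e : UE f)
    have h1 : x ∈ R := by
      have h2 : rho f (e : UE f) = 1 := e.2
      rw [← hx] at h2
      exact h2
    exact ⟨⟨x, h1⟩, Subtype.ext hx⟩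
  have hker : p.ker ≤ trf.ker := by
    have hle : relComm f ≤ trf.ker.map R.subtype := by
      rw [Subgroup.commutator_le]
      intro g _ r hr
      refine ⟨⟨g * r * g⁻¹, hRn.conj_mem _ hr g⟩ * ⟨r, hr⟩⁻¹, ?_, ?_⟩
      · show trf (_ * _) = 1
        rw [map_mul, map_inv, hinv g ⟨r, hr⟩, mul_inv_cancel]
      · simp [commutatorElement_def]
    intro r hr
    obtain ⟨r', hr', he⟩ := hle (show (r : FreeGroup Q) ∈ relComm f from (QuotientGroup.eq_one_iff _).mp (congrArg Subtype.val hr))
    exact (R.subtype_injective he) ▸ hr'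
  let tr : rel f →* KW := p.liftOfSurjective hp ⟨trf, hker⟩
  have htr : ∀ r, tr (p r) = trf r := liftOfSurjective_apply p hp trf hker
  -- values on the multiplier lie in the derived group
  have hW : ∀ (x : R), (x : FreeGroup Q) ∈ commutator (FreeGroup Q) → (trf x : H ⧸ N) ∈ commutator (H ⧸ N) := by
    intro x hx
    let φ : H →* Abelianization (H ⧸ N) := Abelianization.of.comp mkW
    have h1 : MonoidHom.transfer φ (x : FreeGroup Q) = 1 := Abelianization.commutator_subset_ker _ hx
    rw [MonoidHom.transfer_def φ T] at h1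
    refine (QuotientGroup.eq_one_iff _).mp (Eq.trans ?_ h1)
    show ((Abelianization.of.comp KW.subtype) (trf x) : Abelianization (H ⧸ N)) = _
    rw [htrf, map_prod, Subgroup.leftTransversals.diff]
    refine Finset.prod_congr (by congr 1) fun q _ => ?_
    show φ _ = φ _
    congr 1
    apply Subtype.ext
    show (α q)⁻¹ * x * α q = (α q)⁻¹ * _
    rw [Subgroup.smul_apply_eq_smul_apply_inv_smul, smul_eq_mul, mul_assoc]
    congr 2
    show α q = α ((x : FreeGroup Q)⁻¹ • q)
    congr 1
    rw [← hα q, MulAction.Quotient.smul_coe, eq_comm, QuotientGroup.eq]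
    refine hRH ?_
    have := hRn.conj_mem _ x.2 (α q)⁻¹
    simpa [mul_assoc] using this
  -- the lift into the extension of the subgroup
  choose s hs using rho_surjective (std U) (std_surjective U)
  let fU : H →* U := (f.comp H.subtype).codRestrict U fun x => x.2
  let θ₀ : H →* UE (std U) := IsFreeGroup.lift fun g => s (fU (IsFreeGroup.of g))
  have hθ₀ : (rho (std U)).comp θ₀ = fU := IsFreeGroup.ext_hom fun g => by
    rw [MonoidHom.comp_apply, IsFreeGroup.lift_of, hs]
  have hN : N ≤ θ₀.ker := by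
    rw [Subgroup.commutator_le]
    intro a _ r hr
    have h1 : θ₀ r ∈ rel (std U) := by
      show rho (std U) (θ₀ r) = 1
      rw [← MonoidHom.comp_apply, hθ₀]
      exact Subtype.ext (show f r = 1 from hr)
    rw [MonoidHom.mem_ker, map_commutatorElement, commutatorElement_eq_one_iff_mul_comm]
    exact Subgroup.mem_center_iff.mp (rel_le_center _ h1) (θ₀ a)
  let θ : H ⧸ N →* UE (std U) := QuotientGroup.lift N θ₀ hN
  have hNle : N ≤ ((QuotientGroup.mk' (relComm f)).comp H.subtype).ker := by
    rw [Subgroup.commutator_le]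
    intro a _ r hr
    exact (QuotientGroup.eq_one_iff _).mpr (Subgroup.commutator_mem_commutator (Subgroup.mem_top (a : FreeGroup Q)) hr)
  let ι : H ⧸ N →* UE f := QuotientGroup.lift N _ hNle
  obtain ⟨β, hβ⟩ := exists_lift (std U) U.subtype (rho f) (rho_surjective f hf) (rel_le_center f)
  have hθmem : ∀ a : mult f, θ (tr ⟨a, a.2.1⟩ : H ⧸ N) ∈ mult (std U) := by
    intro a
    obtain ⟨x, hx, hxe⟩ : (a : UE f) ∈ (commutator (FreeGroup Q)).map (QuotientGroup.mk' (relComm f)) := by
      rw [commutator_def, Subgroup.map_commutator, Subgroup.map_top_of_surjective _ (QuotientGroup.mk'_surjective _)]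
      exact a.2.2
    have hxR : x ∈ R := by
      have h1 : rho f (a : UE f) = 1 := a.2.1
      rw [← hxe] at h1
      exact h1
    have hpa : p ⟨x, hxR⟩ = ⟨a, a.2.1⟩ := Subtype.ext hxe
    rw [← hpa, htr]
    refine ⟨?_, ?_⟩
    · obtain ⟨r, hr, hre⟩ := (trf ⟨x, hxR⟩).2
      show rho (std U) (θ _) = 1
      rw [← hre]
      show rho (std U) (θ₀ r) = 1
      rw [← MonoidHom.comp_apply, hθ₀]
      exact Subtype.ext (show f r = 1 from hr)
    · have h1 := Subgroup.mem_map_of_mem θ (hW ⟨x, hxR⟩ hx)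
      rw [commutator_def, Subgroup.map_commutator] at h1
      exact Subgroup.commutator_mono le_top le_top h1
  let res : mult f →* mult (std U) :=
    ((θ.comp (KW.subtype)).comp (tr.comp (Subgroup.inclusion (mult_le_rel f)))).codRestrict _ hθmem
  have hcor : ∀ b : mult (std U), β b ∈ mult f := fun b => ⟨by
      show rho f (β b) = 1
      rw [← MonoidHom.comp_apply, hβ, MonoidHom.comp_apply, show rho (std U) (b : UE (std U)) = 1 from b.2.1]
      rfl, by
      have h := Subgroup.mem_map_of_mem β b.2.2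
      rw [commutator_def, Subgroup.map_commutator] at h
      exact Subgroup.commutator_mono le_top le_top h⟩
  refine ⟨res, (β.comp (Subgroup.subtype _)).codRestrict _ hcor, fun a => Subtype.ext ?_⟩
  show β (θ (tr ⟨a, a.2.1⟩ : H ⧸ N)) = ((a : UE f)) ^ U.index
  obtain ⟨x, hx, hxe⟩ : (a : UE f) ∈ (commutator (FreeGroup Q)).map (QuotientGroup.mk' (relComm f)) := by
    rw [commutator_def, Subgroup.map_commutator, Subgroup.map_top_of_surjective _ (QuotientGroup.mk'_surjective _)]
    exact a.2.2
  have hxR : x ∈ R := by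
    have h1 : rho f (a : UE f) = 1 := a.2.1
    rw [← hxe] at h1
    exact h1
  have hpa : p ⟨x, hxR⟩ = ⟨a, a.2.1⟩ := Subtype.ext hxe
  rw [← hpa, htr]
  have hdiff : ∀ w, ((β.comp θ) w)⁻¹ * ι w ∈ Subgroup.center (UE f) := by
    intro w
    obtain ⟨h, rfl⟩ := QuotientGroup.mk'_surjective N w
    refine rel_le_center f ?_
    show rho f _ = 1
    rw [map_mul, map_inv, MonoidHom.comp_apply, ← MonoidHom.comp_apply (rho f) β, hβ, MonoidHom.comp_apply]
    show ((rho (std U) (θ₀ h) : U) : Q)⁻¹ * f h = 1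
    rw [← MonoidHom.comp_apply, hθ₀]
    exact inv_mul_cancel _
  have e := eq_on_commutator (β.comp θ) ι hdiff (hW ⟨x, hxR⟩ hx)
  rw [MonoidHom.comp_apply] at e
  rw [e, htrf, show ι ((∏ q, cst (α q) ⟨x, hxR⟩ : KW) : H ⧸ N) = (a : UE f) ^ Nat.card (FreeGroup Q ⧸ H) from ?_]
  · rw [← Subgroup.index_eq_card, hfin]
  · let ιr : KW →* rel f := (ι.comp KW.subtype).codRestrict (rel f) fun w => by
      obtain ⟨r, hr, hre⟩ := w.2
      show rho f (ι (w : H ⧸ N)) = 1
      rw [← hre]
      exact hr
    let _ : CommGroup (rel f) := { (inferInstance : Group (rel f)) with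
      mul_comm := fun a b => Subtype.ext (Subgroup.mem_center_iff.mp (rel_le_center f b.2) a) }
    show ((ιr (∏ q, cst (α q) ⟨x, hxR⟩) : rel f) : UE f) = _
    rw [map_prod, Finset.prod_congr rfl (fun q _ => show ιr (cst (α q) ⟨x, hxR⟩) = ⟨a, a.2.1⟩ from Subtype.ext ?_)]
    · simp [Finset.prod_const]
    · show QuotientGroup.mk' (relComm f) ((α q)⁻¹ * x * α q) = a
      rw [map_mul, map_mul, map_inv, hxe, mul_assoc, ← Subgroup.mem_center_iff.mp (mult_le_center f a.2), inv_mul_cancel_left]

/-- A quotient of a finite abelian group embeds in it. -/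
theorem exists_injective_of_surjective {A : Type u} {B : Type v} [CommGroup A] [CommGroup B] [Finite A]
    (π : A →* B) (hπ : Function.Surjective π) : ∃ j : B →* A, Function.Injective j := by
  have : Finite B := Finite.of_surjective π hπ
  obtain ⟨eA⟩ := CommGroup.monoidHom_mulEquiv_of_hasEnoughRootsOfUnity A ℂ
  obtain ⟨eB⟩ := CommGroup.monoidHom_mulEquiv_of_hasEnoughRootsOfUnity B ℂ
  let c : (B →* ℂˣ) →* (A →* ℂˣ) :=
    { toFun := fun χ => χ.comp π, map_one' := rfl, map_mul' := fun _ _ => rfl }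
  refine ⟨(eA.toMonoidHom.comp c).comp eB.symm.toMonoidHom, ?_⟩
  refine (eA.injective.comp (fun χ χ' h => ?_)).comp eB.symm.injective
  exact (MonoidHom.cancel_right hπ).mp h

end Cfsg.Agent.Grp.SchurM
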