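import Mathlib
import Cfsg.Prelude.Def_KGroupFacts
import Cfsg.Agent.Lib.Spor.Cos.Act

/-!
Cyclic central extensions of prime order from tables: shifts over the points of an action, respecting weights on
pairs of points marked by a point of a second action.
-/

set_option autoImplicit false
set_option maxRecDepth 100000
set_option linter.style.haveILetI false

open Cfsg.Agent.Spor.Cos
open scoped commutatorElement

namespace Cfsg.Agent.Grp.SchurM

universe u v

/-- The tables. -/
structure SignTab where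
  /-- the action -/
  B : Act
  /-- the prime -/
  p : ℕ
  /-- the action on the marks -/
  C : Act
  /-- shifts, at `s * N + x` -/
  sgT : Tab
  /-- at `x * N + y`: for each weight below `p` a field with one more than the mark, or nothing -/
  edT : Tab
  /-- bits of such a field -/
  bits : ℕ
  /-- at `x`: a predecessor plus `N` times a rank -/
  paT : Tab
  /-- the root -/
  root : ℕ

namespace SignTab

variable (S : SignTab)

/-- A shift. -/
noncomputable def sg (s x : ℕ) : ℕ := S.sgT.at (s * S.B.N + x)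

/-- The mark of a pair with a weight, increased by one. -/
noncomputable def lab (x y c : ℕ) : ℕ := (S.edT.at (x * S.B.N + y) >>> (S.bits * c)) % 2 ^ S.bits

/-- The shifts respect the marks. -/
noncomputable def chkStep (x : ℕ) : Bool :=
  (List.range S.B.N).all fun y => force (S.edT.at (x * S.B.N + y)) fun e => Nat.beq e 0 ||
    (List.range S.p).all fun c => force (S.lab x y c) fun l => Nat.beq l 0 ||
      (Nat.ble l S.C.N && (List.range S.B.n).all fun s =>
        force ((c + S.sg s y + (S.p - S.sg s x % S.p)) % S.p) fun c' =>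
          Nat.beq (S.lab (S.B.im x s) (S.B.im y s) c') (S.C.im (l - 1) s + 1))

/-- The marks of a pair are distinct. -/
noncomputable def chkApart (x : ℕ) : Bool :=
  (List.range S.B.N).all fun y => force (S.edT.at (x * S.B.N + y)) fun e => Nat.beq e 0 ||
    (List.range S.p).all fun c => (List.range c).all fun c' =>
      Nat.beq (S.lab x y c) 0 || !Nat.beq (S.lab x y c) (S.lab x y c')

/-- The predecessor of a point. -/
noncomputable def chkPred (x : ℕ) : Bool :=
  Nat.beq x S.root || force (S.paT.at x) fun e =>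
    Nat.blt (S.paT.at (e % S.B.N) / S.B.N) (e / S.B.N) &&
      (List.range S.p).any fun c => force (S.lab (e % S.B.N) x c) fun l => Nat.blt 0 l && Nat.ble l S.C.N

/-- Follow a word from a point, adding up the shifts. -/
noncomputable def trk (x : ℕ) : List ℕ → ℕ × ℕ
  | [] => (x, 0)
  | s :: w => (S.B.im (trk x w).1 s, ((trk x w).2 + S.sg s (trk x w).1) % S.p)

/-- The tables are correct. -/
structure Ok : Prop where
  prime : S.p.Prime
  root_lt : S.root < S.B.N
  step : ∀ x < S.B.N, S.chkStep x = true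
  apart : ∀ x < S.B.N, S.chkApart x = true
  pred : ∀ x < S.B.N, S.chkPred x = true

/-- Two words whose lifts differ at the root, as values. -/
noncomputable def chkShift (u w : List ℕ) : Bool :=
  u.all (fun s => Nat.blt s S.B.n) && w.all (fun s => Nat.blt s S.B.n) &&
    !Nat.beq (S.trk S.root (u ++ w)).2 (S.trk S.root (w ++ u)).2

/-- The points. -/
abbrev Pt : Type := Fin S.B.N

/-- The sheets. -/
abbrev Sheet : Type := Fin S.B.N × ZMod S.p

variable {S} {G : Type u} [Group G] {g : ℕ → G} {π : G →* Equiv.Perm (Fin S.B.N)}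
  {θ : G →* Equiv.Perm (Fin S.C.N)}

/-- The lift of an element by a function of the points. -/
def lift (π : G →* Equiv.Perm (Fin S.B.N)) (a : G) (σ : S.Pt → ZMod S.p) : Equiv.Perm S.Sheet where
  toFun x := (π a x.1, x.2 + σ x.1)
  invFun x := (π a⁻¹ x.1, x.2 - σ (π a⁻¹ x.1))
  left_inv x := by
    have e : π a⁻¹ (π a x.1) = x.1 := by
      rw [← Equiv.Perm.mul_apply, ← map_mul, inv_mul_cancel, map_one, Equiv.Perm.one_apply]
    simp only [e, add_sub_cancel_right]
  right_inv x := by
    have e : π a (π a⁻¹ x.1) = x.1 := by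
      rw [← Equiv.Perm.mul_apply, ← map_mul, mul_inv_cancel, map_one, Equiv.Perm.one_apply]
    simp only [e, sub_add_cancel]

theorem lift_apply (a : G) (σ : S.Pt → ZMod S.p) (x : S.Pt) (v : ZMod S.p) :
    lift π a σ (x, v) = (π a x, v + σ x) := rfl

theorem lift_one : lift π 1 (fun _ => 0) = 1 := Equiv.ext fun x => by
  obtain ⟨y, v⟩ := x
  rw [lift_apply, map_one, add_zero]
  rfl

theorem lift_mul (a b : G) (σ τ : S.Pt → ZMod S.p) :
    lift π a σ * lift π b τ = lift π (a * b) fun x => τ x + σ (π b x) := Equiv.ext fun x => by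
  obtain ⟨y, v⟩ := x
  rw [Equiv.Perm.mul_apply, lift_apply, lift_apply, lift_apply, map_mul, add_assoc]
  rfl

variable (S g π)

/-- The generators upstairs. -/
noncomputable def xs (s : ℕ) : Equiv.Perm S.Sheet × G :=
  if s < S.B.n then (lift π (g s) fun x => (S.sg s x.1 : ZMod S.p), g s) else 1

/-- The extension. -/
noncomputable def cov : Subgroup (Equiv.Perm S.Sheet × G) := Subgroup.closure {x | ∃ s < S.B.n, S.xs g π s = x}

/-- The projection. -/
noncomputable def proj : S.cov g π →* G := (MonoidHom.snd (Equiv.Perm S.Sheet) G).comp (S.cov g π).subtype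

variable {S g π}

/-- A marked pair with a weight. -/
def Edge (x y : S.Pt) (z : Fin S.C.N) (c : ℕ) : Prop := c < S.p ∧ S.lab x.1 y.1 c = z.1 + 1

/-- Lifts respecting the marks. -/
def Good (π : G →* Equiv.Perm (Fin S.B.N)) (θ : G →* Equiv.Perm (Fin S.C.N)) (a : Equiv.Perm S.Sheet × G) :
    Prop :=
  ∃ σ : S.Pt → ZMod S.p, a.1 = lift π a.2 σ ∧
    ∀ x y z c, Edge x y z c → ∃ c', Edge (π a.2 x) (π a.2 y) (θ a.2 z) c' ∧ (c' : ZMod S.p) = c + σ y - σ x

theorem lab_mod_eq_zero {x y c : ℕ} (h : S.edT.at (x * S.B.N + y) = 0) : S.lab x y c = 0 := by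
  simp [lab, h]

theorem hom_im (hA : S.B.Hom g π) {s : ℕ} (hs : s < S.B.n) (x : S.Pt) : (π (g s) x : ℕ) = S.B.im x.1 s := by
  rw [hA.2 s, S.B.perm_apply hA.1 hs]

theorem Ok.good_xs (h : S.Ok) (hA : S.B.Hom g π) (hC : S.C.Hom g θ) (hn : S.C.n = S.B.n) {s : ℕ} (hs : s < S.B.n) :
    Good π θ (S.xs g π s) := by
  have hp : 0 < S.p := h.prime.pos
  refine ⟨fun x => (S.sg s x.1 : ZMod S.p), by simp only [xs, if_pos hs], ?_⟩
  rintro x y z c ⟨hc, hl⟩
  have hk := List.all_eq_true.1 (h.step x.1 x.2) y.1 (List.mem_range.2 y.2)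
  simp only [force_eq, Bool.or_eq_true, List.all_eq_true, List.mem_range, Bool.and_eq_true] at hk
  rcases hk with hk | hk
  · rw [lab_mod_eq_zero (Nat.eq_of_beq_eq_true hk)] at hl; omega
  rcases hk c hc with hk | ⟨-, hk⟩
  · rw [Nat.eq_of_beq_eq_true hk] at hl; omega
  have he := Nat.eq_of_beq_eq_true (hk s hs)
  rw [hl, Nat.add_sub_cancel] at he
  rw [show (S.xs g π s).2 = g s by simp only [xs, if_pos hs]]
  refine ⟨(c + S.sg s y.1 + (S.p - S.sg s x.1 % S.p)) % S.p, ⟨Nat.mod_lt _ hp, ?_⟩, ?_⟩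
  · rw [hom_im hA hs, hom_im hA hs, he, hC.2 s, S.C.perm_apply hC.1 (hn.symm ▸ hs)]
  · rw [ZMod.natCast_mod, Nat.cast_add, Nat.cast_add, Nat.cast_sub (Nat.mod_lt _ hp).le, ZMod.natCast_self,
      ZMod.natCast_mod]
    ring

theorem Ok.edge_unique (h : S.Ok) {x y : S.Pt} {z : Fin S.C.N} {c d : ℕ} (hc : Edge x y z c) (hd : Edge x y z d) :
    c = d := by
  obtain ⟨hc, hlc⟩ := hc
  obtain ⟨hd, hld⟩ := hd
  have ha := List.all_eq_true.1 (h.apart x.1 x.2) y.1 (List.mem_range.2 y.2)
  simp only [force_eq, Bool.or_eq_true, List.all_eq_true, List.mem_range, Bool.not_eq_true'] at ha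
  rcases ha with ha | ha
  · rw [lab_mod_eq_zero (Nat.eq_of_beq_eq_true ha)] at hlc; omega
  rcases lt_trichotomy c d with l | l | l
  · rcases ha d hd c l with e | e
    · rw [Nat.eq_of_beq_eq_true e] at hld; omega
    · rw [hlc, hld, ← Bool.not_eq_true] at e; exact absurd (Nat.beq_refl _) e
  · exact l
  · rcases ha c hc d l with e | e
    · rw [Nat.eq_of_beq_eq_true e] at hlc; omega
    · rw [hlc, hld, ← Bool.not_eq_true] at e; exact absurd (Nat.beq_refl _) e

variable [Finite G]

theorem Ok.finite (h : S.Ok) : Finite (Equiv.Perm S.Sheet × G) := by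
  have : NeZero S.p := ⟨h.prime.pos.ne'⟩
  infer_instance

theorem Ok.good_of_mem (h : S.Ok) (hA : S.B.Hom g π) (hC : S.C.Hom g θ) (hn : S.C.n = S.B.n) {a : Equiv.Perm S.Sheet × G} (ha : a ∈ S.cov g π) :
    Good π θ a := by
  have := h.finite (G := G)
  have hm : a ∈ Submonoid.closure {x | ∃ s < S.B.n, S.xs g π s = x} := by
    rw [← Subgroup.closure_toSubmonoid_of_finite]; exact ha
  clear ha
  induction hm using Submonoid.closure_induction with
  | mem a ha => obtain ⟨s, hs, rfl⟩ := ha; exact h.good_xs hA hC hn hs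
  | one =>
    refine ⟨fun _ => 0, lift_one.symm, fun x y z c hc => ⟨c, ?_, by simp⟩⟩
    simpa using hc
  | mul a b _ _ iha ihb =>
    obtain ⟨σ, h1, h2⟩ := iha
    obtain ⟨τ, k1, k2⟩ := ihb
    refine ⟨fun x => τ x + σ (π b.2 x), ?_, fun x y z c hc => ?_⟩
    · rw [Prod.fst_mul, h1, k1, lift_mul, Prod.snd_mul]
    · obtain ⟨c1, e1, f1⟩ := k2 x y z c hc
      obtain ⟨c2, e2, f2⟩ := h2 _ _ _ _ e1
      rw [Prod.snd_mul]
      simp only [map_mul, Equiv.Perm.mul_apply]
      refine ⟨c2, e2, ?_⟩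
      rw [f2, f1]
      ring

/-- A lift of the identity is constant. -/
theorem Ok.const_of_mem (h : S.Ok) (hA : S.B.Hom g π) (hC : S.C.Hom g θ) (hn : S.C.n = S.B.n)
    {a : Equiv.Perm S.Sheet × G} (ha : a ∈ S.cov g π) (h2 : a.2 = 1) : ∃ d : ZMod S.p, a.1 = lift π 1 fun _ => d := by
  obtain ⟨σ, h1, he⟩ := h.good_of_mem hA hC hn ha
  rw [h2] at h1
  let r : S.Pt := ⟨S.root, h.root_lt⟩
  refine ⟨σ r, h1.trans (congrArg (lift π 1) (funext ?_))⟩
  have key : ∀ (n : ℕ) (y : S.Pt), S.paT.at y.1 / S.B.N < n → σ y = σ r := by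
    intro n
    induction n with
    | zero => intro y hy; exact absurd hy (Nat.not_lt_zero _)
    | succ n ih =>
      intro y hy
      have hp := h.pred y.1 y.2
      simp only [chkPred, force_eq, Bool.or_eq_true, Bool.and_eq_true, List.any_eq_true, List.mem_range] at hp
      rcases hp with hp | ⟨hrk, c, hc, hl0, hl1⟩
      · rw [show y = r from Fin.ext (Nat.eq_of_beq_eq_true hp)]
      · let x : S.Pt := ⟨S.paT.at y.1 % S.B.N, Nat.mod_lt _ (Nat.zero_lt_of_lt h.root_lt)⟩
        have l0 : 1 ≤ S.lab x.1 y.1 c := Nat.le_of_ble_eq_true hl0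
        let z : Fin S.C.N := ⟨S.lab x.1 y.1 c - 1, lt_of_lt_of_le (Nat.sub_lt l0 Nat.one_pos) (Nat.le_of_ble_eq_true hl1)⟩
        have E : Edge x y z c := ⟨hc, (Nat.sub_add_cancel l0).symm⟩
        obtain ⟨c', E', f⟩ := he x y z c E
        rw [h2, map_one, map_one] at E'
        simp only [Equiv.Perm.one_apply] at E'
        rw [← h.edge_unique E E', add_sub_assoc, left_eq_add, sub_eq_zero] at f
        rw [f]
        exact ih x (lt_of_lt_of_le (Nat.le_of_ble_eq_true hrk) (Nat.lt_succ_iff.1 hy))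
  exact fun y => key _ y (Nat.lt_succ_self _)

theorem trk_spec (hA : S.B.Hom g π) : ∀ w : List ℕ, (∀ s ∈ w, s < S.B.n) → ∀ x : S.Pt,
    (((ev (S.xs g π) w).1 (x, 0)).1 : ℕ) = (S.trk x.1 w).1 ∧
      ((ev (S.xs g π) w).1 (x, 0)).2 = ((S.trk x.1 w).2 : ZMod S.p)
  | [], _, x => ⟨rfl, Nat.cast_zero.symm⟩
  | s :: w, h, x => by
    obtain ⟨e1, e2⟩ := trk_spec hA w (fun t ht => h t (List.mem_cons_of_mem _ ht)) x
    have hs := h s (List.mem_cons_self ..)
    set y := (ev (S.xs g π) w).1 (x, 0) with hy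
    have e : (ev (S.xs g π) (s :: w)).1 (x, 0) = (π (g s) y.1, y.2 + (S.sg s y.1.1 : ZMod S.p)) := by
      show ((S.xs g π s).1 * (ev (S.xs g π) w).1) _ = _
      rw [Equiv.Perm.mul_apply, ← hy]
      simp only [xs, if_pos hs]
      rfl
    rw [e]
    refine ⟨?_, ?_⟩
    · show ((π (g s) y.1 : S.Pt) : ℕ) = _
      rw [hom_im hA hs, e1]; rfl
    · show y.2 + (S.sg s y.1.1 : ZMod S.p) = _
      rw [e1, e2, ← Nat.cast_add, ← ZMod.natCast_mod]
      rfl

omit [Finite G] in
theorem ev_snd : ∀ w : List ℕ, (∀ s ∈ w, s < S.B.n) → (ev (S.xs g π) w).2 = ev g w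
  | [], _ => rfl
  | s :: w, h => by
    show (S.xs g π s).2 * (ev (S.xs g π) w).2 = g s * ev g w
    rw [ev_snd w fun t ht => h t (List.mem_cons_of_mem _ ht)]
    simp only [xs, if_pos (h s (List.mem_cons_self ..))]

/-- The extension is a stem extension with kernel of prime order. -/
theorem Ok.stem (h : S.Ok) (hA : S.B.Hom g π) (hC : S.C.Hom g θ) (hn : S.C.n = S.B.n) (hgen : Subgroup.closure {x | ∃ s < S.B.n, g s = x} = ⊤)
    {u w : List ℕ} (hsh : S.chkShift u w = true) (hcomm : ev g (u ++ w) = ev g (w ++ u)) :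
    Cfsg.IsStemExtension (S.proj g π) ∧ Nat.card (S.proj g π).ker = S.p := by
  have := h.finite (G := G)
  have : Fact S.p.Prime := ⟨h.prime⟩
  simp only [chkShift, Bool.and_eq_true, List.all_eq_true, Bool.not_eq_true'] at hsh
  obtain ⟨⟨hu, hw⟩, hne⟩ := hsh
  have hu' : ∀ s ∈ u, s < S.B.n := fun s hs => Nat.le_of_ble_eq_true (hu s hs)
  have hw' : ∀ s ∈ w, s < S.B.n := fun s hs => Nat.le_of_ble_eq_true (hw s hs)
  have hmem : ∀ {v : List ℕ}, (∀ s ∈ v, s < S.B.n) → ev (S.xs g π) v ∈ S.cov g π := fun hv =>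
    ev_mem _ fun s hs => Subgroup.subset_closure ⟨s, hv s hs, rfl⟩
  let r : S.Pt := ⟨S.root, h.root_lt⟩
  let φ : (S.proj g π).ker →* Multiplicative (ZMod S.p) :=
    { toFun := fun z => Multiplicative.ofAdd (z.1.1.1 (r, 0)).2
      map_one' := rfl
      map_mul' := fun a b => by
        obtain ⟨d, hd⟩ := h.const_of_mem hA hC hn a.1.2 a.2
        obtain ⟨e, he⟩ := h.const_of_mem hA hC hn b.1.2 b.2
        rw [← ofAdd_add]
        refine congrArg Multiplicative.ofAdd ?_
        show ((a.1.1.1 * b.1.1.1) (r, 0)).2 = _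
        rw [hd, he, lift_mul]
        simp only [lift_apply, map_one, Equiv.Perm.one_apply]
        ring }
  have hφ : Function.Injective φ := by
    rw [← MonoidHom.ker_eq_bot_iff, eq_bot_iff]
    intro z hz
    obtain ⟨d, hd⟩ := h.const_of_mem hA hC hn z.1.2 z.2
    have h0 : (z.1.1.1 (r, 0)).2 = 0 := congrArg Multiplicative.toAdd (MonoidHom.mem_ker.1 hz)
    rw [hd, lift_apply, zero_add] at h0
    subst h0
    refine Subgroup.mem_bot.2 (Subtype.ext (Subtype.ext (Prod.ext ?_ z.2)))
    rw [hd, lift_one]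
    rfl
  let U : S.cov g π := ⟨_, hmem hu'⟩
  let W : S.cov g π := ⟨_, hmem hw'⟩
  have hz : ⁅U, W⁆ ∈ (S.proj g π).ker := by
    rw [MonoidHom.mem_ker, map_commutatorElement, commutatorElement_eq_one_iff_mul_comm]
    show (ev (S.xs g π) u).2 * (ev (S.xs g π) w).2 = (ev (S.xs g π) w).2 * (ev (S.xs g π) u).2
    rw [ev_snd u hu', ev_snd w hw', ← ev_append, ← ev_append, hcomm]
  have hφz : φ ⟨_, hz⟩ ≠ 1 := by
    intro h1
    have h1' := congrArg Subtype.val (congrArg Subtype.val (hφ (h1.trans φ.map_one.symm)))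
    have heq : ev (S.xs g π) (u ++ w) = ev (S.xs g π) (w ++ u) := by
      rw [ev_append, ev_append]
      exact commutatorElement_eq_one_iff_mul_comm.1 h1'
    have huw : ∀ s ∈ u ++ w, s < S.B.n := fun s hs => (List.mem_append.1 hs).elim (hu' s) (hw' s)
    have hwu : ∀ s ∈ w ++ u, s < S.B.n := fun s hs => (List.mem_append.1 hs).elim (hw' s) (hu' s)
    have e1 := (trk_spec hA _ huw r).2
    rw [heq, (trk_spec hA _ hwu r).2, ZMod.natCast_eq_natCast_iff'] at e1
    have hlt : ∀ v, (S.trk S.root v).2 < S.p := fun v => by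
      cases v with
      | nil => exact h.prime.pos
      | cons => exact Nat.mod_lt _ h.prime.pos
    rw [Nat.mod_eq_of_lt (hlt _), Nat.mod_eq_of_lt (hlt _)] at e1
    rw [← Bool.not_eq_true] at hne
    exact hne (e1 ▸ Nat.beq_refl _)
  have hcard : Nat.card φ.range = S.p := by
    have hd := Subgroup.card_subgroup_dvd_card φ.range
    rw [Nat.card_eq_fintype_card (α := Multiplicative (ZMod S.p)), Fintype.card_multiplicative, ZMod.card] at hd
    rcases (Nat.dvd_prime h.prime).1 hd with hc | hc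
    · exact absurd (Subgroup.mem_bot.1 (Subgroup.eq_bot_of_card_eq _ hc ▸ MonoidHom.mem_range.2 ⟨_, rfl⟩)) hφz
    · exact hc
  have hker : Nat.card (S.proj g π).ker = S.p := by
    rw [Nat.card_congr (MonoidHom.ofInjective hφ).toEquiv, hcard]
  refine ⟨⟨?_, fun z hz' => ?_, fun z hz' => ?_⟩, hker⟩
  · rw [← MonoidHom.range_eq_top, eq_top_iff, ← hgen, Subgroup.closure_le]
    rintro x ⟨s, hs, rfl⟩
    exact ⟨⟨S.xs g π s, Subgroup.subset_closure ⟨s, hs, rfl⟩⟩, by
      show (S.xs g π s).2 = g s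
      simp only [xs, if_pos hs]⟩
  · refine Subgroup.mem_center_iff.2 fun v => Subtype.ext (Prod.ext ?_ ?_)
    · show v.1.1 * z.1.1 = z.1.1 * v.1.1
      obtain ⟨d, hd⟩ := h.const_of_mem hA hC hn z.2 hz'
      obtain ⟨τ, k1, -⟩ := h.good_of_mem hA hC hn v.2
      rw [hd, k1, lift_mul, lift_mul, mul_one, one_mul]
      congr 1
      funext x
      simp only [map_one, Equiv.Perm.one_apply, add_comm]
    · show v.1.2 * z.1.2 = z.1.2 * v.1.2
      rw [show z.1.2 = 1 from hz', mul_one, one_mul]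
  · have hgenk : Subgroup.zpowers (⟨_, hz⟩ : (S.proj g π).ker) = ⊤ :=
      zpowers_eq_top_of_prime_card hker fun e => hφz (by rw [e, map_one])
    obtain ⟨k, hk⟩ := hgenk.symm ▸ Subgroup.mem_top (⟨z, hz'⟩ : (S.proj g π).ker)
    rw [show z = ⁅U, W⁆ ^ k from (congrArg Subtype.val hk).symm]
    exact zpow_mem (Subgroup.commutator_mem_commutator (Subgroup.mem_top _) (Subgroup.mem_top _)) k

/-- The multiplier from tables and a bound. -/
theorem Ok.multiplier (h : S.Ok) {G : Type} [Group G] [Finite G] {g : ℕ → G} {π : G →* Equiv.Perm (Fin S.B.N)}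
    {θ : G →* Equiv.Perm (Fin S.C.N)} (hA : S.B.Hom g π) (hC : S.C.Hom g θ) (hn : S.C.n = S.B.n)
    (hgen : Subgroup.closure {x | ∃ s < S.B.n, g s = x} = ⊤) {u w : List ℕ}
    (hsh : S.chkShift u w = true) (hcomm : ev g (u ++ w) = ev g (w ++ u)) {T : Type v} [Group T] (e : G ≃* T)
    (hgenT : ∀ (Δ : Type v) [Group Δ] [Finite Δ] (σ : Δ →* G), Cfsg.IsStemExtension σ →
      ∃ π : Multiplicative (ZMod S.p) →* σ.ker, Function.Surjective π) :
    Cfsg.HasCyclicSchurMultiplier T S.p := by
  have := h.finite (G := G)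
  have : Fact S.p.Prime := ⟨h.prime⟩
  obtain ⟨hst, hcard⟩ := h.stem hA hC hn hgen hsh hcomm
  refine ⟨?_, fun Δ _ _ σ hσ => ?_⟩
  · let U := ULift.{v} (S.cov g π)
    let up : U ≃* S.cov g π := MulEquiv.ulift
    let q : U →* T := e.toMonoidHom.comp ((S.proj g π).comp up.toMonoidHom)
    have hker : q.ker = (S.proj g π).ker.comap up.toMonoidHom := by
      ext x
      simp only [q, Subgroup.mem_comap, MonoidHom.mem_ker, MonoidHom.comp_apply, MulEquiv.coe_toMonoidHom,
        map_eq_one_iff e e.injective]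
    refine ⟨U, inferInstance, inferInstance, q, ⟨?_, ?_, ?_⟩, ?_⟩
    · exact e.surjective.comp (hst.1.comp up.surjective)
    · intro x hx
      rw [hker, Subgroup.mem_comap] at hx
      refine Subgroup.mem_center_iff.2 fun y => up.injective ?_
      rw [map_mul, map_mul]
      exact Subgroup.mem_center_iff.1 (hst.2.1 hx) _
    · intro x hx
      rw [hker, Subgroup.mem_comap] at hx
      have hx' := Subgroup.mem_map_of_mem up.symm.toMonoidHom (hst.2.2 hx)
      rw [commutator_def, Subgroup.map_commutator] at hx'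
      exact Subgroup.commutator_mono le_top le_top (by simpa using hx')
    · rw [hker]
      let eq : (S.proj g π).ker.comap up.toMonoidHom ≃ (S.proj g π).ker :=
        { toFun := fun x => ⟨up x.1, x.2⟩
          invFun := fun y => ⟨up.symm y.1, by
            rw [Subgroup.mem_comap]; show up (up.symm y.1) ∈ (S.proj g π).ker; rw [up.apply_symm_apply]; exact y.2⟩
          left_inv := fun x => Subtype.ext (up.symm_apply_apply _)
          right_inv := fun y => Subtype.ext (up.apply_symm_apply _) }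
      have hc := (Nat.card_congr eq).trans hcard
      have := isCyclic_of_prime_card hc
      exact ⟨mulEquivOfCyclicCardEq (by rw [hc, Nat.card_eq_fintype_card, Fintype.card_multiplicative, ZMod.card])⟩
  · let r : T ≃* G := e.symm
    have hker : (r.toMonoidHom.comp σ).ker = σ.ker := MonoidHom.ker_mulEquiv_comp σ r
    obtain ⟨f, hf⟩ := hgenT Δ (r.toMonoidHom.comp σ)
      ⟨r.surjective.comp hσ.1, hker.le.trans hσ.2.1, hker.le.trans hσ.2.2⟩
    exact ⟨(MulEquiv.subgroupCongr hker).toMonoidHom.comp f, (MulEquiv.subgroupCongr hker).surjective.comp hf⟩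

end SignTab

end Cfsg.Agent.Grp.SchurM
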