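import Cfsg.Agent.Lib.Grp.SchurM.SignCover

/-!
Cyclic central extensions of any order from tables of shifts and marks.
-/

set_option autoImplicit false
set_option maxRecDepth 100000
set_option linter.style.haveILetI false

open Cfsg.Agent.Spor.Cos
open scoped commutatorElement

namespace Cfsg.Agent.Grp.SchurM

universe u

namespace SignTab

variable (S : SignTab)

/-- The tables are correct. -/
structure OkCyc : Prop where
  one_lt : 1 < S.p
  root_lt : S.root < S.B.N
  step : ∀ x < S.B.N, S.chkStep x = true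
  apart : ∀ x < S.B.N, S.chkApart x = true
  pred : ∀ x < S.B.N, S.chkPred x = true

/-- Two words whose lifts differ at the root by a unit, as values. -/
noncomputable def chkUnit (u w : List ℕ) : Bool :=
  u.all (fun s => Nat.blt s S.B.n) && w.all (fun s => Nat.blt s S.B.n) &&
    Nat.beq (Nat.gcd ((S.trk S.root (u ++ w)).2 + (S.p - (S.trk S.root (w ++ u)).2)) S.p) 1

variable {S} {G : Type u} [Group G] {g : ℕ → G} {π : G →* Equiv.Perm (Fin S.B.N)}
  {θ : G →* Equiv.Perm (Fin S.C.N)}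

theorem OkCyc.good_xs (h : S.OkCyc) (hA : S.B.Hom g π) (hC : S.C.Hom g θ) (hn : S.C.n = S.B.n) {s : ℕ} (hs : s < S.B.n) :
    Good π θ (S.xs g π s) := by
  have hp : 0 < S.p := (Nat.zero_lt_of_lt h.one_lt)
  refine ⟨fun x => (S.sg s x.1 : ZMod S.p), by simp only [xs, if_pos hs], ?_⟩
  rintro x y z c ⟨hc, hl⟩
  have hk := List.all_eq_true.1 (h.step x.1 x.2) y.1 (List.mem_range.2 y.2)
  simp only [force_eq, Bool.or_eq_true, List.all_eq_true, List.mem_range, Bool.and_eq_true] at hk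
  rcases hk with hk | hk
  · rw [lab_mod_eq_zero (Nat.eq_of_beq_eq_true hk)] at hl; omega
  rcases hk c hc with hk | ⟨-, hk⟩
  · rw [Nat.eq_of_beq_eq_true hk] at hl; omega
  have he := Nat.eq_of_beq_eq_true (hk s hs)
  rw [hl, Nat.add_sub_cancel] at he
  rw [show (S.xs g π s).2 = g s by simp only [xs, if_pos hs]]
  refine ⟨(c + S.sg s y.1 + (S.p - S.sg s x.1 % S.p)) % S.p, ⟨Nat.mod_lt _ hp, ?_⟩, ?_⟩
  · rw [hom_im hA hs, hom_im hA hs, he, hC.2 s, S.C.perm_apply hC.1 (hn.symm ▸ hs)]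
  · rw [ZMod.natCast_mod, Nat.cast_add, Nat.cast_add, Nat.cast_sub (Nat.mod_lt _ hp).le, ZMod.natCast_self,
      ZMod.natCast_mod]
    ring

theorem OkCyc.edge_unique (h : S.OkCyc) {x y : S.Pt} {z : Fin S.C.N} {c d : ℕ} (hc : Edge x y z c) (hd : Edge x y z d) :
    c = d := by
  obtain ⟨hc, hlc⟩ := hc
  obtain ⟨hd, hld⟩ := hd
  have ha := List.all_eq_true.1 (h.apart x.1 x.2) y.1 (List.mem_range.2 y.2)
  simp only [force_eq, Bool.or_eq_true, List.all_eq_true, List.mem_range, Bool.not_eq_true'] at ha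
  rcases ha with ha | ha
  · rw [lab_mod_eq_zero (Nat.eq_of_beq_eq_true ha)] at hlc; omega
  rcases lt_trichotomy c d with l | l | l
  · rcases ha d hd c l with e | e
    · rw [Nat.eq_of_beq_eq_true e] at hld; omega
    · rw [hlc, hld, ← Bool.not_eq_true] at e; exact absurd (Nat.beq_refl _) e
  · exact l
  · rcases ha c hc d l with e | e
    · rw [Nat.eq_of_beq_eq_true e] at hlc; omega
    · rw [hlc, hld, ← Bool.not_eq_true] at e; exact absurd (Nat.beq_refl _) e

variable [Finite G]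

theorem OkCyc.finite (h : S.OkCyc) : Finite (Equiv.Perm S.Sheet × G) := by
  have : NeZero S.p := ⟨(Nat.zero_lt_of_lt h.one_lt).ne'⟩
  infer_instance

theorem OkCyc.good_of_mem (h : S.OkCyc) (hA : S.B.Hom g π) (hC : S.C.Hom g θ) (hn : S.C.n = S.B.n) {a : Equiv.Perm S.Sheet × G} (ha : a ∈ S.cov g π) :
    Good π θ a := by
  have := h.finite (G := G)
  have hm : a ∈ Submonoid.closure {x | ∃ s < S.B.n, S.xs g π s = x} := by
    rw [← Subgroup.closure_toSubmonoid_of_finite]; exact ha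
  clear ha
  induction hm using Submonoid.closure_induction with
  | mem a ha => obtain ⟨s, hs, rfl⟩ := ha; exact h.good_xs hA hC hn hs
  | one =>
    refine ⟨fun _ => 0, lift_one.symm, fun x y z c hc => ⟨c, ?_, by simp⟩⟩
    simpa using hc
  | mul a b _ _ iha ihb =>
    obtain ⟨σ, h1, h2⟩ := iha
    obtain ⟨τ, k1, k2⟩ := ihb
    refine ⟨fun x => τ x + σ (π b.2 x), ?_, fun x y z c hc => ?_⟩
    · rw [Prod.fst_mul, h1, k1, lift_mul, Prod.snd_mul]
    · obtain ⟨c1, e1, f1⟩ := k2 x y z c hc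
      obtain ⟨c2, e2, f2⟩ := h2 _ _ _ _ e1
      rw [Prod.snd_mul]
      simp only [map_mul, Equiv.Perm.mul_apply]
      refine ⟨c2, e2, ?_⟩
      rw [f2, f1]
      ring

/-- A lift of the identity is constant. -/
theorem OkCyc.const_of_mem (h : S.OkCyc) (hA : S.B.Hom g π) (hC : S.C.Hom g θ) (hn : S.C.n = S.B.n)
    {a : Equiv.Perm S.Sheet × G} (ha : a ∈ S.cov g π) (h2 : a.2 = 1) : ∃ d : ZMod S.p, a.1 = lift π 1 fun _ => d := by
  obtain ⟨σ, h1, he⟩ := h.good_of_mem hA hC hn ha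
  rw [h2] at h1
  let r : S.Pt := ⟨S.root, h.root_lt⟩
  refine ⟨σ r, h1.trans (congrArg (lift π 1) (funext ?_))⟩
  have key : ∀ (n : ℕ) (y : S.Pt), S.paT.at y.1 / S.B.N < n → σ y = σ r := by
    intro n
    induction n with
    | zero => intro y hy; exact absurd hy (Nat.not_lt_zero _)
    | succ n ih =>
      intro y hy
      have hp := h.pred y.1 y.2
      simp only [chkPred, force_eq, Bool.or_eq_true, Bool.and_eq_true, List.any_eq_true, List.mem_range] at hp
      rcases hp with hp | ⟨hrk, c, hc, hl0, hl1⟩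
      · rw [show y = r from Fin.ext (Nat.eq_of_beq_eq_true hp)]
      · let x : S.Pt := ⟨S.paT.at y.1 % S.B.N, Nat.mod_lt _ (Nat.zero_lt_of_lt h.root_lt)⟩
        have l0 : 1 ≤ S.lab x.1 y.1 c := Nat.le_of_ble_eq_true hl0
        let z : Fin S.C.N := ⟨S.lab x.1 y.1 c - 1, lt_of_lt_of_le (Nat.sub_lt l0 Nat.one_pos) (Nat.le_of_ble_eq_true hl1)⟩
        have E : Edge x y z c := ⟨hc, (Nat.sub_add_cancel l0).symm⟩
        obtain ⟨c', E', f⟩ := he x y z c E
        rw [h2, map_one, map_one] at E'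
        simp only [Equiv.Perm.one_apply] at E'
        rw [← h.edge_unique E E', add_sub_assoc, left_eq_add, sub_eq_zero] at f
        rw [f]
        exact ih x (lt_of_lt_of_le (Nat.le_of_ble_eq_true hrk) (Nat.lt_succ_iff.1 hy))
  exact fun y => key _ y (Nat.lt_succ_self _)

/-- The extension is a stem extension with cyclic kernel. -/
theorem OkCyc.stem (h : S.OkCyc) (hA : S.B.Hom g π) (hC : S.C.Hom g θ) (hn : S.C.n = S.B.n) (hgen : Subgroup.closure {x | ∃ s < S.B.n, g s = x} = ⊤)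
    {u w : List ℕ} (hsh : S.chkUnit u w = true) (hcomm : ev g (u ++ w) = ev g (w ++ u)) :
    Cfsg.IsStemExtension (S.proj g π) ∧ Nat.card (S.proj g π).ker = S.p ∧ IsCyclic (S.proj g π).ker := by
  have := h.finite (G := G)
  have : NeZero S.p := ⟨(Nat.zero_lt_of_lt h.one_lt).ne'⟩
  simp only [chkUnit, Bool.and_eq_true, List.all_eq_true] at hsh
  obtain ⟨⟨hu, hw⟩, hne⟩ := hsh
  have hu' : ∀ s ∈ u, s < S.B.n := fun s hs => Nat.le_of_ble_eq_true (hu s hs)
  have hw' : ∀ s ∈ w, s < S.B.n := fun s hs => Nat.le_of_ble_eq_true (hw s hs)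
  have hmem : ∀ {v : List ℕ}, (∀ s ∈ v, s < S.B.n) → ev (S.xs g π) v ∈ S.cov g π := fun hv =>
    ev_mem _ fun s hs => Subgroup.subset_closure ⟨s, hv s hs, rfl⟩
  let r : S.Pt := ⟨S.root, h.root_lt⟩
  let φ : (S.proj g π).ker →* Multiplicative (ZMod S.p) :=
    { toFun := fun z => Multiplicative.ofAdd (z.1.1.1 (r, 0)).2
      map_one' := rfl
      map_mul' := fun a b => by
        obtain ⟨d, hd⟩ := h.const_of_mem hA hC hn a.1.2 a.2
        obtain ⟨e, he⟩ := h.const_of_mem hA hC hn b.1.2 b.2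
        rw [← ofAdd_add]
        refine congrArg Multiplicative.ofAdd ?_
        show ((a.1.1.1 * b.1.1.1) (r, 0)).2 = _
        rw [hd, he, lift_mul]
        simp only [lift_apply, map_one, Equiv.Perm.one_apply]
        ring }
  have hφ : Function.Injective φ := by
    rw [← MonoidHom.ker_eq_bot_iff, eq_bot_iff]
    intro z hz
    obtain ⟨d, hd⟩ := h.const_of_mem hA hC hn z.1.2 z.2
    have h0 : (z.1.1.1 (r, 0)).2 = 0 := congrArg Multiplicative.toAdd (MonoidHom.mem_ker.1 hz)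
    rw [hd, lift_apply, zero_add] at h0
    subst h0
    refine Subgroup.mem_bot.2 (Subtype.ext (Subtype.ext (Prod.ext ?_ z.2)))
    rw [hd, lift_one]
    rfl
  let U : S.cov g π := ⟨_, hmem hu'⟩
  let W : S.cov g π := ⟨_, hmem hw'⟩
  have hz : ⁅U, W⁆ ∈ (S.proj g π).ker := by
    rw [MonoidHom.mem_ker, map_commutatorElement, commutatorElement_eq_one_iff_mul_comm]
    show (ev (S.xs g π) u).2 * (ev (S.xs g π) w).2 = (ev (S.xs g π) w).2 * (ev (S.xs g π) u).2
    rw [ev_snd u hu', ev_snd w hw', ← ev_append, ← ev_append, hcomm]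
  have huw : ∀ s ∈ u ++ w, s < S.B.n := fun s hs => (List.mem_append.1 hs).elim (hu' s) (hw' s)
  have hwu : ∀ s ∈ w ++ u, s < S.B.n := fun s hs => (List.mem_append.1 hs).elim (hw' s) (hu' s)
  set tA := (S.trk S.root (u ++ w)).2 with htA
  set tB := (S.trk S.root (w ++ u)).2 with htB
  have hlt : tB < S.p := by
    rw [htB]
    cases w ++ u with
    | nil => exact Nat.zero_lt_of_lt h.one_lt
    | cons => exact Nat.mod_lt _ (Nat.zero_lt_of_lt h.one_lt)
  have hval : φ ⟨_, hz⟩ = Multiplicative.ofAdd ((tA : ZMod S.p) - (tB : ZMod S.p)) := by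
    obtain ⟨d, hd⟩ := h.const_of_mem hA hC hn (⁅U, W⁆).2 hz
    have heq : ev (S.xs g π) (u ++ w) = (⁅U, W⁆).1 * ev (S.xs g π) (w ++ u) := by
      rw [ev_append, ev_append]
      show (U : Equiv.Perm S.Sheet × G) * W = ((⁅U, W⁆ * (W * U) : S.cov g π) : Equiv.Perm S.Sheet × G)
      rw [show ⁅U, W⁆ * (W * U) = U * W by rw [commutatorElement_def]; group]
      rfl
    have e1 := (trk_spec (π := π) hA _ huw r).2
    rw [heq, Prod.fst_mul, Equiv.Perm.mul_apply, hd, lift_apply, (trk_spec (π := π) hA _ hwu r).2] at e1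
    show Multiplicative.ofAdd ((⁅U, W⁆ : S.cov g π).1.1 (r, 0)).2 = _
    rw [hd, lift_apply, zero_add]
    refine congrArg Multiplicative.ofAdd ?_
    rw [eq_sub_iff_add_eq, add_comm]
    exact e1
  have hunit : IsUnit ((tA : ZMod S.p) - (tB : ZMod S.p)) := by
    have hco : Nat.Coprime (tA + (S.p - tB)) S.p := Nat.eq_of_beq_eq_true hne
    have := (ZMod.unitOfCoprime _ hco).isUnit
    rwa [ZMod.coe_unitOfCoprime, Nat.cast_add, Nat.cast_sub hlt.le, ZMod.natCast_self, zero_sub, ← sub_eq_add_neg] at this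
  have hpow : ∀ y : (S.proj g π).ker, y ∈ Subgroup.zpowers (⟨_, hz⟩ : (S.proj g π).ker) := fun y => by
    obtain ⟨v, hv⟩ := hunit
    refine ⟨((Multiplicative.toAdd (φ y) * (↑v⁻¹ : ZMod S.p)).val : ℕ), hφ ?_⟩
    rw [map_zpow, hval, ← hv, zpow_natCast, ← ofAdd_nsmul, nsmul_eq_mul, ZMod.natCast_zmod_val, mul_assoc,
      Units.inv_mul, mul_one, ofAdd_toAdd]
  have hsurjφ : Function.Surjective φ := fun a => by
    obtain ⟨v, hv⟩ := hunit
    refine ⟨(⟨_, hz⟩ : (S.proj g π).ker) ^ ((Multiplicative.toAdd a * (↑v⁻¹ : ZMod S.p)).val : ℕ), ?_⟩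
    rw [map_pow, hval, ← hv, ← ofAdd_nsmul, nsmul_eq_mul, ZMod.natCast_zmod_val, mul_assoc, Units.inv_mul, mul_one,
      ofAdd_toAdd]
  have hker : Nat.card (S.proj g π).ker = S.p := by
    rw [Nat.card_congr (Equiv.ofBijective φ ⟨hφ, hsurjφ⟩), Nat.card_eq_fintype_card, Fintype.card_multiplicative,
      ZMod.card]
  refine ⟨⟨?_, fun z hz' => ?_, fun z hz' => ?_⟩, hker, ⟨⟨_, hpow⟩⟩⟩
  · rw [← MonoidHom.range_eq_top, eq_top_iff, ← hgen, Subgroup.closure_le]
    rintro x ⟨s, hs, rfl⟩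
    exact ⟨⟨S.xs g π s, Subgroup.subset_closure ⟨s, hs, rfl⟩⟩, by
      show (S.xs g π s).2 = g s
      simp only [xs, if_pos hs]⟩
  · refine Subgroup.mem_center_iff.2 fun v => Subtype.ext (Prod.ext ?_ ?_)
    · show v.1.1 * z.1.1 = z.1.1 * v.1.1
      obtain ⟨d, hd⟩ := h.const_of_mem hA hC hn z.2 hz'
      obtain ⟨τ, k1, -⟩ := h.good_of_mem hA hC hn v.2
      rw [hd, k1, lift_mul, lift_mul, mul_one, one_mul]
      congr 1
      funext x
      simp only [map_one, Equiv.Perm.one_apply, add_comm]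
    · show v.1.2 * z.1.2 = z.1.2 * v.1.2
      rw [show z.1.2 = 1 from hz', mul_one, one_mul]
  · obtain ⟨k, hk⟩ := hpow ⟨z, hz'⟩
    rw [show z = ⁅U, W⁆ ^ k from (congrArg Subtype.val hk).symm]
    exact zpow_mem (Subgroup.commutator_mem_commutator (Subgroup.mem_top _) (Subgroup.mem_top _)) k

end SignTab

end Cfsg.Agent.Grp.SchurM
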