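import Cfsg.Agent.Lib.Grp.SchurM.SignCyclic

/-! The value of a kernel element of a tabulated cyclic extension. -/

set_option autoImplicit false

open Cfsg.Agent.Spor.Cos
open scoped commutatorElement

namespace Cfsg.Agent.Grp.SchurM.SignTab

universe u

variable {S : SignTab} {G : Type u} [Group G] {g : ℕ → G} {π : G →* Equiv.Perm (Fin S.B.N)}
  {θ : G →* Equiv.Perm (Fin S.C.N)}

/-- The shift of an element at a point. -/
def kval (r : S.Pt) (z : S.cov g π) : ZMod S.p := (z.1.1 (r, 0)).2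

theorem OkCyc.kval_mul [Finite G] (h : S.OkCyc) (hA : S.B.Hom g π) (hC : S.C.Hom g θ) (hn : S.C.n = S.B.n)
    (r : S.Pt) {a b : S.cov g π} (ha : S.proj g π a = 1) (hb : S.proj g π b = 1) :
    kval r (a * b) = kval r a + kval r b := by
  obtain ⟨d, hd⟩ := h.const_of_mem hA hC hn a.2 ha
  obtain ⟨e, he⟩ := h.const_of_mem hA hC hn b.2 hb
  show ((a.1.1 * b.1.1) (r, 0)).2 = _
  simp only [kval, hd, he, lift_mul, lift_apply, map_one, Equiv.Perm.one_apply]
  ring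

theorem OkCyc.eq_one_of_kval [Finite G] (h : S.OkCyc) (hA : S.B.Hom g π) (hC : S.C.Hom g θ) (hn : S.C.n = S.B.n)
    (r : S.Pt) {z : S.cov g π} (hz : S.proj g π z = 1) (h0 : kval r z = 0) : z = 1 := by
  obtain ⟨d, hd⟩ := h.const_of_mem hA hC hn z.2 hz
  rw [kval, hd, lift_apply, zero_add] at h0
  subst h0
  refine Subtype.ext (Prod.ext ?_ hz)
  rw [hd, lift_one]
  rfl

/-- The lift of a word. -/
noncomputable def wordLift (S : SignTab) (g : ℕ → G) (π : G →* Equiv.Perm (Fin S.B.N)) (u : List ℕ)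
    (hu : ∀ s ∈ u, s < S.B.n) : S.cov g π :=
  ⟨ev (S.xs g π) u, ev_mem _ fun s hs => Subgroup.subset_closure ⟨s, hu s hs, rfl⟩⟩

theorem proj_wordLift {u : List ℕ} (hu : ∀ s ∈ u, s < S.B.n) : S.proj g π (wordLift S g π u hu) = ev g u :=
  ev_snd u hu

theorem OkCyc.kval_comm [Finite G] (h : S.OkCyc) (hA : S.B.Hom g π) (hC : S.C.Hom g θ) (hn : S.C.n = S.B.n)
    (r : S.Pt) {u w : List ℕ} (hu : ∀ s ∈ u, s < S.B.n) (hw : ∀ s ∈ w, s < S.B.n)
    (hz : S.proj g π ⁅wordLift S g π u hu, wordLift S g π w hw⁆ = 1) :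
    kval r ⁅wordLift S g π u hu, wordLift S g π w hw⁆ =
      ((S.trk r.1 (u ++ w)).2 : ZMod S.p) - ((S.trk r.1 (w ++ u)).2 : ZMod S.p) := by
  set U := wordLift S g π u hu
  set W := wordLift S g π w hw
  have huw : ∀ s ∈ u ++ w, s < S.B.n := fun s hs => (List.mem_append.1 hs).elim (hu s) (hw s)
  have hwu : ∀ s ∈ w ++ u, s < S.B.n := fun s hs => (List.mem_append.1 hs).elim (hw s) (hu s)
  obtain ⟨d, hd⟩ := h.const_of_mem hA hC hn (⁅U, W⁆).2 hz
  have heq : ev (S.xs g π) (u ++ w) = (⁅U, W⁆).1 * ev (S.xs g π) (w ++ u) := by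
    rw [ev_append, ev_append]
    show (U : Equiv.Perm S.Sheet × G) * W = ((⁅U, W⁆ * (W * U) : S.cov g π) : Equiv.Perm S.Sheet × G)
    rw [show ⁅U, W⁆ * (W * U) = U * W by rw [commutatorElement_def]; group]
    rfl
  have e1 := (trk_spec (π := π) hA _ huw r).2
  rw [heq, Prod.fst_mul, Equiv.Perm.mul_apply, hd, lift_apply, (trk_spec (π := π) hA _ hwu r).2] at e1
  rw [kval, hd, lift_apply, zero_add, eq_sub_iff_add_eq, add_comm]
  exact e1

end Cfsg.Agent.Grp.SchurM.SignTab
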