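import Mathlib
import Cfsg.Prelude.Def_KGroupFacts
import Cfsg.Agent.Lib.Grp.SpinCoverAlt
import Cfsg.Agent.Lib.Spor.Cos.Act

/-!
Double covers pulled back from the double cover of an alternating group, seen on one involution moving twice
an odd number of pairs.
-/

set_option autoImplicit false
set_option linter.style.haveILetI false

open Cfsg.Agent.Grp Cfsg.Agent.Spor.Cos

namespace Cfsg.Agent.Grp.SchurM.SpinPull

universe v

variable {N : ℕ}

/-- Two disjoint pairs give anticommuting roots. -/
theorem d_anti {a b c e : Fin N} (hac : a ≠ c) (hae : a ≠ e) (hbc : b ≠ c) (hbe : b ≠ e) :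
    SpinCover.d c e * SpinCover.d a b = -(SpinCover.d a b * SpinCover.d c e) := by
  rw [SpinCover.d, SpinCover.d, sub_mul, mul_sub, mul_sub, sub_mul, mul_sub, mul_sub,
    SpinCover.L_anti hac.symm, SpinCover.L_anti hbc.symm, SpinCover.L_anti hae.symm, SpinCover.L_anti hbe.symm]
  abel

theorem d_w {a b c e i j : Fin N} (hia : i ≠ a) (hib : i ≠ b) (hic : i ≠ c) (hie : i ≠ e) (hja : j ≠ a)
    (hjb : j ≠ b) (hjc : j ≠ c) (hje : j ≠ e) :
    SpinCover.d i j * SpinCover.w a b c e = SpinCover.w a b c e * SpinCover.d i j := by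
  rw [SpinCover.w, mul_smul_comm, smul_mul_assoc, ← mul_assoc, d_anti hia.symm hja.symm hib.symm hjb.symm,
    neg_mul, mul_assoc (SpinCover.d a b), d_anti hic.symm hjc.symm hie.symm hje.symm, mul_neg, neg_neg, mul_assoc]

theorem w_sq {a b c e : Fin N} (hab : a ≠ b) (hce : c ≠ e) (hac : a ≠ c) (hae : a ≠ e) (hbc : b ≠ c) (hbe : b ≠ e) :
    SpinCover.w a b c e * SpinCover.w a b c e = -1 := by
  rw [SpinCover.w, smul_mul_assoc, mul_smul_comm, smul_smul, mul_assoc, ← mul_assoc (SpinCover.d c e),
    d_anti hac hae hbc hbe, neg_mul, mul_neg, mul_assoc (SpinCover.d a b), SpinCover.d_sq hce, mul_smul_comm,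
    mul_one, mul_smul_comm, SpinCover.d_sq hab, smul_smul, smul_neg, smul_smul]
  norm_num

/-- The points of a quadruple. -/
def flat : List (Fin N × Fin N × Fin N × Fin N) → List (Fin N)
  | [] => []
  | (a, b, c, e) :: l => a :: b :: c :: e :: flat l

/-- The permutation of a list of quadruples. -/
def qperm : List (Fin N × Fin N × Fin N × Fin N) → Equiv.Perm (Fin N)
  | [] => 1
  | (a, b, c, e) :: l => Equiv.swap a b * Equiv.swap c e * qperm l

/-- A lift of the permutation commuting with the roots outside, with square `±1` by the number of quadruples. -/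
theorem exists_lift : ∀ l : List (Fin N × Fin N × Fin N × Fin N), (flat l).Nodup →
    ∃ x : SpinCover.G N, (SpinCover.proj N x : Equiv.Perm (Fin N)) = qperm l ∧
      x * x = SpinCover.z N ^ l.length ∧
      ∀ i j : Fin N, i ∉ flat l → j ∉ flat l →
        SpinCover.d i j * ((x : (SpinCover.Op N)ˣ) : SpinCover.Op N) =
          ((x : (SpinCover.Op N)ˣ) : SpinCover.Op N) * SpinCover.d i j
  | [], _ => ⟨1, by rw [map_one]; rfl, by rw [one_mul, List.length_nil, pow_zero], fun i j _ _ => by simp⟩
  | (a, b, c, e) :: l, h => by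
    simp only [flat, List.nodup_cons, List.mem_cons, not_or] at h
    obtain ⟨⟨hab, hac, hae, ha⟩, ⟨hbc, hbe, hb⟩, ⟨hce, hc⟩, he, hl⟩ := h
    obtain ⟨y, hy, hyy, hyd⟩ := exists_lift l hl
    set W := SpinCover.W hab hce with hWdef
    have hW : (SpinCover.proj N W : Equiv.Perm (Fin N)) = Equiv.swap a b * Equiv.swap c e :=
      SpinCover.proj_eq _ fun k => SpinCover.w_L hab hce k
    have hWW : W * W = SpinCover.z N := Subtype.ext (Units.ext (by
      show SpinCover.w a b c e * SpinCover.w a b c e = -1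
      exact w_sq hab hce hac hae hbc hbe))
    have hWy : Commute W y := Subtype.ext (Units.ext (by
      show SpinCover.w a b c e * ((y : (SpinCover.Op N)ˣ) : SpinCover.Op N) =
        ((y : (SpinCover.Op N)ˣ) : SpinCover.Op N) * SpinCover.w a b c e
      rw [SpinCover.w, smul_mul_assoc, mul_smul_comm, mul_assoc, hyd c e hc he, ← mul_assoc, hyd a b ha hb,
        mul_assoc]))
    refine ⟨W * y, ?_, ?_, fun i j hi hj => ?_⟩
    · rw [map_mul, Subgroup.coe_mul, hW, hy]
      rfl
    · rw [hWy.symm.mul_mul_mul_comm, hWW, hyy, List.length_cons, pow_succ']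
    · simp only [flat, List.mem_cons, not_or] at hi hj
      obtain ⟨i1, i2, i3, i4, i5⟩ := hi
      obtain ⟨j1, j2, j3, j4, j5⟩ := hj
      show SpinCover.d i j * (SpinCover.w a b c e * ((y : (SpinCover.Op N)ˣ) : SpinCover.Op N)) =
        (SpinCover.w a b c e * ((y : (SpinCover.Op N)ˣ) : SpinCover.Op N)) * SpinCover.d i j
      rw [← mul_assoc, d_w i1 i2 i3 i4 j1 j2 j3 j4, mul_assoc, hyd i j i5 j5, mul_assoc]

variable {G : Type} [Group G] [Finite G]

/-- A double cover of a perfect group. -/
theorem exists_stem (hN : 3 ≤ N) (hperf : commutator G = ⊤) (π : G →* Equiv.Perm (Fin N)) {t : G} (ht : t * t = 1)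
    (l : List (Fin N × Fin N × Fin N × Fin N)) (hl : (flat l).Nodup) (hodd : l.length % 2 = 1)
    (hπ : π t = qperm l) :
    ∃ (U : Type) (_ : Group U) (_ : Finite U) (q : U →* G), Cfsg.IsStemExtension q ∧ Nat.card q.ker = 2 := by
  have hev : ∀ g : G, π g ∈ alternatingGroup (Fin N) := fun g => by
    have hg : g ∈ (Equiv.Perm.sign.comp π).ker :=
      (Abelianization.commutator_subset_ker (Equiv.Perm.sign.comp π)) (hperf ▸ Subgroup.mem_top g)
    exact hg
  let ρ : G →* alternatingGroup (Fin N) := π.codRestrict _ hev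
  let U : Subgroup (SpinCover.G N × G) :=
    ((SpinCover.proj N).comp (MonoidHom.fst _ _)).eqLocus (ρ.comp (MonoidHom.snd _ _))
  let q : U →* G := (MonoidHom.snd _ _).comp U.subtype
  have hsurj : Function.Surjective q := fun g => by
    obtain ⟨x, hx⟩ := SpinCover.proj_surjective hN (ρ g)
    exact ⟨⟨(x, g), hx⟩, rfl⟩
  have hker : ∀ u : U, u ∈ q.ker → u.1.1 ∈ (SpinCover.proj N).ker := fun u hu => by
    have e : SpinCover.proj N u.1.1 = ρ u.1.2 := u.2
    rw [MonoidHom.mem_ker, e, show u.1.2 = 1 from hu, map_one]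
  have hzmem : ∀ {x : SpinCover.G N}, x ∈ Subgroup.zpowers (SpinCover.z N) → x = 1 ∨ x = SpinCover.z N := fun hx => by
    obtain ⟨k, rfl⟩ := hx
    show SpinCover.z N ^ k = 1 ∨ SpinCover.z N ^ k = SpinCover.z N
    rw [← zpow_mod_orderOf, SpinCover.orderOf_z]
    rcases Int.emod_two_eq k with h | h <;> simp [h]
  have hcen : q.ker ≤ Subgroup.center U := fun u hu => by
    refine Subgroup.mem_center_iff.2 fun w => Subtype.ext (Prod.ext ?_ ?_)
    · show w.1.1 * u.1.1 = u.1.1 * w.1.1
      have h := hker u hu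
      rw [SpinCover.ker_proj] at h
      rcases hzmem h with e | e <;> rw [e]
      · rw [mul_one, one_mul]
      · exact Subgroup.mem_center_iff.1 SpinCover.z_central _
    · show w.1.2 * u.1.2 = u.1.2 * w.1.2
      rw [show u.1.2 = 1 from hu, mul_one, one_mul]
  -- the square of a lift of the involution
  obtain ⟨x, hx, hxx, -⟩ := exists_lift l hl
  have hxz : x * x = SpinCover.z N := by
    rw [hxx, ← pow_mod_orderOf, SpinCover.orderOf_z, hodd, pow_one]
  let a : U := ⟨(x, t), Subtype.ext (hx.trans hπ.symm)⟩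
  have hmap : (commutator U).map q = ⊤ := by
    rw [commutator_def, Subgroup.map_commutator, Subgroup.map_top_of_surjective _ hsurj, ← commutator_def, hperf]
  obtain ⟨u, hu, hut⟩ : t ∈ (commutator U).map q := hmap ▸ Subgroup.mem_top t
  let zU : U := a * a
  have hzU : zU.1 = (SpinCover.z N, 1) := Prod.ext hxz ht
  have hzc : zU ∈ commutator U := by
    have hk : a⁻¹ * u ∈ q.ker := by
      rw [MonoidHom.mem_ker, map_mul, map_inv, hut]
      exact inv_mul_cancel t
    have hkk : (a⁻¹ * u) * (a⁻¹ * u) = 1 := by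
      refine Subtype.ext (Prod.ext ?_ ?_)
      · have h := hker _ hk
        rw [SpinCover.ker_proj] at h
        show (a⁻¹ * u).1.1 * (a⁻¹ * u).1.1 = 1
        rcases hzmem h with e | e <;> rw [e]
        · rw [one_mul]
        · rw [← pow_two]
          exact orderOf_dvd_iff_pow_eq_one.1 (by rw [SpinCover.orderOf_z])
      · show (a⁻¹ * u).1.2 * (a⁻¹ * u).1.2 = 1
        rw [show (a⁻¹ * u).1.2 = 1 from hk, one_mul]
    have hc := Subgroup.mem_center_iff.1 (hcen hk)
    have : u * u = zU := by
      calc u * u = a * (a⁻¹ * u) * (a * (a⁻¹ * u)) := by group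
        _ = a * a * ((a⁻¹ * u) * (a⁻¹ * u)) := by rw [mul_assoc a, ← mul_assoc (a⁻¹ * u), ← hc a]; group
        _ = zU := by rw [hkk, mul_one]
    exact this ▸ mul_mem hu hu
  refine ⟨U, inferInstance, inferInstance, q, ⟨hsurj, hcen, fun y hy => ?_⟩, ?_⟩
  · have h := hker y hy
    rw [SpinCover.ker_proj] at h
    rcases hzmem h with e | e
    · rw [show y = 1 from Subtype.ext (Prod.ext e hy)]
      exact one_mem _
    · rw [show y = zU from Subtype.ext (by rw [hzU]; exact Prod.ext e hy)]
      exact hzc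
  · let f : q.ker ≃ (SpinCover.proj N).ker :=
      { toFun := fun y => ⟨y.1.1.1, hker y.1 y.2⟩
        invFun := fun y => ⟨⟨(y.1, 1), show SpinCover.proj N y.1 = ρ 1 by
          rw [map_one]; exact y.2⟩, rfl⟩
        left_inv := fun y => Subtype.ext (Subtype.ext (Prod.ext rfl (show (1 : G) = y.1.1.2 from y.2.symm)))
        right_inv := fun _ => rfl }
    rw [Nat.card_congr f, SpinCover.ker_proj, Nat.card_zpowers, SpinCover.orderOf_z]

/-- The multiplier is of order two, given the bound. -/
theorem multiplier {T : Type v} [Group T] (e : G ≃* T)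
    (hex : ∃ (U : Type) (_ : Group U) (_ : Finite U) (q : U →* G), Cfsg.IsStemExtension q ∧ Nat.card q.ker = 2)
    (hgenT : ∀ (Δ : Type v) [Group Δ] [Finite Δ] (σ : Δ →* G), Cfsg.IsStemExtension σ →
      ∃ π : Multiplicative (ZMod 2) →* σ.ker, Function.Surjective π) :
    Cfsg.HasCyclicSchurMultiplier T 2 := by
  obtain ⟨U₀, _, _, q₀, hst, hcard⟩ := hex
  refine ⟨?_, fun Δ _ _ σ hσ => ?_⟩
  · let U := ULift.{v} U₀
    let up : U ≃* U₀ := MulEquiv.ulift
    let q : U →* T := e.toMonoidHom.comp (q₀.comp up.toMonoidHom)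
    have hker : q.ker = q₀.ker.comap up.toMonoidHom := by
      ext x
      simp only [q, Subgroup.mem_comap, MonoidHom.mem_ker, MonoidHom.comp_apply, MulEquiv.coe_toMonoidHom,
        map_eq_one_iff e e.injective]
    refine ⟨U, inferInstance, inferInstance, q, ⟨e.surjective.comp (hst.1.comp up.surjective), fun x hx => ?_,
      fun x hx => ?_⟩, ?_⟩
    · rw [hker, Subgroup.mem_comap] at hx
      refine Subgroup.mem_center_iff.2 fun y => up.injective ?_
      rw [map_mul, map_mul]
      exact Subgroup.mem_center_iff.1 (hst.2.1 hx) _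
    · rw [hker, Subgroup.mem_comap] at hx
      have hx' := Subgroup.mem_map_of_mem up.symm.toMonoidHom (hst.2.2 hx)
      rw [commutator_def, Subgroup.map_commutator] at hx'
      exact Subgroup.commutator_mono le_top le_top (by simpa using hx')
    · rw [hker]
      let eq : q₀.ker.comap up.toMonoidHom ≃ q₀.ker :=
        { toFun := fun x => ⟨up x.1, x.2⟩
          invFun := fun y => ⟨up.symm y.1, by
            rw [Subgroup.mem_comap]; show up (up.symm y.1) ∈ q₀.ker; rw [up.apply_symm_apply]; exact y.2⟩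
          left_inv := fun x => Subtype.ext (up.symm_apply_apply _)
          right_inv := fun y => Subtype.ext (up.apply_symm_apply _) }
      have hc := (Nat.card_congr eq).trans hcard
      have : Fact (Nat.Prime 2) := ⟨Nat.prime_two⟩
      have := isCyclic_of_prime_card hc
      exact ⟨mulEquivOfCyclicCardEq (by rw [hc, Nat.card_eq_fintype_card, Fintype.card_multiplicative, ZMod.card])⟩
  · let r : T ≃* G := e.symm
    have hker : (r.toMonoidHom.comp σ).ker = σ.ker := MonoidHom.ker_mulEquiv_comp σ r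
    obtain ⟨f, hf⟩ := hgenT Δ (r.toMonoidHom.comp σ)
      ⟨r.surjective.comp hσ.1, hker.le.trans hσ.2.1, hker.le.trans hσ.2.2⟩
    exact ⟨(MulEquiv.subgroupCongr hker).toMonoidHom.comp f, (MulEquiv.subgroupCongr hker).surjective.comp hf⟩

/-- The entries of a quadruple are among the points. -/
theorem mem_flat : ∀ (l : List (Fin N × Fin N × Fin N × Fin N)), ∀ r ∈ l,
    r.1 ∈ flat l ∧ r.2.1 ∈ flat l ∧ r.2.2.1 ∈ flat l ∧ r.2.2.2 ∈ flat l
  | [], _, hr => absurd hr List.not_mem_nil
  | (u, v, w, z) :: l, r, hr => by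
    rcases List.mem_cons.1 hr with rfl | hr
    · simp [flat]
    · obtain ⟨i1, i2, i3, i4⟩ := mem_flat l r hr
      simp [flat, i1, i2, i3, i4]

/-- The quadruples determine the permutation. -/
theorem qperm_eq : ∀ (l : List (Fin N × Fin N × Fin N × Fin N)) (f : Equiv.Perm (Fin N)), (flat l).Nodup →
    (∀ r ∈ l, f r.1 = r.2.1 ∧ f r.2.1 = r.1 ∧ f r.2.2.1 = r.2.2.2 ∧ f r.2.2.2 = r.2.2.1) →
    (∀ x, x ∉ flat l → f x = x) → qperm l = f
  | [], f, _, _, h => Equiv.ext fun x => (h x (by simp [flat])).symm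
  | (a, b, c, e) :: l, f, hn, hl, ho => by
    simp only [flat, List.nodup_cons, List.mem_cons, not_or] at hn
    obtain ⟨⟨hab, hac, hae, ha⟩, ⟨hbc, hbe, hb⟩, ⟨hce, hc⟩, he, hn'⟩ := hn
    obtain ⟨fa, fb, fc, fe⟩ := hl _ (List.mem_cons_self ..)
    set S := Equiv.swap a b * Equiv.swap c e with hS
    have hSS : S * S = 1 := by
      rw [hS]
      refine Equiv.ext fun x => ?_
      simp only [Equiv.Perm.mul_apply, Equiv.Perm.one_apply, Equiv.swap_apply_def]
      split_ifs <;> simp_all
    have hmem := mem_flat l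
    have hout : ∀ y, y ∈ flat l → S y = y := fun y hy => by
      have n1 : y ≠ a := fun h => ha (h ▸ hy)
      have n2 : y ≠ b := fun h => hb (h ▸ hy)
      have n3 : y ≠ c := fun h => hc (h ▸ hy)
      have n4 : y ≠ e := fun h => he (h ▸ hy)
      simp [hS, Equiv.swap_apply_of_ne_of_ne, n1, n2, n3, n4]
    have key : qperm l = S * f := by
      refine qperm_eq l _ hn' (fun r hr => ?_) fun x hx => ?_
      · obtain ⟨g1, g2, g3, g4⟩ := hl r (List.mem_cons_of_mem _ hr)
        obtain ⟨m1, m2, m3, m4⟩ := hmem r hr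
        simp only [Equiv.Perm.mul_apply, g1, g2, g3, g4, hout _ m1, hout _ m2, hout _ m3, hout _ m4, and_self]
      · simp only [hS, Equiv.Perm.mul_apply]
        by_cases h1 : x = a
        · subst h1; rw [fa]; simp [Equiv.swap_apply_of_ne_of_ne, hbc, hbe]
        by_cases h2 : x = b
        · subst h2; rw [fb]; simp [Equiv.swap_apply_of_ne_of_ne, hac, hae]
        by_cases h3 : x = c
        · subst h3; rw [fc]; simp [Equiv.swap_apply_of_ne_of_ne, Ne.symm hac, Ne.symm hbc]
        by_cases h4 : x = e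
        · subst h4; rw [fe]; simp [Equiv.swap_apply_of_ne_of_ne, Ne.symm hae, Ne.symm hbe]
        rw [ho x (by simp [flat, h1, h2, h3, h4, hx])]
        simp [Equiv.swap_apply_of_ne_of_ne, h1, h2, h3, h4]
    show S * qperm l = f
    rw [key, ← mul_assoc, hSS, one_mul]

/-- Tables for the pairs moved by a word: the points, and one more than their places. -/
noncomputable def chkMoves (A : Act) (w : List ℕ) (qT iT : Tab) (m : ℕ) : Bool :=
  w.all (fun s => Nat.blt s A.n) &&
    ((List.range (4 * m)).all fun j => force (qT.at j) fun x =>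
      Nat.blt x A.N && Nat.beq (iT.at x) (j + 1) &&
        Nat.beq (A.go w x) (qT.at (if j % 2 = 0 then j + 1 else j - 1))) &&
    (List.range A.N).all fun x => force (iT.at x) fun i =>
      (Nat.beq i 0 && Nat.beq (A.go w x) x) || (Nat.blt 0 i && Nat.ble i (4 * m) && Nat.beq (qT.at (i - 1)) x)

omit [Finite G] in
/-- The quadruples from the tables. -/
theorem exists_quads {A : Act} {g : ℕ → G} {π : G →* Equiv.Perm (Fin A.N)} (hA : A.Hom g π) {w : List ℕ}
    {qT iT : Tab} {m : ℕ} (hN : 0 < A.N) (h : chkMoves A w qT iT m = true) :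
    ∃ l : List (Fin A.N × Fin A.N × Fin A.N × Fin A.N),
      (flat l).Nodup ∧ l.length = m ∧ π (ev g w) = qperm l := by
  simp only [chkMoves, force_eq, Bool.and_eq_true, Bool.or_eq_true, List.all_eq_true, List.mem_range] at h
  obtain ⟨⟨hw, hq⟩, hx⟩ := h
  have hw' : ∀ s ∈ w, s < A.n := fun s hs => Nat.le_of_ble_eq_true (hw s hs)
  let P : ℕ → Fin A.N := fun j => ⟨qT.at j % A.N, Nat.mod_lt _ hN⟩
  have hP : ∀ j < 4 * m, (P j : ℕ) = qT.at j := fun j hj => Nat.mod_eq_of_lt (Nat.le_of_ble_eq_true (hq j hj).1.1)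
  let Q : ℕ → Fin A.N × Fin A.N × Fin A.N × Fin A.N := fun k => (P (4 * k), P (4 * k + 1), P (4 * k + 2), P (4 * k + 3))
  have hflat : ∀ k, flat ((List.range k).map Q) = (List.range (4 * k)).map P := by
    have happ : ∀ (u : List (Fin A.N × Fin A.N × Fin A.N × Fin A.N)) (q : Fin A.N × Fin A.N × Fin A.N × Fin A.N),
        flat (u ++ [q]) = flat u ++ flat [q] := fun u q => by
      induction u with
      | nil => rfl
      | cons r u ih => obtain ⟨a, b, c, e⟩ := r; simp [flat, ih]
    intro k
    induction k with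
    | zero => rfl
    | succ k ih =>
      rw [List.range_succ, List.map_append, List.map_singleton, happ, ih,
        show 4 * (k + 1) = 4 * k + 1 + 1 + 1 + 1 by ring, List.range_succ, List.range_succ, List.range_succ,
        List.range_succ]
      simp only [flat, Q, List.map_append, List.map_cons, List.map_nil, List.append_assoc, List.cons_append,
        List.nil_append]
  have hstep : ∀ j < 4 * m, π (ev g w) (P j) = P (if j % 2 = 0 then j + 1 else j - 1) := fun j hj => Fin.ext (by
    have h' : (if j % 2 = 0 then j + 1 else j - 1) < 4 * m := by split_ifs <;> omega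
    rw [hA.apply_ev _ hw', hP j hj, hP _ h']
    exact Nat.eq_of_beq_eq_true (hq j hj).2)
  have hnd : (flat ((List.range m).map Q)).Nodup := by
    rw [hflat]
    refine List.Nodup.map_on (fun i hi j hj e => ?_) List.nodup_range
    rw [List.mem_range] at hi hj
    have e' : qT.at i = qT.at j := by rw [← hP i hi, ← hP j hj, e]
    have a1 := Nat.eq_of_beq_eq_true (hq i hi).1.2
    have a2 := Nat.eq_of_beq_eq_true (hq j hj).1.2
    rw [e'] at a1
    omega
  refine ⟨(List.range m).map Q, hnd, by simp, (qperm_eq _ _ hnd ?_ ?_).symm⟩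
  · intro r hr
    obtain ⟨k, hk, rfl⟩ := List.mem_map.1 hr
    rw [List.mem_range] at hk
    refine ⟨?_, ?_, ?_, ?_⟩ <;> refine (hstep _ (by omega)).trans (congrArg P ?_) <;> split_ifs <;> omega
  · intro x hx'
    rw [hflat] at hx'
    rcases hx x.1 x.2 with ⟨-, e⟩ | ⟨⟨h1, h2⟩, e⟩
    · exact Fin.ext ((hA.apply_ev _ hw' x).trans (Nat.eq_of_beq_eq_true e))
    · refine absurd (List.mem_map.2 ⟨iT.at x.1 - 1, ?_, Fin.ext ?_⟩) hx'
      · have := Nat.le_of_ble_eq_true h1; have := Nat.le_of_ble_eq_true h2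
        rw [List.mem_range]; omega
      · have := Nat.le_of_ble_eq_true h1; have := Nat.le_of_ble_eq_true h2
        rw [hP _ (by omega)]
        exact Nat.eq_of_beq_eq_true e

end Cfsg.Agent.Grp.SchurM.SpinPull
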