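import Mathlib
import Cfsg.Agent.Lib.Spor.Cos.Act

/-! The action on a family of subsets of the points of an action, from tables. -/

set_option autoImplicit false
set_option maxRecDepth 100000

open Cfsg.Agent.Spor.Cos

namespace Cfsg.Agent.Grp.SchurM

/-- A code of a list of points. -/
noncomputable def maskOf (l : List ℕ) : ℕ :=
  List.rec (motive := fun _ => ℕ) 0 (fun a _ r => 2 ^ a + r) l

theorem maskOf_eq (l : List ℕ) : maskOf l = (l.map fun a => 2 ^ a).sum := by
  induction l with
  | nil => rfl
  | cons a l ih => rw [List.map_cons, List.sum_cons, ← ih]; rfl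

/-- Increasing from a bound on. -/
noncomputable def incFrom (l : List ℕ) : ℕ → Bool :=
  List.rec (motive := fun _ => ℕ → Bool) (fun _ => true) (fun a _ r k => Nat.ble k a && r (a + 1)) l

theorem incFrom_spec : ∀ {l : List ℕ} {k : ℕ}, incFrom l k = true → (∀ a ∈ l, k ≤ a) ∧ l.Nodup
  | [], _, _ => ⟨by simp, List.nodup_nil⟩
  | a :: l, k, h => by
    simp only [incFrom, Bool.and_eq_true] at h
    have h1 : k ≤ a := Nat.le_of_ble_eq_true h.1
    obtain ⟨h2, h3⟩ := incFrom_spec (l := l) (k := a + 1) h.2
    refine ⟨fun b hb => ?_, List.nodup_cons.2 ⟨fun hm => by have := h2 a hm; omega, h3⟩⟩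
    rcases List.mem_cons.1 hb with rfl | hb
    · exact h1
    · have := h2 b hb; omega

/-- The check for one listed subset: its points, its code, its images under the generators. -/
noncomputable def chkSubset (A B : Act) (sets : Tab) (pts : ℕ → List ℕ) (i : ℕ) : Bool :=
  force (sets.at i) fun m => (pts i).all (fun a => Nat.blt a A.N) && incFrom (pts i) 0 &&
    Nat.beq (maskOf (pts i)) m && (Nat.ble B.N (i + 1) || Nat.blt m (sets.at (i + 1))) &&
    (List.range B.n).all fun s => force (B.im i s) fun j =>
      Nat.blt j B.N && Nat.beq (maskOf ((pts i).map fun a => A.im a s)) (sets.at j)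

/-- The tables give a homomorphism. -/
theorem exists_subset_hom {G : Type*} [Group G] {g : ℕ → G} {A B : Act} {π : G →* Equiv.Perm (Fin A.N)}
    (hA : A.Hom g π) (hn : A.n = B.n) (hgen : Subgroup.closure {x | ∃ s < B.n, g s = x} = ⊤)
    (hout : ∀ s, B.n ≤ s → g s = 1) (hinv : ∀ p < B.N, B.chkInv p = true) {sets : Tab} {pts : ℕ → List ℕ}
    (h : ∀ i < B.N, chkSubset A B sets pts i = true) :
    ∃ θ : G →* Equiv.Perm (Fin B.N), B.Hom g θ := by
  classical
  let lift : List ℕ → List (Fin A.N) := fun l => l.filterMap fun a => if ha : a < A.N then some ⟨a, ha⟩ else none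
  have hlift : ∀ l : List ℕ, (∀ a ∈ l, a < A.N) → (lift l).map Fin.val = l := by
    intro l hl
    induction l with
    | nil => rfl
    | cons a l ih =>
      simp only [lift, List.filterMap_cons, dif_pos (hl a (List.mem_cons_self ..)), List.map_cons]
      rw [ih fun b hb => hl b (List.mem_cons_of_mem _ hb)]
  have hs : ∀ i : Fin B.N, (∀ a ∈ pts i, a < A.N) ∧ (pts i).Nodup ∧ maskOf (pts i) = sets.at i ∧
      (i.1 + 1 < B.N → sets.at i < sets.at (i.1 + 1)) ∧
      ∀ s < B.n, B.im i s < B.N ∧ maskOf ((pts i).map fun a => A.im a s) = sets.at (B.im i s) := by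
    intro i
    have hi := h i.1 i.2
    simp only [chkSubset, force_eq, Bool.and_eq_true, Bool.or_eq_true, List.all_eq_true, List.mem_range] at hi
    obtain ⟨⟨⟨⟨h1, h0⟩, h2⟩, h3⟩, h4⟩ := hi
    exact ⟨fun a ha => Nat.le_of_ble_eq_true (h1 a ha), (incFrom_spec h0).2, Nat.eq_of_beq_eq_true h2,
      fun hlt => Nat.le_of_ble_eq_true (h3.resolve_left fun hb => by have := Nat.le_of_ble_eq_true hb; omega),
      fun s hs => ⟨Nat.le_of_ble_eq_true (h4 s hs).1, Nat.eq_of_beq_eq_true (h4 s hs).2⟩⟩
  let f : Fin B.N → Finset (Fin A.N) := fun i => (lift (pts i)).toFinset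
  let code : Finset (Fin A.N) → ℕ := fun T => ∑ a ∈ T, 2 ^ (a : ℕ)
  have hcinj : Function.Injective code := by
    intro T U e
    have key : ∀ V : Finset (Fin A.N), code V = ∑ b ∈ V.map Fin.valEmbedding, 2 ^ b := fun V => by
      rw [Finset.sum_map]; rfl
    rw [key, key] at e
    exact Finset.map_injective Fin.valEmbedding (Finset.geomSum_injective (le_refl 2) e)
  have hnd : ∀ i : Fin B.N, (lift (pts i)).Nodup := fun i => by
    have := (hs i).2.1
    rw [← hlift (pts i) (hs i).1] at this
    exact this.of_map _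
  have hcf : ∀ i, code (f i) = sets.at i := fun i => by
    rw [← (hs i).2.2.1, maskOf_eq]
    simp only [code, f, List.sum_toFinset _ (hnd i)]
    conv_rhs => rw [← hlift (pts i) (hs i).1]
    rw [List.map_map]
    rfl
  have hmono : ∀ i j : Fin B.N, i < j → sets.at i < sets.at j := by
    intro i j hij
    obtain ⟨j, hj⟩ := j
    change i.1 < j at hij
    induction hij with
    | refl => exact (hs i).2.2.2.1 hj
    | @step m hm ih => exact (ih (by omega)).trans ((hs ⟨m, by omega⟩).2.2.2.1 hj)
  have finj : Function.Injective f := by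
    intro i j e
    have e' : sets.at i = sets.at j := by rw [← hcf, ← hcf, e]
    rcases lt_trichotomy i j with l | l | l
    · exact absurd e' (hmono i j l).ne
    · exact l
    · exact absurd e' (hmono j i l).ne'
  let act : G → Finset (Fin A.N) → Finset (Fin A.N) := fun x T => T.map (π x).toEmbedding
  have act_mul : ∀ x y T, act (x * y) T = act x (act y T) := fun x y T => by
    simp only [act, Finset.map_map, map_mul]; rfl
  have act_one : ∀ T, act 1 T = T := fun T => by
    simp only [act, map_one]
    exact Finset.map_refl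
  have hstep : ∀ s (hs' : s < B.n) (i : Fin B.N), act (g s) (f i) = f ⟨B.im i s, ((hs i).2.2.2.2 s hs').1⟩ := by
    intro s hs' i
    refine hcinj ?_
    rw [hcf, ← ((hs i).2.2.2.2 s hs').2, maskOf_eq]
    simp only [code, act, f, Finset.sum_map, List.sum_toFinset _ (hnd i)]
    conv_rhs => rw [← hlift (pts i) (hs i).1]
    rw [List.map_map, List.map_map]
    refine congrArg List.sum (List.map_congr_left fun a _ => ?_)
    simp [hA.2 s, A.perm_apply hA.1 (hn ▸ hs')]
  have hclosed : ∀ x : G, ∀ i, ∃ j, act x (f i) = f j := by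
    intro x
    have hx : x ∈ Subgroup.closure {x | ∃ s < B.n, g s = x} := hgen ▸ Subgroup.mem_top x
    induction hx using Subgroup.closure_induction'' with
    | mem x hx => obtain ⟨s, hs', rfl⟩ := hx; exact fun i => ⟨_, hstep s hs' i⟩
    | inv_mem x hx =>
      obtain ⟨s, hs', rfl⟩ := hx
      intro i
      refine ⟨_, Eq.trans ?_ (hstep s hs' i)⟩
      simp only [act]
      congr 2
      rw [map_inv, hA.2 s, inv_eq_of_mul_eq_one_right (A.perm_sq s)]
    | one => exact fun i => ⟨i, act_one _⟩
    | mul x y _ _ ihx ihy =>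
      intro i
      obtain ⟨j, hj⟩ := ihy i
      obtain ⟨k, hk⟩ := ihx j
      exact ⟨k, by rw [act_mul, hj, hk]⟩
  choose im him using hclosed
  let θ : G →* Equiv.Perm (Fin B.N) := MonoidHom.mk'
    (fun x =>
      { toFun := im x
        invFun := im x⁻¹
        left_inv := fun i => finj (by rw [← him, ← him, ← act_mul, inv_mul_cancel, act_one])
        right_inv := fun i => finj (by rw [← him, ← him, ← act_mul, mul_inv_cancel, act_one]) })
    (fun x y => Equiv.ext fun i => finj (by
      show f (im (x * y) i) = f (im x (im y i))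
      rw [← him, ← him, ← him, act_mul]))
  refine ⟨θ, hinv, fun s => Equiv.ext fun i => ?_⟩
  by_cases hs' : s < B.n
  · refine finj ?_
    show f (im (g s) i) = _
    rw [← him, hstep s hs' i]
    exact congrArg f (Fin.ext (B.perm_apply hinv hs' i).symm)
  · rw [hout s (not_lt.1 hs'), map_one, B.perm_out s (not_lt.1 hs')]

end Cfsg.Agent.Grp.SchurM
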