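import Cfsg.Agent.Lib.Grp.SchurM.TailSection
import Cfsg.Agent.Lib.Spor.MultCore

/-! Stem extensions with kernel of exponent `p` from a tail certificate on a Sylow subgroup. -/

set_option autoImplicit false

namespace Cfsg.Agent.Grp.SchurM.Tails

universe u

variable {G : Type u} [Group G] [Finite G]

/-- A Sylow subgroup with a presentation, conjugation data and a certificate. -/
structure SylowCert (G : Type u) [Group G] (p : ℕ) where
  /-- the presentation -/
  P : PC
  /-- the generators -/
  e : ℕ → G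
  /-- the conjugating elements -/
  gs : ℕ → G
  /-- conjugation data -/
  C : List Conj
  /-- the certificate -/
  K : Cert
  prime_eq : P.p = p
  rels : ∀ j < P.n, ∀ i ≤ j, evL e (P.rule j i) = lhsV P e j i
  conj : ConjOK e gs C
  check : K.check P C = true
  free : P.R ≤ K.free
  card : p ^ P.n ≤ Nat.card (Subgroup.closure (e '' {k | k < P.n}))
  index : ¬ p ∣ (Subgroup.closure (e '' {k | k < P.n})).index

/-- A stem kernel of exponent `p` is trivial. -/
theorem SylowCert.ker_eq_bot {p : ℕ} (hp : p.Prime) (S : SylowCert G p) {Δ : Type*} [Group Δ] [Finite Δ]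
    (σ : Δ →* G) (hσ : Cfsg.IsStemExtension σ) (hexp : ∀ z ∈ σ.ker, z ^ p = 1) : σ.ker = ⊥ := by
  rw [eq_bot_iff]
  intro k hk
  rcases eq_or_ne k 1 with rfl | hk1
  · exact one_mem _
  have := Fact.mk hp
  have hord : orderOf k = p := orderOf_eq_prime (hexp k hk) hk1
  obtain ⟨z, -, hz1, hz⟩ := derived_bound (P := S.P) (σ := σ) (e := S.e)
    ⟨hσ.2.1, fun z hz => by rw [S.prime_eq]; exact hexp z hz, by rw [S.prime_eq]; exact hp.pos, S.rels⟩ hσ.1
    (by rw [S.prime_eq]; exact hp.one_lt) S.conj S.K S.check rfl (by rw [S.prime_eq]; exact S.card)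
  have hmem := hz k hk (Spor.Mult.mem_derived_of_coprime _ (hσ.2.1 hk) (hσ.2.2 hk) (by
    rw [hord, Subgroup.index_comap_of_surjective _ hσ.1]
    exact hp.coprime_iff_not_dvd.2 S.index))
  rw [hz1 S.free, Subgroup.zpowers_one_eq_bot] at hmem
  exact hmem

/-- The multiplier is trivial when every prime divisor of the order has a certificate. -/
theorem multiplier_trivial (h : ∀ p, p.Prime → p ∣ Nat.card G → Nonempty (SylowCert G p)) :
    Cfsg.HasCyclicSchurMultiplier G 1 := by
  refine Spor.Mult.trivial_of_prime fun p hp Δ _ _ σ hσ hexp => ?_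
  by_cases hd : p ∣ Nat.card G
  · obtain ⟨S⟩ := h p hp hd
    exact S.ker_eq_bot hp σ hσ hexp
  · rw [eq_bot_iff]
    intro k hk
    rcases eq_or_ne k 1 with rfl | hk1
    · exact one_mem _
    have := Fact.mk hp
    have hord : orderOf k = p := orderOf_eq_prime (hexp k hk) hk1
    exfalso
    refine Spor.Mult.no_elt_of_comm ((⊥ : Subgroup G).comap σ) (fun x hx y hy => ?_) hp hord
      (Spor.Mult.mem_derived_of_coprime _ (hσ.2.1 hk) (hσ.2.2 hk) ?_)
    · rw [MonoidHom.comap_bot] at hx
      exact (Subgroup.mem_center_iff.1 (hσ.2.1 hx) y).symm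
    · rw [hord, Subgroup.index_comap_of_surjective _ hσ.1, Subgroup.index_bot]
      exact hp.coprime_iff_not_dvd.2 hd

end Cfsg.Agent.Grp.SchurM.Tails
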