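import Cfsg.Agent.Lib.Grp.SchurM.Collect

/-!
Tails of a power–commutator presentation in a central extension by a group of exponent `p`, and the equations they
satisfy: consistency of collection, and invariance under conjugation.
-/

set_option autoImplicit false

namespace Cfsg.Agent.Grp.SchurM.Tails

variable {Γ G : Type*} [Group Γ] [Group G]

/-- The value of a left-hand side. -/
def lhsV (P : PC) (L : ℕ → Γ) (j i : ℕ) : Γ := if i = j then L j ^ P.p else L j * L i

theorem tri_succ (j : ℕ) : tri j (j + 1) = tri (j + 1) 0 := by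
  have h : (j + 1) * (j + 1 + 1) = j * (j + 1) + 2 * (j + 1) := by ring
  simp only [tri, h, Nat.add_mul_div_left _ _ Nat.two_pos, Nat.add_zero]

theorem tri_lt {j j' i i' : ℕ} (hi : i ≤ j) (hjj : j < j') : tri j i < tri j' i' := by
  have h1 : tri j i < tri (j + 1) 0 := by rw [← tri_succ]; exact Nat.add_lt_add_left (Nat.lt_succ_of_le hi) _
  refine lt_of_lt_of_le h1 ?_
  simp only [tri, Nat.add_zero]
  exact (Nat.div_le_div_right (Nat.mul_le_mul hjj (Nat.succ_le_succ hjj))).trans (Nat.le_add_right _ _)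

theorem tri_inj {j j' i i' : ℕ} (hi : i ≤ j) (hi' : i' ≤ j') (h : tri j i = tri j' i') : j = j' ∧ i = i' := by
  rcases lt_trichotomy j j' with hlt | rfl | hgt
  · exact absurd h (tri_lt hi hlt).ne
  · exact ⟨rfl, by simp only [tri] at h; omega⟩
  · exact absurd h (tri_lt hi' hgt).ne'

open Classical in
/-- The tails of the lifts `L`. -/
noncomputable def tailFn (P : PC) (L : ℕ → Γ) (r : ℕ) : Γ :=
  if h : ∃ q : ℕ × ℕ, q.1 < P.n ∧ q.2 ≤ q.1 ∧ tri q.1 q.2 = r then
    (evL L (P.rule h.choose.1 h.choose.2))⁻¹ * lhsV P L h.choose.1 h.choose.2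
  else 1

theorem tailFn_tri (P : PC) (L : ℕ → Γ) {j i : ℕ} (hj : j < P.n) (hi : i ≤ j) :
    tailFn P L (tri j i) = (evL L (P.rule j i))⁻¹ * lhsV P L j i := by
  have h : ∃ q : ℕ × ℕ, q.1 < P.n ∧ q.2 ≤ q.1 ∧ tri q.1 q.2 = tri j i := ⟨(j, i), hj, hi, rfl⟩
  obtain ⟨-, h2, h3⟩ := h.choose_spec
  obtain ⟨e1, e2⟩ := tri_inj h2 hi h3
  rw [tailFn, dif_pos h, e1, e2]

/-- Setting for tails: a central extension of exponent `p` and elements satisfying the relations. -/
structure Setting (P : PC) (σ : Γ →* G) (e : ℕ → G) : Prop where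
  central : σ.ker ≤ Subgroup.center Γ
  exp : ∀ k ∈ σ.ker, k ^ P.p = 1
  pos : 0 < P.p
  rels : ∀ j < P.n, ∀ i ≤ j, evL e (P.rule j i) = lhsV P e j i

/-- Lifts of the generators. -/
def IsLift (σ : Γ →* G) (e : ℕ → G) (L : ℕ → Γ) : Prop := ∀ k, σ (L k) = e k

theorem map_lhsV {P : PC} {σ : Γ →* G} {e : ℕ → G} {L : ℕ → Γ} (hL : IsLift σ e L) (j i : ℕ) :
    σ (lhsV P L j i) = lhsV P e j i := by
  unfold lhsV
  split_ifs
  · rw [map_pow, hL]
  · rw [map_mul, hL, hL]

theorem map_evL {σ : Γ →* G} {e : ℕ → G} {L : ℕ → Γ} (hL : IsLift σ e L) (w : List ℕ) :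
    σ (evL L w) = evL e w := by
  rw [evL_map, show (fun k => σ (L k)) = e from funext hL]

theorem tailFn_ker {P : PC} {σ : Γ →* G} {e : ℕ → G} (hS : Setting P σ e) {L : ℕ → Γ} (hL : IsLift σ e L) (r : ℕ) :
    tailFn P L r ∈ σ.ker := by
  unfold tailFn
  split_ifs with h
  · obtain ⟨h1, h2, -⟩ := h.choose_spec
    rw [MonoidHom.mem_ker, map_mul, map_inv, map_evL hL, map_lhsV hL, hS.rels _ h1 _ h2, inv_mul_cancel]
  · exact one_mem _

theorem holds_tailFn {P : PC} {σ : Γ →* G} {e : ℕ → G} (hS : Setting P σ e) {L : ℕ → Γ} (hL : IsLift σ e L) :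
    Holds P L (tailFn P L) where
  central r g := Subgroup.mem_center_iff.1 (hS.central (tailFn_ker hS hL r)) g
  comm j hj i hi := by
    rw [tailFn_tri P L hj hi.le, mul_inv_cancel_left, lhsV, if_neg hi.ne]
  pow j hj := by rw [tailFn_tri P L hj le_rfl, mul_inv_cancel_left, lhsV, if_pos rfl]

theorem tv_ker {P : PC} {σ : Γ →* G} {e : ℕ → G} (hS : Setting P σ e) {L : ℕ → Γ} (hL : IsLift σ e L)
    (rs : List ℕ) : tv (tailFn P L) rs ∈ σ.ker :=
  σ.ker.list_prod_mem fun x hx => by
    obtain ⟨r, -, rfl⟩ := List.mem_map.1 hx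
    exact tailFn_ker hS hL r

/-- Lifts with trivial defining tails exist. -/
theorem exists_lifts {P : PC} {σ : Γ →* G} {e : ℕ → G} (hS : Setting P σ e) (hsurj : Function.Surjective σ)
    (hd : P.defsOK = true) :
    ∃ L : ℕ → Γ, IsLift σ e L ∧ ∀ d ∈ P.defs, tailFn P L (tri d.2.1 d.2.2) = 1 := by
  have spec : ∀ d ∈ P.defs, d.2.2 ≤ d.2.1 ∧ d.2.1 < d.1 ∧ d.1 < P.n ∧
      (∃ pre, P.rule d.2.1 d.2.2 = pre ++ [d.1] ∧ ∀ k ∈ pre, k < d.1) ∧
      ∀ d' ∈ P.defs, d'.1 = d.1 → d'.2 = d.2 := by
    intro d hdm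
    have h := List.all_eq_true.1 hd d hdm
    simp only [Bool.and_eq_true] at h
    obtain ⟨⟨⟨⟨⟨h1, h2⟩, h3⟩, h4⟩, h5⟩, h6⟩ := h
    refine ⟨Nat.le_of_ble_eq_true h1, Nat.le_of_ble_eq_true h2, Nat.le_of_ble_eq_true h3, ?_, fun d' hd' he => ?_⟩
    · split at h4
      · next m hm =>
        obtain ⟨pre, hpre⟩ := List.getLast?_eq_some_iff.1 hm
        have hmd := Nat.eq_of_beq_eq_true h4
        subst hmd
        refine ⟨pre, hpre, fun k hk => Nat.le_of_ble_eq_true (List.all_eq_true.1 h5 k ?_)⟩
        rw [hpre, List.dropLast_concat]; exact hk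
      · simp at h4
    · have := List.all_eq_true.1 h6 d' hd'
      simp only [he, bne_self_eq_false, Bool.false_or, Bool.and_eq_true, beq_iff_eq] at this
      exact Prod.ext this.1 this.2
  suffices H : ∀ m, ∃ L : ℕ → Γ, IsLift σ e L ∧
      ∀ d ∈ P.defs, d.1 < m → lhsV P L d.2.1 d.2.2 = evL L (P.rule d.2.1 d.2.2) by
    obtain ⟨L, hL, h⟩ := H P.n
    refine ⟨L, hL, fun d hdm => ?_⟩
    obtain ⟨h1, h2, h3, -⟩ := spec d hdm
    rw [tailFn_tri P L (h2.trans h3) h1, h d hdm h3, inv_mul_cancel]
  intro m
  induction m with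
  | zero =>
    choose L hL using fun k => hsurj (e k)
    exact ⟨L, hL, fun d _ h => absurd h (Nat.not_lt_zero _)⟩
  | succ m ih =>
    obtain ⟨L, hL, h⟩ := ih
    by_cases hex : ∃ d ∈ P.defs, d.1 = m
    · obtain ⟨d, hdm, rfl⟩ := hex
      obtain ⟨h1, h2, h3, ⟨pre, hpre, hlt⟩, huniq⟩ := spec d hdm
      have upd : ∀ {v : Γ} (w : List ℕ), (∀ k ∈ w, k < d.1) → evL (Function.update L d.1 v) w = evL L w :=
        fun w hw => evL_congr fun k hk => Function.update_of_ne (hw k hk).ne _ _
      have updl : ∀ {v : Γ} (j i : ℕ), j < d.1 → i ≤ j →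
          lhsV P (Function.update L d.1 v) j i = lhsV P L j i := fun j i hj hi => by
        simp only [lhsV, Function.update_of_ne hj.ne, Function.update_of_ne (hi.trans_lt hj).ne]
      set v := (evL L pre)⁻¹ * lhsV P L d.2.1 d.2.2
      refine ⟨Function.update L d.1 v, fun k => ?_, fun d' hd' hlt' => ?_⟩
      · rcases eq_or_ne k d.1 with rfl | hk
        · rw [Function.update_self, map_mul, map_inv, map_evL hL, map_lhsV hL, ← hS.rels _ (h2.trans h3) _ h1,
            hpre, evL_append, inv_mul_cancel_left]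
          simp [evL]
        · rw [Function.update_of_ne hk]; exact hL k
      · obtain ⟨g1, g2, g3, ⟨pre', hpre', hlt''⟩, -⟩ := spec d' hd'
        rcases Nat.lt_succ_iff_lt_or_eq.1 hlt' with hl | he
        · rw [updl _ _ (g2.trans hl) g1, upd _ fun k hk => ?_]
          · exact h d' hd' hl
          · rw [hpre', List.mem_append, List.mem_singleton] at hk
            rcases hk with hk | rfl
            · exact (hlt'' k hk).trans hl
            · exact hl
        · rw [huniq d' hd' he, updl _ _ h2 h1, hpre, evL_append, upd pre hlt]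
          show _ = _ * evL _ [d.1]
          rw [evL_cons, evL_nil, mul_one, Function.update_self, mul_inv_cancel_left]
    · refine ⟨L, hL, fun d hdm hlt => h d hdm ?_⟩
      rcases Nat.lt_succ_iff_lt_or_eq.1 hlt with hl | he
      · exact hl
      · exact absurd ⟨d, hdm, he⟩ hex

/-- An equation between tails. -/
inductive Eqn
  /-- the two collections of a word, starting at two given places -/
  | cons (w : List ℕ) (k₁ k₂ : ℕ)
  /-- two products with the same value, and their conjugates -/
  | fus (xs : List ℕ) (U V : List ℕ)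

/-- Occurrences of a number. -/
def cnt (r : ℕ) : List ℕ → ℕ
  | [] => 0
  | a :: l => (if Nat.beq a r then 1 else 0) + cnt r l

theorem cnt_eq (r : ℕ) : ∀ l : List ℕ, cnt r l = l.count r
  | [] => rfl
  | a :: l => by
    rw [cnt, cnt_eq r l, List.count_cons]
    by_cases h : a = r
    · subst h; simp [Nat.add_comm]
    · simp [h]

/-- Repetition of a list. -/
def rep : ℕ → List ℕ → List ℕ
  | 0, _ => []
  | m + 1, l => l ++ rep m l

/-- Fuel for collection. -/
def fuel : ℕ := 100000

/-- Conjugation data: element, word, image. -/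
abbrev Conj := ℕ × List ℕ × List ℕ

/-- The rules whose tails have product one, from an equation. -/
def Eqn.tails (P : PC) (C : List Conj) : Eqn → Option (List ℕ)
  | .cons w k₁ k₂ =>
    match P.stepAt k₁ w, P.stepAt k₂ w with
    | some r₁, some r₂ =>
      let c₁ := P.collect fuel r₁.1
      let c₂ := P.collect fuel r₂.1
      if c₁.1 == c₂.1 then some (r₁.2 :: c₁.2 ++ rep (P.p - 1) (r₂.2 :: c₂.2)) else none
    | _, _ => none
  | .fus xs U V =>
    let data := xs.map fun k => C.getD k (0, [], [])
    let get := fun k => data.getD k (0, [], [])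
    let u := P.collect fuel (U.flatMap fun k => (get k).2.1)
    let v := P.collect fuel (V.flatMap fun k => (get k).2.1)
    let u' := P.collect fuel (U.flatMap fun k => (get k).2.2)
    let v' := P.collect fuel (V.flatMap fun k => (get k).2.2)
    if (xs.all fun k => Nat.blt k C.length) && (U ++ V).all (fun k => Nat.blt k xs.length) &&
        ((List.range xs.length).all fun k =>
          Nat.beq (get k).1 (get 0).1 && Nat.beq (cnt k U % P.p) (cnt k V % P.p)) &&
        u.1 == v.1 && u'.1 == v'.1 then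
      some (u.2 ++ rep (P.p - 1) v.2 ++ v'.2 ++ rep (P.p - 1) u'.2)
    else none

theorem tv_rep {t : ℕ → Γ} (m : ℕ) (l : List ℕ) : tv t (rep m l) = tv t l ^ m := by
  induction m with
  | zero => simp [rep, tv]
  | succ m ih => rw [rep, tv_append, ih, pow_succ']

theorem prod_map_central {Q : Type*} [CommMonoid Q] {c : ℕ → Q} {p : ℕ} (hc : ∀ k, c k ^ p = 1) {l : ℕ} {U V : List ℕ}
    (hU : ∀ k ∈ U, k < l) (hV : ∀ k ∈ V, k < l) (h : ∀ k < l, U.count k % p = V.count k % p) :
    (U.map c).prod = (V.map c).prod := by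
  have key : ∀ W : List ℕ, (∀ k ∈ W, k < l) → (W.map c).prod = ∏ k ∈ Finset.range l, c k ^ W.count k := by
    intro W hW
    induction W with
    | nil => simp
    | cons a W ih =>
      rw [List.map_cons, List.prod_cons, ih fun k hk => hW k (List.mem_cons_of_mem _ hk)]
      have ha : a ∈ Finset.range l := Finset.mem_range.2 (hW a List.mem_cons_self)
      rw [← Finset.mul_prod_erase _ (fun k => c k ^ W.count k) ha, ← Finset.mul_prod_erase _ (fun k => c k ^ (a :: W).count k) ha,
        List.count_cons_self, pow_succ', mul_assoc]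
      congr 2
      refine Finset.prod_congr rfl fun k hk => ?_
      rw [List.count_cons_of_ne (Finset.ne_of_mem_erase hk).symm]
  rw [key U hU, key V hV]
  refine Finset.prod_congr rfl fun k hk => ?_
  rw [pow_eq_pow_mod _ (hc k), h k (Finset.mem_range.1 hk), ← pow_eq_pow_mod _ (hc k)]

/-- The conjugation data hold in the group. -/
def ConjOK (e : ℕ → G) (gs : ℕ → G) (C : List Conj) : Prop :=
  ∀ c ∈ C, gs c.1 * evL e c.2.1 = evL e c.2.2 * gs c.1

/-- Every equation holds. -/
theorem eqn_sound {P : PC} {σ : Γ →* G} {e : ℕ → G} (hS : Setting P σ e) {L : ℕ → Γ} (hL : IsLift σ e L)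
    (hsurj : Function.Surjective σ) {gs : ℕ → G} {C : List Conj} (hC : ConjOK e gs C) {q : Eqn} {ls : List ℕ}
    (h : q.tails P C = some ls) : tv (tailFn P L) ls = 1 := by
  have H := holds_tailFn hS hL
  have hexp : ∀ rs, tv (tailFn P L) rs * tv (tailFn P L) rs ^ (P.p - 1) = 1 := fun rs => by
    rw [← pow_succ', Nat.sub_add_cancel hS.pos, hS.exp _ (tv_ker hS hL rs)]
  cases q with
  | cons w k₁ k₂ =>
    rw [Eqn.tails] at h
    split at h
    · next r₁ r₂ e₁ e₂ =>
      simp only at h
      split at h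
      · next hb =>
        obtain rfl := Option.some.inj h
        have hb' := beq_iff_eq.1 hb
        have a : evL L w = evL L (P.collect fuel r₁.1).1 * tv (tailFn P L) (r₁.2 :: (P.collect fuel r₁.1).2) := by
          rw [H.stepAt e₁, H.collect fuel r₁.1, mul_assoc, (H.central r₁.2 _).eq]; simp [tv]
        have b : evL L w = evL L (P.collect fuel r₂.1).1 * tv (tailFn P L) (r₂.2 :: (P.collect fuel r₂.1).2) := by
          rw [H.stepAt e₂, H.collect fuel r₂.1, mul_assoc, (H.central r₂.2 _).eq]; simp [tv]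
        rw [a, hb'] at b
        rw [tv_append, tv_rep, mul_left_cancel b]
        exact hexp _
      · simp at h
    · simp at h
  | fus xs U V =>
    simp only [Eqn.tails] at h
    split at h
    swap
    · simp at h
    next hb =>
    obtain rfl := Option.some.inj h
    simp only [Bool.and_eq_true, beq_iff_eq, List.all_eq_true, List.mem_range, List.mem_append] at hb
    obtain ⟨⟨⟨⟨hxs, hUV⟩, hk⟩, hu⟩, hu'⟩ := hb
    set data := xs.map fun k => C.getD k (0, [], []) with hdata
    set get := fun k => data.getD k (0, [], []) with hget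
    obtain ⟨T, hT⟩ := hsurj (gs (get 0).1)
    let cf : ℕ → Γ := fun k =>
      (evL L (get k).2.2)⁻¹ * (T * evL L (get k).2.1 * T⁻¹)
    have hcf : ∀ k < xs.length, cf k ∈ σ.ker := by
      intro k hk'
      have hmem : get k ∈ C := by
        have h1 : xs.getD k 0 < C.length := Nat.le_of_ble_eq_true (hxs _ (by
          rw [List.getD_eq_getElem _ _ hk']; exact List.getElem_mem hk'))
        simp only [hget, hdata]
        rw [List.getD_eq_getElem _ _ (by simpa using hk'), List.getElem_map]
        rw [List.getD_eq_getElem _ _ hk'] at h1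
        rw [List.getD_eq_getElem _ _ h1]
        exact List.getElem_mem h1
      have hg : (get k).1 = (get 0).1 := Nat.eq_of_beq_eq_true (hk k hk').1
      rw [MonoidHom.mem_ker, map_mul, map_mul, map_mul, map_inv, map_inv, map_evL hL, map_evL hL, hT, ← hg,
        hC _ hmem, mul_inv_cancel_right, inv_mul_cancel]
    have flat : ∀ (W : List ℕ) (f : ℕ → List ℕ), evL L (W.flatMap f) = (W.map fun k => evL L (f k)).prod := by
      intro W f
      induction W with
      | nil => rfl
      | cons a W ih => rw [List.flatMap_cons, evL_append, ih, List.map_cons, List.prod_cons]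
    have conjW : ∀ W : List ℕ, (∀ k ∈ W, k < xs.length) →
        T * evL L (W.flatMap fun k => (get k).2.1) * T⁻¹ =
          evL L (W.flatMap fun k => (get k).2.2) * (W.map cf).prod ∧ (W.map cf).prod ∈ σ.ker := by
      intro W hW
      induction W with
      | nil => simp [evL_nil]
      | cons a W ih =>
        obtain ⟨ih1, ih2⟩ := ih fun k hk' => hW k (List.mem_cons_of_mem _ hk')
        have ha := hcf a (hW a List.mem_cons_self)
        refine ⟨?_, mul_mem ha ih2⟩
        calc T * evL L ((a :: W).flatMap fun k => (get k).2.1) * T⁻¹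
            = T * evL L (get a).2.1 * T⁻¹ * (T * evL L (W.flatMap fun k => (get k).2.1) * T⁻¹) := by
              rw [List.flatMap_cons, evL_append]; group
          _ = evL L (get a).2.2 * cf a * (evL L (W.flatMap fun k => (get k).2.2) * (W.map cf).prod) := by
              rw [ih1, show evL L (get a).2.2 * cf a = T * evL L (get a).2.1 * T⁻¹ from mul_inv_cancel_left _ _]
          _ = evL L ((a :: W).flatMap fun k => (get k).2.2) * ((a :: W).map cf).prod := by
              rw [List.flatMap_cons, evL_append, List.map_cons, List.prod_cons, mul_assoc, ← mul_assoc (cf a),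
                ← Subgroup.mem_center_iff.1 (hS.central ha), mul_assoc (evL L (W.flatMap _)), ← mul_assoc]
    have hUl : ∀ k ∈ U, k < xs.length := fun k hk' => Nat.le_of_ble_eq_true (hUV k (Or.inl hk'))
    have hVl : ∀ k ∈ V, k < xs.length := fun k hk' => Nat.le_of_ble_eq_true (hUV k (Or.inr hk'))
    have hC' : (U.map cf).prod = (V.map cf).prod := by
      classical
      letI : CommGroup (Subgroup.center Γ) :=
        { (inferInstance : Group (Subgroup.center Γ)) with
          mul_comm := fun a b => Subtype.ext (Subgroup.mem_center_iff.1 b.2 a) }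
      let c : ℕ → Subgroup.center Γ := fun k =>
        if h : k < xs.length then ⟨cf k, hS.central (hcf k h)⟩ else 1
      have hmap : ∀ W : List ℕ, (∀ k ∈ W, k < xs.length) →
          (((W.map c).prod : Subgroup.center Γ) : Γ) = (W.map cf).prod := by
        intro W hW
        induction W with
        | nil => simp
        | cons a W ih =>
          simp only [List.map_cons, List.prod_cons, Subgroup.coe_mul]
          rw [ih fun k hk' => hW k (List.mem_cons_of_mem _ hk')]
          simp [c, hW a List.mem_cons_self]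
      rw [← hmap U hUl, ← hmap V hVl, prod_map_central (c := c) (p := P.p) (fun k => ?_) hUl hVl fun k hk' => by
        rw [← cnt_eq, ← cnt_eq]; exact Nat.eq_of_beq_eq_true (hk k hk').2]
      refine Subtype.ext ?_
      rw [SubmonoidClass.coe_pow, Subgroup.coe_one]
      simp only [c]
      split_ifs with h
      · exact hS.exp _ (hcf k h)
      · exact one_pow _
    set tU := tv (tailFn P L) (P.collect fuel (U.flatMap fun k => (get k).2.1)).2
    set tV := tv (tailFn P L) (P.collect fuel (V.flatMap fun k => (get k).2.1)).2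
    set tU' := tv (tailFn P L) (P.collect fuel (U.flatMap fun k => (get k).2.2)).2
    set tV' := tv (tailFn P L) (P.collect fuel (V.flatMap fun k => (get k).2.2)).2
    have zc : ∀ (rs : List ℕ) (g : Γ), Commute g (tv (tailFn P L) rs) := tv_central H
    have eU : evL L (U.flatMap fun k => (get k).2.1) =
        evL L (V.flatMap fun k => (get k).2.1) * (tV⁻¹ * tU) := by
      rw [H.collect fuel (U.flatMap _), H.collect fuel (V.flatMap _), hu, mul_assoc, mul_inv_cancel_left]
    have eU' : evL L (U.flatMap fun k => (get k).2.2) =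
        evL L (V.flatMap fun k => (get k).2.2) * (tV'⁻¹ * tU') := by
      rw [H.collect fuel (U.flatMap _), H.collect fuel (V.flatMap _), hu', mul_assoc, mul_inv_cancel_left]
    have hd : tV⁻¹ * tU = tV'⁻¹ * tU' := by
      have cd : ∀ g : Γ, Commute g (tV⁻¹ * tU) := fun g => (zc _ g).inv_right.mul_right (zc _ g)
      have cd' : ∀ g : Γ, Commute g (tV'⁻¹ * tU') := fun g => (zc _ g).inv_right.mul_right (zc _ g)
      have hconj := (conjW U hUl).1
      rw [eU, eU', hC', show T * (evL L (V.flatMap fun k => (get k).2.1) * (tV⁻¹ * tU)) * T⁻¹ =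
        T * evL L (V.flatMap fun k => (get k).2.1) * ((tV⁻¹ * tU) * T⁻¹) by group, ← (cd T⁻¹).eq, ← mul_assoc,
        (conjW V hVl).1, mul_assoc, mul_assoc (evL L (V.flatMap fun k => (get k).2.2)) (tV'⁻¹ * tU'),
        ← (cd' _).eq] at hconj
      exact mul_left_cancel (mul_left_cancel hconj)
    have c1 : tV⁻¹ = tV ^ (P.p - 1) := inv_eq_of_mul_eq_one_right (hexp _)
    have c2 : tU'⁻¹ = tU' ^ (P.p - 1) := inv_eq_of_mul_eq_one_right (hexp _)
    simp only [tv_append, tv_rep]
    rw [← c1, ← c2, ← ((zc _ tU).inv_right).symm.eq, hd, mul_assoc (tV'⁻¹) tU' tV', (zc _ tU').eq, ← mul_assoc,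
      inv_mul_cancel, one_mul, mul_inv_cancel]

end Cfsg.Agent.Grp.SchurM.Tails
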