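import Cfsg.Agent.Lib.Grp.SchurM.TailFree
import Cfsg.Agent.Lib.Grp.SchurM.TailCert

/-! Stem extensions whose kernel is generated by the commutator of two lifts of commuting elements. -/

set_option autoImplicit false

namespace Cfsg.Agent.Grp.SchurM.Tails

open scoped commutatorElement

universe u v

variable {G : Type u} [Group G]

/-- A Sylow subgroup with a presentation and a certificate leaving one commutator free. -/
structure SylowOne (G : Type u) [Group G] (p : ℕ) where
  /-- the presentation -/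
  P : PC
  /-- the generators -/
  e : ℕ → G
  /-- the conjugating elements -/
  gs : ℕ → G
  /-- conjugation data -/
  C : List Conj
  /-- the certificate -/
  K : Cert
  /-- the larger of the two commuting generators -/
  j : ℕ
  /-- the smaller of the two commuting generators -/
  i : ℕ
  prime_eq : P.p = p
  rels : ∀ j < P.n, ∀ i ≤ j, evL e (P.rule j i) = lhsV P e j i
  conj : ConjOK e gs C
  check : K.check P C = true
  lt : i < j
  lt_n : j < P.n
  free : K.free = tri j i
  comm : P.rule j i = [i, j]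
  pow : P.rule j j = []
  card : p ^ P.n ≤ Nat.card (Subgroup.closure (e '' {k | k < P.n}))
  index : ¬ p ∣ (Subgroup.closure (e '' {k | k < P.n})).index

variable {p : ℕ}

/-- The commutator of two lifts, in the form of a tail. -/
def SylowOne.val {Δ : Type v} [Group Δ] (_S : SylowOne G p) (X Y : Δ) : Δ := (X * Y)⁻¹ * (Y * X)

theorem SylowOne.val_congr {Δ : Type v} [Group Δ] (S : SylowOne G p) {σ : Δ →* G} (hc : σ.ker ≤ Subgroup.center Δ)
    {X X' Y Y' : Δ} (hX : σ X = σ X') (hY : σ Y = σ Y') : S.val X Y = S.val X' Y' := by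
  have h : ∀ A B : Δ, S.val A B = ⁅B⁻¹, A⁻¹⁆ := fun A B => by
    simp only [SylowOne.val, commutatorElement_def]; group
  rw [h, h]
  exact Spor.Mult.bracket_congr hc (by rw [map_inv, map_inv, hY]) (by rw [map_inv, map_inv, hX])

/-- A stem kernel of exponent `p` is generated by that commutator. -/
theorem SylowOne.ker_le {Δ : Type v} [Group Δ] [Finite Δ] (hp : p.Prime) (S : SylowOne G p) (σ : Δ →* G)
    (hσ : Cfsg.IsStemExtension σ) (hexp : ∀ z ∈ σ.ker, z ^ p = 1) {X Y : Δ} (hX : σ X = S.e S.i) (hY : σ Y = S.e S.j) :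
    σ.ker ≤ Subgroup.zpowers (S.val X Y) := by
  intro k hk
  rcases eq_or_ne k 1 with rfl | hk1
  · exact one_mem _
  have := Fact.mk hp
  have hord : orderOf k = p := orderOf_eq_prime (hexp k hk) hk1
  obtain ⟨L, hL, hz⟩ := derived_bound_tail (P := S.P) (σ := σ) (e := S.e)
    ⟨hσ.2.1, fun z hz => by rw [S.prime_eq]; exact hexp z hz, by rw [S.prime_eq]; exact hp.pos, S.rels⟩ hσ.1
    (by rw [S.prime_eq]; exact hp.one_lt) S.conj S.K S.check rfl (by rw [S.prime_eq]; exact S.card)
  have hmem := hz k hk (Spor.Mult.mem_derived_of_coprime _ (hσ.2.1 hk) (hσ.2.2 hk) (by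
    have : Finite G := Finite.of_surjective σ hσ.1
    rw [hord, Subgroup.index_comap_of_surjective _ hσ.1]
    exact hp.coprime_iff_not_dvd.2 S.index))
  have htail : tailFn S.P L S.K.free = S.val X Y := by
    rw [S.free, tailFn_tri S.P L S.lt_n S.lt.le, lhsV, if_neg S.lt.ne, S.comm]
    rw [show evL L [S.i, S.j] = L S.i * L S.j by simp [evL]]
    exact S.val_congr hσ.2.1 (by rw [hL, hX]) (by rw [hL, hY])
  rwa [htail] at hmem

variable [Finite G]

/-- Every stem kernel is generated by the commutator, whose order divides `p`. -/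
theorem exists_gen_of_one (hp : p.Prime) (S : SylowOne G p)
    (h : ∀ q, q.Prime → q ≠ p → q ∣ Nat.card G → Nonempty (SylowCert G q)) {Δ : Type v} [Group Δ] [Finite Δ]
    (σ : Δ →* G) (hσ : Cfsg.IsStemExtension σ) : ∃ c ∈ σ.ker, c ^ p = 1 ∧ σ.ker ≤ Subgroup.zpowers c := by
  obtain ⟨X, hX⟩ := hσ.1 (S.e S.i)
  obtain ⟨Y, hY⟩ := hσ.1 (S.e S.j)
  set c := S.val X Y with hcdef
  have hrel := S.rels S.j S.lt_n S.i S.lt.le
  rw [S.comm, lhsV, if_neg S.lt.ne, show evL S.e [S.i, S.j] = S.e S.i * S.e S.j by simp [evL]] at hrel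
  have hc : c ∈ σ.ker := by
    rw [MonoidHom.mem_ker, hcdef, SylowOne.val, map_mul, map_inv, map_mul, map_mul, hX, hY, hrel, inv_mul_cancel]
  have hcc : ∀ v, v * c = c * v := Subgroup.mem_center_iff.1 (hσ.2.1 hc)
  have hswap : Y * X = X * Y * c := by rw [hcdef, SylowOne.val, mul_inv_cancel_left]
  have hpowc : ∀ m : ℕ, Y ^ m * X = X * Y ^ m * c ^ m := by
    intro m
    induction m with
    | zero => simp
    | succ m ih =>
      have hcy : Commute (Y ^ m) c := hcc _
      calc Y ^ (m + 1) * X = Y * (Y ^ m * X) := by rw [pow_succ', mul_assoc]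
        _ = Y * X * Y ^ m * c ^ m := by rw [ih]; group
        _ = X * Y * (Y ^ m * c) * c ^ m := by rw [hswap, hcy.eq]; group
        _ = X * Y ^ (m + 1) * c ^ (m + 1) := by rw [pow_succ' Y, pow_succ' c]; group
  have hYp : Y ^ p ∈ σ.ker := by
    have h1 := S.rels S.j S.lt_n S.j le_rfl
    rw [S.pow, evL_nil, lhsV, if_pos rfl, S.prime_eq] at h1
    rw [MonoidHom.mem_ker, map_pow, hY, ← h1]
  have hcp : c ^ p = 1 := by
    have h1 := hpowc p
    rw [← Subgroup.mem_center_iff.1 (hσ.2.1 hYp) X] at h1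
    exact mul_left_cancel (h1.symm.trans (mul_one _).symm)
  refine ⟨c, hc, hcp, ?_⟩
  by_contra hne
  -- a prime `q` with `ker` not inside `⟨c⟩ ker^q`
  have hcm : ∀ a b : σ.ker, Commute a b := fun a b => Subtype.ext (Subgroup.mem_center_iff.1 (hσ.2.1 b.2) (a : Δ))
  letI : CommGroup σ.ker := { (inferInstance : Group σ.ker) with mul_comm := fun a b => (hcm a b).eq }
  set A : Subgroup σ.ker := (Subgroup.zpowers c).subgroupOf σ.ker with hA
  have hcard : Nat.card (σ.ker ⧸ A) ≠ 1 := fun e => hne fun z hz => by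
    have hs : Subsingleton (σ.ker ⧸ A) := (Nat.card_eq_one_iff_unique.1 e).1
    have := Subsingleton.elim (QuotientGroup.mk (s := A) (⟨z, hz⟩ : σ.ker)) 1
    exact Subgroup.mem_subgroupOf.1 ((QuotientGroup.eq_one_iff _).1 this)
  obtain ⟨q, hq, hdvd⟩ := Nat.exists_prime_and_dvd hcard
  have := Fact.mk hq
  let powQ : σ.ker →* Δ :=
    { toFun := fun z => (z : Δ) ^ q
      map_one' := by simp
      map_mul' := fun a b => by
        show ((a : Δ) * b) ^ q = _
        exact Commute.mul_pow (Subgroup.mem_center_iff.1 (hσ.2.1 b.2) (a : Δ)) q }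
  set K := powQ.range ⊔ Subgroup.zpowers c with hK
  have hKker : K ≤ σ.ker := by
    refine sup_le ?_ (Subgroup.zpowers_le.2 hc)
    rintro _ ⟨z, rfl⟩; exact pow_mem z.2 q
  haveI : K.Normal := ⟨fun n hn g => by
    rwa [Subgroup.mem_center_iff.1 (hσ.2.1 (hKker hn)) g, mul_inv_cancel_right]⟩
  have hnot : ¬ σ.ker ≤ K := by
    intro hle
    obtain ⟨z, hz⟩ := exists_prime_orderOf_dvd_card' q hdvd
    have hsurj : Function.Surjective fun w : σ.ker ⧸ A => w ^ q := by
      intro w
      induction w using QuotientGroup.induction_on with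
      | _ y =>
        haveI : (Subgroup.zpowers c).Normal := ⟨fun n hn g => by
          rwa [Subgroup.mem_center_iff.1 (hσ.2.1 ((Subgroup.zpowers_le.2 hc) hn)) g, mul_inv_cancel_right]⟩
        obtain ⟨a, ⟨v, rfl⟩, b, hb, he⟩ := Subgroup.mem_sup_of_normal_right.1 (hle y.2)
        refine ⟨QuotientGroup.mk v, ?_⟩
        show (QuotientGroup.mk v : σ.ker ⧸ A) ^ q = QuotientGroup.mk y
        rw [← QuotientGroup.mk_pow, QuotientGroup.eq, hA, Subgroup.mem_subgroupOf]
        have : ((↑((v ^ q)⁻¹ * y) : σ.ker) : Δ) = b := by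
          rw [Subgroup.coe_mul, Subgroup.coe_inv, Subgroup.coe_pow, ← he]
          show ((v : Δ) ^ q)⁻¹ * ((v : Δ) ^ q * b) = b
          rw [inv_mul_cancel_left]
        rwa [this]
    have hinj := Finite.injective_iff_surjective.2 hsurj
    have h1 : z = 1 := hinj (show z ^ q = (1 : σ.ker ⧸ A) ^ q by rw [one_pow, ← hz, pow_orderOf_eq_one])
    rw [h1, orderOf_one] at hz
    exact hq.ne_one hz.symm
  let τ := QuotientGroup.lift K σ hKker
  have hτ : Cfsg.IsStemExtension τ := by
    refine ⟨fun x => ?_, ?_, ?_⟩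
    · obtain ⟨y, rfl⟩ := hσ.1 x; exact ⟨QuotientGroup.mk y, rfl⟩
    · intro x hx
      induction x using QuotientGroup.induction_on with
      | _ y =>
        refine Subgroup.mem_center_iff.2 fun r => ?_
        induction r using QuotientGroup.induction_on with
        | _ g => rw [← QuotientGroup.mk_mul, ← QuotientGroup.mk_mul, Subgroup.mem_center_iff.1 (hσ.2.1 hx) g]
    · intro x hx
      induction x using QuotientGroup.induction_on with
      | _ y =>
        have : QuotientGroup.mk' K y ∈ (commutator Δ).map (QuotientGroup.mk' K) := ⟨y, hσ.2.2 hx, rfl⟩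
        have hle : (commutator Δ).map (QuotientGroup.mk' K) ≤ commutator (Δ ⧸ K) := by
          rw [commutator_def, Subgroup.map_commutator]; exact Subgroup.commutator_mono le_top le_top
        exact hle this
  have hexp : ∀ x ∈ τ.ker, x ^ q = 1 := fun x hx => by
    induction x using QuotientGroup.induction_on with
    | _ y =>
      rw [← QuotientGroup.mk_pow]
      exact (QuotientGroup.eq_one_iff _).2 (Subgroup.mem_sup_left ⟨⟨y, hx⟩, rfl⟩)
  have hbot : τ.ker = ⊥ := by
    by_cases hqp : q = p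
    · subst hqp
      have h1 := S.ker_le hp τ hτ hexp (X := QuotientGroup.mk X) (Y := QuotientGroup.mk Y) hX hY
      have h2 : S.val (QuotientGroup.mk X : Δ ⧸ K) (QuotientGroup.mk Y) = QuotientGroup.mk c := by
        simp only [SylowOne.val, hcdef, QuotientGroup.mk_mul, QuotientGroup.mk_inv]
      rw [h2, (QuotientGroup.eq_one_iff c).2 (Subgroup.mem_sup_right (Subgroup.mem_zpowers c)),
        Subgroup.zpowers_one_eq_bot] at h1
      exact le_bot_iff.1 h1
    · by_cases hd : q ∣ Nat.card G
      · obtain ⟨T⟩ := h q hq hqp hd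
        exact T.ker_eq_bot hq τ hτ hexp
      · rw [eq_bot_iff]
        intro k hk
        rcases eq_or_ne k 1 with rfl | hk1
        · exact one_mem _
        exfalso
        refine Spor.Mult.no_elt_of_comm ((⊥ : Subgroup G).comap τ) (fun x hx y hy => ?_) hq
          (orderOf_eq_prime (hexp k hk) hk1) (Spor.Mult.mem_derived_of_coprime _ (hτ.2.1 hk) (hτ.2.2 hk) ?_)
        · rw [MonoidHom.comap_bot] at hx
          exact (Subgroup.mem_center_iff.1 (hτ.2.1 hx) y).symm
        · rw [orderOf_eq_prime (hexp k hk) hk1, Subgroup.index_comap_of_surjective _ hτ.1, Subgroup.index_bot]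
          exact hq.coprime_iff_not_dvd.2 hd
  refine hnot fun z hz => (QuotientGroup.eq_one_iff z).1 ?_
  have : (QuotientGroup.mk z : Δ ⧸ K) ∈ τ.ker := hz
  rwa [hbot, Subgroup.mem_bot] at this

end Cfsg.Agent.Grp.SchurM.Tails
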