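import Cfsg.Agent.Lib.Grp.SchurM.TailTable
import Cfsg.Agent.Lib.Grp.SchurM.TailOne

/-! Certificates with one free commutator for groups given by words. -/

set_option autoImplicit false

open Cfsg.Agent.Spor.Cos

namespace Cfsg.Agent.Grp.SchurM.Tails.TableCert

variable {S : TableCert} {A : Act} {base : List ℕ} {G : Type*} [Group G] {g : ℕ → G}
  {π : G →* Equiv.Perm (Fin A.N)}

/-- The certificate gives a Sylow certificate with one free commutator. -/
theorem sylowOne (hA : A.Hom g π) (hb : ∀ b ∈ base, b < A.N)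
    (det : ∀ y : G, (∀ q : Fin A.N, (q : ℕ) ∈ base → π y q = q) → y = 1) [Finite G] {p N : ℕ} (hN : Nat.card G = N)
    (hp : S.P.p = p) (hp0 : 0 < p) (hr : S.chkRel A base = true) (hc : S.chkCard A base = true)
    (hk : S.K.check S.P S.C = true) {j i : ℕ} (hji : i < j ∧ j < S.P.n)
    (hf : S.K.free = tri j i) (hcm : S.P.rule j i = [i, j]) (hpj : S.P.rule j j = []) (hi : N / p ^ S.P.n % p ≠ 0) :
    Nonempty (SylowOne G p) := by
  simp only [chkRel, Bool.and_eq_true, List.all_eq_true, List.mem_range] at hr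
  obtain ⟨⟨⟨hl1, hl2⟩, hrels⟩, hconj⟩ := hr
  simp only [chkCard, Bool.and_eq_true, List.all_eq_true] at hc
  obtain ⟨⟨hlt, hlen⟩, hinc⟩ := hc
  have hfl := fun w => letters_flat (S := S) hl1 w
  have rels : ∀ j < S.P.n, ∀ i ≤ j, evL (S.elem g) (S.P.rule j i) = lhsV S.P (S.elem g) j i := by
    intro j hj i hij
    have h := eq_of_agree hA hb det (hfl _) (hfl _) (hrels j hj i (Nat.lt_succ_of_le hij))
    rw [ev_flat, ev_flat] at h
    rw [h, lhsV, PC.lhs]
    split_ifs
    · next he => subst he; exact evL_replicate (S.elem g) _ _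
    · simp [evL]
  set H := Subgroup.closure (S.elem g '' {k | k < S.P.n})
  have hwf : S.P.wellFormed = true := by
    have h := hk
    simp only [Cert.check, Bool.and_eq_true] at h
    exact h.1.1.1
  have hpp : 0 < S.P.p := hp ▸ hp0
  have hup : Nat.card H ≤ p ^ S.P.n := by
    have h := card_upper (P := S.P) hwf hpp (S.elem g) (z := (1 : G)) (one_mem _)
      (fun j hj i hij => by rw [rels j hj i hij, inv_mul_cancel]; exact one_mem _) _ _ (zero_add _)
    rw [Subgroup.zpowers_one_eq_bot, Subgroup.card_bot, one_mul, hp] at h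
    refine le_trans (le_of_eq ?_) h
    rw [upper, Set.singleton_union, Subgroup.closure_insert_one]
    simp only [Nat.zero_le, true_and]
    rfl
  have hdown : p ^ S.P.n ≤ Nat.card H := by
    obtain ⟨-, hpw⟩ := inc_pairwise hinc
    have hnd : (S.els.map (evL (S.elem g))).Nodup := by
      refine List.pairwise_map.2 (hpw.imp fun {u v} huv he => huv.ne ?_)
      refine code_eq_code fun b hb' => ?_
      rw [← hA.apply_ev _ (hfl u) ⟨b, hb b hb'⟩, ← hA.apply_ev _ (hfl v) ⟨b, hb b hb'⟩, ev_flat, ev_flat, he]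
    have hmem : ∀ x ∈ S.els.map (evL (S.elem g)), x ∈ H := by
      intro x hx
      obtain ⟨w, hw, rfl⟩ := List.mem_map.1 hx
      exact evL_mem fun k hk => Subgroup.subset_closure ⟨k, Nat.le_of_ble_eq_true (hlt w hw k hk), rfl⟩
    have hcard : Nat.card (Fin (S.els.map (evL (S.elem g))).length) ≤ Nat.card H :=
      Nat.card_le_card_of_injective (fun i => ⟨_, hmem _ (List.getElem_mem i.2)⟩) fun i j hij =>
        Fin.ext (hnd.getElem_inj_iff.1 (Subtype.ext_iff.1 hij))
    rwa [Nat.card_fin, List.length_map, Nat.eq_of_beq_eq_true hlen, hp] at hcard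
  refine ⟨⟨S.P, S.elem g, fun m => ev g (S.gws.getD m []), S.C, S.K, j, i, hp, rels, fun c hc' => ?_, hk, hji.1,
    hji.2, hf, hcm, hpj, hdown,
    fun hdvd => hi ?_⟩⟩
  · have h := eq_of_agree hA hb det (u := S.gws.getD c.1 [] ++ S.flat c.2.1)
      (v := S.flat c.2.2 ++ S.gws.getD c.1 [])
      (fun s hs => (List.mem_append.1 hs).elim (letters_getD hl2 _ s) (hfl _ s))
      (fun s hs => (List.mem_append.1 hs).elim (hfl _ s) (letters_getD hl2 _ s)) (hconj c hc')
    rwa [ev_append, ev_append, ev_flat, ev_flat] at h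
  · have hH : Nat.card H = p ^ S.P.n := le_antisymm hup hdown
    have hmul := H.card_mul_index
    rw [hH, hN] at hmul
    rw [← hmul, Nat.mul_div_cancel_left _ (pow_pos (hp ▸ hpp) _)]
    exact Nat.dvd_iff_mod_eq_zero.1 hdvd

end Cfsg.Agent.Grp.SchurM.Tails.TableCert
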