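import Cfsg.Agent.Lib.Grp.SchurM.TailOne
import Cfsg.Agent.Lib.Grp.SchurM.TailTableOne

/-! Stem extensions whose kernel is generated by the commutator of two lifts of commuting elements of any order. -/

set_option autoImplicit false

namespace Cfsg.Agent.Grp.SchurM.Tails

open scoped commutatorElement

universe u v

variable {G : Type u} [Group G]

/-- A Sylow subgroup with a presentation and a certificate leaving one commutator free. -/
structure SylowExp (G : Type u) [Group G] (p : ℕ) where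
  /-- the presentation -/
  P : PC
  /-- the generators -/
  e : ℕ → G
  /-- the conjugating elements -/
  gs : ℕ → G
  /-- conjugation data -/
  C : List Conj
  /-- the certificate -/
  K : Cert
  /-- the larger of the two commuting generators -/
  j : ℕ
  /-- the smaller of the two commuting generators -/
  i : ℕ
  prime_eq : P.p = p
  rels : ∀ j < P.n, ∀ i ≤ j, evL e (P.rule j i) = lhsV P e j i
  conj : ConjOK e gs C
  check : K.check P C = true
  lt : i < j
  lt_n : j < P.n
  free : K.free = tri j i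
  comm : P.rule j i = [i, j]
  /-- an exponent of the larger one -/
  m : ℕ
  pow : e j ^ m = 1
  card : p ^ P.n ≤ Nat.card (Subgroup.closure (e '' {k | k < P.n}))
  index : ¬ p ∣ (Subgroup.closure (e '' {k | k < P.n})).index

variable {p : ℕ}

/-- The commutator of two lifts, in the form of a tail. -/
def SylowExp.val {Δ : Type v} [Group Δ] (_S : SylowExp G p) (X Y : Δ) : Δ := (X * Y)⁻¹ * (Y * X)

theorem SylowExp.val_congr {Δ : Type v} [Group Δ] (S : SylowExp G p) {σ : Δ →* G} (hc : σ.ker ≤ Subgroup.center Δ)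
    {X X' Y Y' : Δ} (hX : σ X = σ X') (hY : σ Y = σ Y') : S.val X Y = S.val X' Y' := by
  have h : ∀ A B : Δ, S.val A B = ⁅B⁻¹, A⁻¹⁆ := fun A B => by
    simp only [SylowExp.val, commutatorElement_def]; group
  rw [h, h]
  exact Spor.Mult.bracket_congr hc (by rw [map_inv, map_inv, hY]) (by rw [map_inv, map_inv, hX])

/-- A stem kernel of exponent `p` is generated by that commutator. -/
theorem SylowExp.ker_le {Δ : Type v} [Group Δ] [Finite Δ] (hp : p.Prime) (S : SylowExp G p) (σ : Δ →* G)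
    (hσ : Cfsg.IsStemExtension σ) (hexp : ∀ z ∈ σ.ker, z ^ p = 1) {X Y : Δ} (hX : σ X = S.e S.i) (hY : σ Y = S.e S.j) :
    σ.ker ≤ Subgroup.zpowers (S.val X Y) := by
  intro k hk
  rcases eq_or_ne k 1 with rfl | hk1
  · exact one_mem _
  have := Fact.mk hp
  have hord : orderOf k = p := orderOf_eq_prime (hexp k hk) hk1
  obtain ⟨L, hL, hz⟩ := derived_bound_tail (P := S.P) (σ := σ) (e := S.e)
    ⟨hσ.2.1, fun z hz => by rw [S.prime_eq]; exact hexp z hz, by rw [S.prime_eq]; exact hp.pos, S.rels⟩ hσ.1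
    (by rw [S.prime_eq]; exact hp.one_lt) S.conj S.K S.check rfl (by rw [S.prime_eq]; exact S.card)
  have hmem := hz k hk (Spor.Mult.mem_derived_of_coprime _ (hσ.2.1 hk) (hσ.2.2 hk) (by
    have : Finite G := Finite.of_surjective σ hσ.1
    rw [hord, Subgroup.index_comap_of_surjective _ hσ.1]
    exact hp.coprime_iff_not_dvd.2 S.index))
  have htail : tailFn S.P L S.K.free = S.val X Y := by
    rw [S.free, tailFn_tri S.P L S.lt_n S.lt.le, lhsV, if_neg S.lt.ne, S.comm]
    rw [show evL L [S.i, S.j] = L S.i * L S.j by simp [evL]]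
    exact S.val_congr hσ.2.1 (by rw [hL, hX]) (by rw [hL, hY])
  rwa [htail] at hmem

variable [Finite G]

/-- A stem kernel is generated by a central element once every prime is covered. -/
theorem ker_le_of_cover {Δ : Type v} [Group Δ] [Finite Δ] (σ : Δ →* G) (hσ : Cfsg.IsStemExtension σ) {c : Δ}
    (hc : c ∈ σ.ker)
    (h : ∀ q, q.Prime → q ∣ Nat.card G → Nonempty (SylowCert G q) ∨
      ∃ (S : SylowExp G q) (X Y : Δ), σ X = S.e S.i ∧ σ Y = S.e S.j ∧ S.val X Y ∈ Subgroup.zpowers c) :
    σ.ker ≤ Subgroup.zpowers c := by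
  by_contra hne
  -- a prime `q` with `ker` not inside `⟨c⟩ ker^q`
  have hcm : ∀ a b : σ.ker, Commute a b := fun a b => Subtype.ext (Subgroup.mem_center_iff.1 (hσ.2.1 b.2) (a : Δ))
  letI : CommGroup σ.ker := { (inferInstance : Group σ.ker) with mul_comm := fun a b => (hcm a b).eq }
  set A : Subgroup σ.ker := (Subgroup.zpowers c).subgroupOf σ.ker with hA
  have hcard : Nat.card (σ.ker ⧸ A) ≠ 1 := fun e => hne fun z hz => by
    have hs : Subsingleton (σ.ker ⧸ A) := (Nat.card_eq_one_iff_unique.1 e).1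
    have := Subsingleton.elim (QuotientGroup.mk (s := A) (⟨z, hz⟩ : σ.ker)) 1
    exact Subgroup.mem_subgroupOf.1 ((QuotientGroup.eq_one_iff _).1 this)
  obtain ⟨q, hq, hdvd⟩ := Nat.exists_prime_and_dvd hcard
  have := Fact.mk hq
  let powQ : σ.ker →* Δ :=
    { toFun := fun z => (z : Δ) ^ q
      map_one' := by simp
      map_mul' := fun a b => by
        show ((a : Δ) * b) ^ q = _
        exact Commute.mul_pow (Subgroup.mem_center_iff.1 (hσ.2.1 b.2) (a : Δ)) q }
  set K := powQ.range ⊔ Subgroup.zpowers c with hK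
  have hKker : K ≤ σ.ker := by
    refine sup_le ?_ (Subgroup.zpowers_le.2 hc)
    rintro _ ⟨z, rfl⟩; exact pow_mem z.2 q
  haveI : K.Normal := ⟨fun n hn g => by
    rwa [Subgroup.mem_center_iff.1 (hσ.2.1 (hKker hn)) g, mul_inv_cancel_right]⟩
  have hnot : ¬ σ.ker ≤ K := by
    intro hle
    obtain ⟨z, hz⟩ := exists_prime_orderOf_dvd_card' q hdvd
    have hsurj : Function.Surjective fun w : σ.ker ⧸ A => w ^ q := by
      intro w
      induction w using QuotientGroup.induction_on with
      | _ y =>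
        haveI : (Subgroup.zpowers c).Normal := ⟨fun n hn g => by
          rwa [Subgroup.mem_center_iff.1 (hσ.2.1 ((Subgroup.zpowers_le.2 hc) hn)) g, mul_inv_cancel_right]⟩
        obtain ⟨a, ⟨v, rfl⟩, b, hb, he⟩ := Subgroup.mem_sup_of_normal_right.1 (hle y.2)
        refine ⟨QuotientGroup.mk v, ?_⟩
        show (QuotientGroup.mk v : σ.ker ⧸ A) ^ q = QuotientGroup.mk y
        rw [← QuotientGroup.mk_pow, QuotientGroup.eq, hA, Subgroup.mem_subgroupOf]
        have : ((↑((v ^ q)⁻¹ * y) : σ.ker) : Δ) = b := by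
          rw [Subgroup.coe_mul, Subgroup.coe_inv, Subgroup.coe_pow, ← he]
          show ((v : Δ) ^ q)⁻¹ * ((v : Δ) ^ q * b) = b
          rw [inv_mul_cancel_left]
        rwa [this]
    have hinj := Finite.injective_iff_surjective.2 hsurj
    have h1 : z = 1 := hinj (show z ^ q = (1 : σ.ker ⧸ A) ^ q by rw [one_pow, ← hz, pow_orderOf_eq_one])
    rw [h1, orderOf_one] at hz
    exact hq.ne_one hz.symm
  let τ := QuotientGroup.lift K σ hKker
  have hτ : Cfsg.IsStemExtension τ := by
    refine ⟨fun x => ?_, ?_, ?_⟩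
    · obtain ⟨y, rfl⟩ := hσ.1 x; exact ⟨QuotientGroup.mk y, rfl⟩
    · intro x hx
      induction x using QuotientGroup.induction_on with
      | _ y =>
        refine Subgroup.mem_center_iff.2 fun r => ?_
        induction r using QuotientGroup.induction_on with
        | _ g => rw [← QuotientGroup.mk_mul, ← QuotientGroup.mk_mul, Subgroup.mem_center_iff.1 (hσ.2.1 hx) g]
    · intro x hx
      induction x using QuotientGroup.induction_on with
      | _ y =>
        have : QuotientGroup.mk' K y ∈ (commutator Δ).map (QuotientGroup.mk' K) := ⟨y, hσ.2.2 hx, rfl⟩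
        have hle : (commutator Δ).map (QuotientGroup.mk' K) ≤ commutator (Δ ⧸ K) := by
          rw [commutator_def, Subgroup.map_commutator]; exact Subgroup.commutator_mono le_top le_top
        exact hle this
  have hexp : ∀ x ∈ τ.ker, x ^ q = 1 := fun x hx => by
    induction x using QuotientGroup.induction_on with
    | _ y =>
      rw [← QuotientGroup.mk_pow]
      exact (QuotientGroup.eq_one_iff _).2 (Subgroup.mem_sup_left ⟨⟨y, hx⟩, rfl⟩)
  have hbot : τ.ker = ⊥ := by
    by_cases hd : q ∣ Nat.card G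
    · rcases h q hq hd with ⟨⟨T⟩⟩ | ⟨S, X, Y, hX, hY, hval⟩
      · exact T.ker_eq_bot hq τ hτ hexp
      · have h1 := S.ker_le hq τ hτ hexp (X := QuotientGroup.mk X) (Y := QuotientGroup.mk Y) hX hY
        have h2 : S.val (QuotientGroup.mk X : Δ ⧸ K) (QuotientGroup.mk Y) = QuotientGroup.mk (S.val X Y) := by
          simp only [SylowExp.val, QuotientGroup.mk_mul, QuotientGroup.mk_inv]
        rw [h2, (QuotientGroup.eq_one_iff (S.val X Y)).2 (Subgroup.mem_sup_right hval),
          Subgroup.zpowers_one_eq_bot] at h1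
        exact le_bot_iff.1 h1
    · rw [eq_bot_iff]
      intro k hk
      rcases eq_or_ne k 1 with rfl | hk1
      · exact one_mem _
      exfalso
      refine Spor.Mult.no_elt_of_comm ((⊥ : Subgroup G).comap τ) (fun x hx y hy => ?_) hq
        (orderOf_eq_prime (hexp k hk) hk1) (Spor.Mult.mem_derived_of_coprime _ (hτ.2.1 hk) (hτ.2.2 hk) ?_)
      · rw [MonoidHom.comap_bot] at hx
        exact (Subgroup.mem_center_iff.1 (hτ.2.1 hx) y).symm
      · rw [orderOf_eq_prime (hexp k hk) hk1, Subgroup.index_comap_of_surjective _ hτ.1, Subgroup.index_bot]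
        exact hq.coprime_iff_not_dvd.2 hd
  refine hnot fun z hz => (QuotientGroup.eq_one_iff z).1 ?_
  have : (QuotientGroup.mk z : Δ ⧸ K) ∈ τ.ker := hz
  rwa [hbot, Subgroup.mem_bot] at this


/-- The commutator of lifts lies in the kernel and its order divides the given exponent. -/
theorem SylowExp.exists_val {Δ : Type v} [Group Δ] (S : SylowExp G p) (σ : Δ →* G)
    (hσ : Cfsg.IsStemExtension σ) : ∃ X Y : Δ, σ X = S.e S.i ∧ σ Y = S.e S.j ∧ S.val X Y ∈ σ.ker ∧
      S.val X Y ^ S.m = 1 := by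
  obtain ⟨X, hX⟩ := hσ.1 (S.e S.i)
  obtain ⟨Y, hY⟩ := hσ.1 (S.e S.j)
  set c := S.val X Y with hcdef
  have hrel := S.rels S.j S.lt_n S.i S.lt.le
  rw [S.comm, lhsV, if_neg S.lt.ne, show evL S.e [S.i, S.j] = S.e S.i * S.e S.j by simp [evL]] at hrel
  have hc : c ∈ σ.ker := by
    rw [MonoidHom.mem_ker, hcdef, SylowExp.val, map_mul, map_inv, map_mul, map_mul, hX, hY, hrel, inv_mul_cancel]
  have hcc : ∀ v, v * c = c * v := Subgroup.mem_center_iff.1 (hσ.2.1 hc)
  have hswap : Y * X = X * Y * c := by rw [hcdef, SylowExp.val, mul_inv_cancel_left]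
  have hpowc : ∀ m : ℕ, Y ^ m * X = X * Y ^ m * c ^ m := by
    intro m
    induction m with
    | zero => simp
    | succ m ih =>
      have hcy : Commute (Y ^ m) c := hcc _
      calc Y ^ (m + 1) * X = Y * (Y ^ m * X) := by rw [pow_succ', mul_assoc]
        _ = Y * X * Y ^ m * c ^ m := by rw [ih]; group
        _ = X * Y * (Y ^ m * c) * c ^ m := by rw [hswap, hcy.eq]; group
        _ = X * Y ^ (m + 1) * c ^ (m + 1) := by rw [pow_succ' Y, pow_succ' c]; group
  have hYp : Y ^ S.m ∈ σ.ker := by rw [MonoidHom.mem_ker, map_pow, hY, S.pow]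
  have hcp : c ^ S.m = 1 := by
    have h1 := hpowc S.m
    rw [← Subgroup.mem_center_iff.1 (hσ.2.1 hYp) X] at h1
    exact mul_left_cancel (h1.symm.trans (mul_one _).symm)
  exact ⟨X, Y, hX, hY, hc, hcp⟩

/-- Every stem kernel is generated by the commutator, whose order divides its exponent. -/
theorem exists_gen_of_exp (S : SylowExp G p)
    (h : ∀ q, q.Prime → q ≠ p → q ∣ Nat.card G → Nonempty (SylowCert G q)) {Δ : Type v} [Group Δ] [Finite Δ]
    (σ : Δ →* G) (hσ : Cfsg.IsStemExtension σ) : ∃ c ∈ σ.ker, c ^ S.m = 1 ∧ σ.ker ≤ Subgroup.zpowers c := by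
  obtain ⟨X, Y, hX, hY, hc, hcm⟩ := S.exists_val σ hσ
  refine ⟨_, hc, hcm, ker_le_of_cover σ hσ hc fun q hq hd => ?_⟩
  by_cases hqp : q = p
  · subst hqp
    exact Or.inr ⟨S, X, Y, hX, hY, Subgroup.mem_zpowers _⟩
  · exact Or.inl (h q hq hqp hd)

/-- With commutators free at two primes, of coprime exponents, the kernel is generated by their product. -/
theorem exists_gen_of_two {r : ℕ} (S : SylowExp G p) (T : SylowExp G r) (hco : S.m.Coprime T.m)
    (h : ∀ q, q.Prime → q ≠ p → q ≠ r → q ∣ Nat.card G → Nonempty (SylowCert G q)) {Δ : Type v} [Group Δ] [Finite Δ]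
    (σ : Δ →* G) (hσ : Cfsg.IsStemExtension σ) :
    ∃ c ∈ σ.ker, c ^ (S.m * T.m) = 1 ∧ σ.ker ≤ Subgroup.zpowers c := by
  obtain ⟨X, Y, hX, hY, ha, ham⟩ := S.exists_val σ hσ
  obtain ⟨U, W, hU, hW, hb, hbm⟩ := T.exists_val σ hσ
  set a := S.val X Y
  set b := T.val U W
  have hab : Commute a b := Subgroup.mem_center_iff.1 (hσ.2.1 hb) a
  have key : ∀ {x y : Δ} {m n : ℕ}, Commute x y → x ^ m = 1 → y ^ n = 1 → m.Coprime n →
      x ∈ Subgroup.zpowers (x * y) := by
    intro x y m n hxy hx hy hmn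
    obtain ⟨k, hk1, hk2⟩ := Nat.chineseRemainder hmn 1 0
    refine ⟨k, ?_⟩
    show (x * y) ^ ((k : ℕ) : ℤ) = x
    rw [zpow_natCast, hxy.mul_pow,
      pow_eq_pow_iff_modEq.2 (hk1.of_dvd (orderOf_dvd_of_pow_eq_one hx)),
      pow_eq_pow_iff_modEq.2 (hk2.of_dvd (orderOf_dvd_of_pow_eq_one hy)), pow_one, pow_zero, mul_one]
  refine ⟨a * b, mul_mem ha hb, ?_, ker_le_of_cover σ hσ (mul_mem ha hb) fun q hq hd => ?_⟩
  · rw [hab.mul_pow, pow_mul, ham, one_pow, one_mul, mul_comm, pow_mul, hbm, one_pow]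
  by_cases hqp : q = p
  · subst hqp
    exact Or.inr ⟨S, X, Y, hX, hY, key hab ham hbm hco⟩
  by_cases hqr : q = r
  · subst hqr
    exact Or.inr ⟨T, U, W, hU, hW, hab.eq ▸ key hab.symm hbm ham hco.symm⟩
  · exact Or.inl (h q hq hqp hqr hd)

namespace TableCert

open Cfsg.Agent.Spor.Cos

variable {S : TableCert} {A : Act} {base : List ℕ} {G : Type*} [Group G] {g : ℕ → G}
  {π : G →* Equiv.Perm (Fin A.N)}

/-- The certificate gives a Sylow certificate with one free commutator of any order. -/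
theorem sylowExp_m (hA : A.Hom g π) (hb : ∀ b ∈ base, b < A.N)
    (det : ∀ y : G, (∀ q : Fin A.N, (q : ℕ) ∈ base → π y q = q) → y = 1) [Finite G] {p N : ℕ} (hN : Nat.card G = N)
    (hp : S.P.p = p) (hp0 : 0 < p) (hr : S.chkRel A base = true) (hc : S.chkCard A base = true)
    (hk : S.K.check S.P S.C = true) {j i : ℕ} (hji : i < j ∧ j < S.P.n)
    (hf : S.K.free = tri j i) (hcm : S.P.rule j i = [i, j]) {m : ℕ} (hpj : ev g (S.flat (List.replicate m j)) = 1) (hi : N / p ^ S.P.n % p ≠ 0) :
    ∃ T : SylowExp G p, T.m = m := by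
  simp only [chkRel, Bool.and_eq_true, List.all_eq_true, List.mem_range] at hr
  obtain ⟨⟨⟨hl1, hl2⟩, hrels⟩, hconj⟩ := hr
  simp only [chkCard, Bool.and_eq_true, List.all_eq_true] at hc
  obtain ⟨⟨hlt, hlen⟩, hinc⟩ := hc
  have hfl := fun w => letters_flat (S := S) hl1 w
  have rels : ∀ j < S.P.n, ∀ i ≤ j, evL (S.elem g) (S.P.rule j i) = lhsV S.P (S.elem g) j i := by
    intro j hj i hij
    have h := eq_of_agree hA hb det (hfl _) (hfl _) (hrels j hj i (Nat.lt_succ_of_le hij))
    rw [ev_flat, ev_flat] at h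
    rw [h, lhsV, PC.lhs]
    split_ifs
    · next he => subst he; exact evL_replicate (S.elem g) _ _
    · simp [evL]
  set H := Subgroup.closure (S.elem g '' {k | k < S.P.n})
  have hwf : S.P.wellFormed = true := by
    have h := hk
    simp only [Cert.check, Bool.and_eq_true] at h
    exact h.1.1.1
  have hpp : 0 < S.P.p := hp ▸ hp0
  have hup : Nat.card H ≤ p ^ S.P.n := by
    have h := card_upper (P := S.P) hwf hpp (S.elem g) (z := (1 : G)) (one_mem _)
      (fun j hj i hij => by rw [rels j hj i hij, inv_mul_cancel]; exact one_mem _) _ _ (zero_add _)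
    rw [Subgroup.zpowers_one_eq_bot, Subgroup.card_bot, one_mul, hp] at h
    refine le_trans (le_of_eq ?_) h
    rw [upper, Set.singleton_union, Subgroup.closure_insert_one]
    simp only [Nat.zero_le, true_and]
    rfl
  have hdown : p ^ S.P.n ≤ Nat.card H := by
    obtain ⟨-, hpw⟩ := inc_pairwise hinc
    have hnd : (S.els.map (evL (S.elem g))).Nodup := by
      refine List.pairwise_map.2 (hpw.imp fun {u v} huv he => huv.ne ?_)
      refine code_eq_code fun b hb' => ?_
      rw [← hA.apply_ev _ (hfl u) ⟨b, hb b hb'⟩, ← hA.apply_ev _ (hfl v) ⟨b, hb b hb'⟩, ev_flat, ev_flat, he]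
    have hmem : ∀ x ∈ S.els.map (evL (S.elem g)), x ∈ H := by
      intro x hx
      obtain ⟨w, hw, rfl⟩ := List.mem_map.1 hx
      exact evL_mem fun k hk => Subgroup.subset_closure ⟨k, Nat.le_of_ble_eq_true (hlt w hw k hk), rfl⟩
    have hcard : Nat.card (Fin (S.els.map (evL (S.elem g))).length) ≤ Nat.card H :=
      Nat.card_le_card_of_injective (fun i => ⟨_, hmem _ (List.getElem_mem i.2)⟩) fun i j hij =>
        Fin.ext (hnd.getElem_inj_iff.1 (Subtype.ext_iff.1 hij))
    rwa [Nat.card_fin, List.length_map, Nat.eq_of_beq_eq_true hlen, hp] at hcard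
  have hpow : S.elem g j ^ m = 1 := by
    rw [← hpj, ev_flat]; exact (evL_replicate (S.elem g) _ _).symm
  refine ⟨⟨S.P, S.elem g, fun m => ev g (S.gws.getD m []), S.C, S.K, j, i, hp, rels, fun c hc' => ?_, hk, hji.1,
    hji.2, hf, hcm, m, hpow, hdown,
    fun hdvd => hi ?_⟩, rfl⟩
  · have h := eq_of_agree hA hb det (u := S.gws.getD c.1 [] ++ S.flat c.2.1)
      (v := S.flat c.2.2 ++ S.gws.getD c.1 [])
      (fun s hs => (List.mem_append.1 hs).elim (letters_getD hl2 _ s) (hfl _ s))
      (fun s hs => (List.mem_append.1 hs).elim (hfl _ s) (letters_getD hl2 _ s)) (hconj c hc')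
    rwa [ev_append, ev_append, ev_flat, ev_flat] at h
  · have hH : Nat.card H = p ^ S.P.n := le_antisymm hup hdown
    have hmul := H.card_mul_index
    rw [hH, hN] at hmul
    rw [← hmul, Nat.mul_div_cancel_left _ (pow_pos (hp ▸ hpp) _)]
    exact Nat.dvd_iff_mod_eq_zero.1 hdvd

end TableCert

end Cfsg.Agent.Grp.SchurM.Tails
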