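import Cfsg.Agent.Lib.Grp.SchurM.TailSection

/-! The bound by a certificate with an exceptional rule, keeping the lifts. -/

set_option autoImplicit false

namespace Cfsg.Agent.Grp.SchurM.Tails

open scoped commutatorElement

variable {Γ G : Type*} [Group Γ] [Group G] [Finite Γ] {P : PC} {σ : Γ →* G} {e : ℕ → G}

/-- The kernel meets the derived group of the preimage in powers of the exceptional tail. -/
theorem derived_bound_tail (hS : Setting P σ e) (hsurj : Function.Surjective σ) (hp : 1 < P.p) {gs : ℕ → G} {C : List Conj}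
    (hC : ConjOK e gs C) (K : Cert) (hK : K.check P C = true) {Q : Subgroup G}
    (hQ : Q = Subgroup.closure (e '' {k | k < P.n})) (hcard : P.p ^ P.n ≤ Nat.card Q) :
    ∃ L : ℕ → Γ, IsLift σ e L ∧
      ∀ k ∈ σ.ker, k ∈ ⁅Q.comap σ, Q.comap σ⁆ → k ∈ Subgroup.zpowers (tailFn P L K.free) := by
  have : Finite G := Finite.of_surjective σ hsurj
  have hwf : P.wellFormed = true := by
    have h := hK
    simp only [Cert.check, Bool.and_eq_true] at h
    exact h.1.1.1
  obtain ⟨L, hL, hmem⟩ := tails_mem hS hsurj hp hC K hK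
  set z := tailFn P L K.free
  have hzk : z ∈ σ.ker := tailFn_ker hS hL _
  refine ⟨L, hL, fun k hk hkd => ?_⟩
  have hzc := hS.central hzk
  set H := upper L z P.n 0
  have hH : Nat.card H ≤ Nat.card (Subgroup.zpowers z) * P.p ^ P.n :=
    card_upper hwf hS.pos L hzc (fun j hj i hi => tailFn_tri P L hj hi ▸ hmem _ (tri_bound hj hi)) _ _ (zero_add _)
  have hmap : H.map σ = Q := by
    rw [hQ, show H = Subgroup.closure ({z} ∪ L '' {k | 0 ≤ k ∧ k < P.n}) from rfl, MonoidHom.map_closure]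
    refine le_antisymm ((Subgroup.closure_le _).2 ?_) ((Subgroup.closure_le _).2 ?_)
    · rintro _ ⟨x, hx | ⟨j, hj, rfl⟩, rfl⟩
      · rw [Set.mem_singleton_iff.1 hx, MonoidHom.mem_ker.1 hzk]; exact one_mem _
      · rw [hL]; exact Subgroup.subset_closure ⟨j, hj.2, rfl⟩
    · rintro _ ⟨j, hj, rfl⟩
      exact Subgroup.subset_closure ⟨L j, Or.inr ⟨j, ⟨Nat.zero_le j, hj⟩, rfl⟩, hL j⟩
  -- the kernel inside the lift is generated by the exceptional tail
  set f := σ.comp H.subtype
  have hcardk : Nat.card f.ker ≤ Nat.card (Subgroup.zpowers z) := by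
    have h1 := Subgroup.card_mul_index f.ker
    rw [Subgroup.index_ker, show f.range = Q by rw [MonoidHom.range_comp, Subgroup.range_subtype, hmap]] at h1
    have h2 : Nat.card f.ker * Nat.card Q ≤ Nat.card (Subgroup.zpowers z) * Nat.card Q :=
      (h1 ▸ hH).trans (Nat.mul_le_mul_left _ hcard)
    exact Nat.le_of_mul_le_mul_right h2 Nat.card_pos
  have hzH : Subgroup.zpowers z ≤ f.ker.map H.subtype := by
    rw [Subgroup.zpowers_le]
    exact ⟨⟨z, Subgroup.subset_closure (Or.inl rfl)⟩, hzk, rfl⟩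
  have heq : Subgroup.zpowers z = f.ker.map H.subtype :=
    Subgroup.eq_of_le_of_card_ge hzH (by rw [Subgroup.card_map_of_injective H.subtype_injective]; exact hcardk)
  show k ∈ Subgroup.zpowers z
  rw [heq]
  have hle : ⁅Q.comap σ, Q.comap σ⁆ ≤ H := by
    refine Subgroup.commutator_le.2 fun x hx y hy => ?_
    rw [Subgroup.mem_comap, ← hmap] at hx hy
    obtain ⟨s, hs, hsx⟩ := hx
    obtain ⟨t, ht, hty⟩ := hy
    have cx : ∀ v, Commute v (x * s⁻¹) := fun v => Subgroup.mem_center_iff.1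
      (hS.central (by rw [MonoidHom.mem_ker, map_mul, map_inv, hsx, mul_inv_cancel])) v
    have cy : ∀ v, Commute v (y * t⁻¹) := fun v => Subgroup.mem_center_iff.1
      (hS.central (by rw [MonoidHom.mem_ker, map_mul, map_inv, hty, mul_inv_cancel])) v
    have e1 : ⁅x, y⁆ = ⁅s, y⁆ := by
      rw [show x = (x * s⁻¹) * s by group, show ⁅x * s⁻¹ * s, y⁆ = (x * s⁻¹) * ⁅s, y⁆ * (x * s⁻¹)⁻¹ * ⁅x * s⁻¹, y⁆ by
        simp only [commutatorElement_def]; group, ← (cx _).eq, mul_inv_cancel_right,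
        commutatorElement_eq_one_iff_commute.2 (cx y).symm, mul_one]
    have e2 : ⁅s, y⁆ = ⁅s, t⁆ := by
      rw [show y = (y * t⁻¹) * t by group, show ⁅s, y * t⁻¹ * t⁆ = ⁅s, y * t⁻¹⁆ * ((y * t⁻¹) * ⁅s, t⁆ * (y * t⁻¹)⁻¹) by
        simp only [commutatorElement_def]; group, commutatorElement_eq_one_iff_commute.2 (cy s),
        ← (cy _).eq, mul_inv_cancel_right, one_mul]
    rw [e1, e2, commutatorElement_def]
    exact mul_mem (mul_mem (mul_mem hs ht) (inv_mem hs)) (inv_mem ht)
  exact ⟨⟨k, hle hkd⟩, hk, rfl⟩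

end Cfsg.Agent.Grp.SchurM.Tails
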