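import Cfsg.Agent.Lib.Grp.SchurM.TailCert
import Cfsg.Agent.Lib.Spor.Cos.Act

/-! Certificates for groups given by words in generators acting on points through a table. -/

set_option autoImplicit false

open Cfsg.Agent.Spor.Cos

namespace Cfsg.Agent.Grp.SchurM.Tails

/-- A Sylow certificate in words. -/
structure TableCert where
  /-- the presentation -/
  P : PC
  /-- words of the generators -/
  ews : List (List ℕ)
  /-- words of the conjugating elements -/
  gws : List (List ℕ)
  /-- conjugation data -/
  C : List Conj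
  /-- the certificate -/
  K : Cert
  /-- all elements as words in the generators of the presentation -/
  els : List (List ℕ)

namespace TableCert

variable (S : TableCert) (A : Act) (base : List ℕ)

/-- A word of the presentation in the group's generators. -/
def flat (w : List ℕ) : List ℕ := w.flatMap fun k => S.ews.getD k []

/-- The elements of the presentation. -/
def elem {G : Type*} [Group G] (g : ℕ → G) (k : ℕ) : G := ev g (S.ews.getD k [])

/-- Two words agree on the base. -/
noncomputable def agree (u v : List ℕ) : Bool := base.all fun b => Nat.beq (A.go u b) (A.go v b)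

/-- The relations and conjugations hold on the base. -/
noncomputable def chkRel : Bool :=
  Act.lettersOk A.n S.ews && Act.lettersOk A.n S.gws &&
    ((List.range S.P.n).all fun j => (List.range (j + 1)).all fun i =>
      agree A base (S.flat (S.P.rule j i)) (S.flat (S.P.lhs j i))) &&
    S.C.all fun c => agree A base (S.gws.getD c.1 [] ++ S.flat c.2.1) (S.flat c.2.2 ++ S.gws.getD c.1 [])

/-- The base image as a number. -/
noncomputable def code (w : List ℕ) : ℕ :=
  List.rec (motive := fun _ => ℕ) 0 (fun b _ r => r * 65536 + A.go w b) base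

/-- Increasing codes. -/
noncomputable def inc : List (List ℕ) → ℕ → Bool :=
  fun l => List.rec (motive := fun _ => ℕ → Bool) (fun _ => true)
    (fun w _ r prev => force (code A base (S.flat w)) fun k => Nat.blt prev (k + 1) && r (k + 1)) l

/-- The elements are distinct and enough. -/
noncomputable def chkCard : Bool :=
  S.els.all (fun w => w.all fun k => Nat.blt k S.P.n) && Nat.beq S.els.length (S.P.p ^ S.P.n) &&
    S.inc A base S.els 0

variable {S A base}

theorem inc_pairwise : ∀ {l : List (List ℕ)} {prev : ℕ}, S.inc A base l prev = true →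
    (∀ w ∈ l, prev ≤ code A base (S.flat w)) ∧ l.Pairwise fun u v => code A base (S.flat u) < code A base (S.flat v)
  | [], _, _ => ⟨by simp, List.Pairwise.nil⟩
  | w :: l, prev, h => by
    simp only [inc, force_eq, Bool.and_eq_true] at h
    have h1 : prev < code A base (S.flat w) + 1 := Nat.le_of_ble_eq_true h.1
    obtain ⟨h2, h3⟩ := inc_pairwise (l := l) (prev := code A base (S.flat w) + 1) (by simpa only [inc, force_eq] using h.2)
    refine ⟨?_, List.pairwise_cons.2 ⟨fun v hv => h2 v hv, h3⟩⟩
    intro v hv
    rcases List.mem_cons.1 hv with rfl | hv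
    · omega
    · have := h2 v hv; omega

variable {G : Type*} [Group G] {g : ℕ → G} {π : G →* Equiv.Perm (Fin A.N)}

theorem ev_flat (w : List ℕ) : ev g (S.flat w) = evL (S.elem g) w := by
  induction w with
  | nil => rfl
  | cons a w ih =>
    rw [show S.flat (a :: w) = S.ews.getD a [] ++ S.flat w from List.flatMap_cons, ev_append, ih, evL_cons]
    rfl

theorem letters_getD {n : ℕ} {ws : List (List ℕ)} (h : Act.lettersOk n ws = true) (k : ℕ) :
    ∀ s ∈ ws.getD k [], s < n := by
  rcases lt_or_ge k ws.length with hk | hk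
  · rw [List.getD_eq_getElem _ _ hk]
    exact Act.lt_of_lettersOk h (List.getElem_mem hk)
  · rw [List.getD_eq_default _ _ hk]; simp

theorem letters_flat {n : ℕ} (h : Act.lettersOk n S.ews = true) (w : List ℕ) : ∀ s ∈ S.flat w, s < n := by
  intro s hs
  obtain ⟨k, -, hk⟩ := List.mem_flatMap.1 hs
  exact letters_getD h k s hk

theorem eq_of_agree (hA : A.Hom g π) (hb : ∀ b ∈ base, b < A.N)
    (det : ∀ y : G, (∀ q : Fin A.N, (q : ℕ) ∈ base → π y q = q) → y = 1) {u v : List ℕ} (hu : ∀ s ∈ u, s < A.n)
    (hv : ∀ s ∈ v, s < A.n) (h : agree A base u v = true) : ev g u = ev g v := by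
  refine (inv_mul_eq_one.1 (det ((ev g v)⁻¹ * ev g u) fun q hq => ?_)).symm
  have hq' : A.go u q = A.go v q := Nat.eq_of_beq_eq_true (List.all_eq_true.1 h (q : ℕ) hq)
  have e : π (ev g u) q = π (ev g v) q :=
    Fin.ext ((hA.apply_ev u hu q).trans (hq'.trans (hA.apply_ev v hv q).symm))
  rw [map_mul, map_inv, Equiv.Perm.mul_apply, e, Equiv.Perm.inv_def, Equiv.symm_apply_apply]

theorem code_eq_code {u v : List ℕ} (h : ∀ b ∈ base, A.go u b = A.go v b) : code A base u = code A base v := by
  induction base with
  | nil => rfl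
  | cons b l ih =>
    simp only [code] at ih ⊢
    rw [ih fun c hc => h c (List.mem_cons_of_mem _ hc), h b List.mem_cons_self]

/-- The certificate gives a Sylow certificate. -/
theorem sylowCert (hA : A.Hom g π) (hb : ∀ b ∈ base, b < A.N)
    (det : ∀ y : G, (∀ q : Fin A.N, (q : ℕ) ∈ base → π y q = q) → y = 1) [Finite G] {p N : ℕ} (hN : Nat.card G = N)
    (hp : S.P.p = p) (hp0 : 0 < p) (hr : S.chkRel A base = true) (hc : S.chkCard A base = true)
    (hk : S.K.check S.P S.C = true) (hf : S.P.R ≤ S.K.free) (hi : N / p ^ S.P.n % p ≠ 0) :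
    Nonempty (SylowCert G p) := by
  simp only [chkRel, Bool.and_eq_true, List.all_eq_true, List.mem_range] at hr
  obtain ⟨⟨⟨hl1, hl2⟩, hrels⟩, hconj⟩ := hr
  simp only [chkCard, Bool.and_eq_true, List.all_eq_true] at hc
  obtain ⟨⟨hlt, hlen⟩, hinc⟩ := hc
  have hfl := fun w => letters_flat (S := S) hl1 w
  have rels : ∀ j < S.P.n, ∀ i ≤ j, evL (S.elem g) (S.P.rule j i) = lhsV S.P (S.elem g) j i := by
    intro j hj i hij
    have h := eq_of_agree hA hb det (hfl _) (hfl _) (hrels j hj i (Nat.lt_succ_of_le hij))
    rw [ev_flat, ev_flat] at h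
    rw [h, lhsV, PC.lhs]
    split_ifs
    · next he => subst he; exact evL_replicate (S.elem g) _ _
    · simp [evL]
  set H := Subgroup.closure (S.elem g '' {k | k < S.P.n})
  have hwf : S.P.wellFormed = true := by
    have h := hk
    simp only [Cert.check, Bool.and_eq_true] at h
    exact h.1.1.1
  have hpp : 0 < S.P.p := hp ▸ hp0
  have hup : Nat.card H ≤ p ^ S.P.n := by
    have h := card_upper (P := S.P) hwf hpp (S.elem g) (z := (1 : G)) (one_mem _)
      (fun j hj i hij => by rw [rels j hj i hij, inv_mul_cancel]; exact one_mem _) _ _ (zero_add _)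
    rw [Subgroup.zpowers_one_eq_bot, Subgroup.card_bot, one_mul, hp] at h
    refine le_trans (le_of_eq ?_) h
    rw [upper, Set.singleton_union, Subgroup.closure_insert_one]
    simp only [Nat.zero_le, true_and]
    rfl
  have hdown : p ^ S.P.n ≤ Nat.card H := by
    obtain ⟨-, hpw⟩ := inc_pairwise hinc
    have hnd : (S.els.map (evL (S.elem g))).Nodup := by
      refine List.pairwise_map.2 (hpw.imp fun {u v} huv he => huv.ne ?_)
      refine code_eq_code fun b hb' => ?_
      rw [← hA.apply_ev _ (hfl u) ⟨b, hb b hb'⟩, ← hA.apply_ev _ (hfl v) ⟨b, hb b hb'⟩, ev_flat, ev_flat, he]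
    have hmem : ∀ x ∈ S.els.map (evL (S.elem g)), x ∈ H := by
      intro x hx
      obtain ⟨w, hw, rfl⟩ := List.mem_map.1 hx
      exact evL_mem fun k hk => Subgroup.subset_closure ⟨k, Nat.le_of_ble_eq_true (hlt w hw k hk), rfl⟩
    have hcard : Nat.card (Fin (S.els.map (evL (S.elem g))).length) ≤ Nat.card H :=
      Nat.card_le_card_of_injective (fun i => ⟨_, hmem _ (List.getElem_mem i.2)⟩) fun i j hij =>
        Fin.ext (hnd.getElem_inj_iff.1 (Subtype.ext_iff.1 hij))
    rwa [Nat.card_fin, List.length_map, Nat.eq_of_beq_eq_true hlen, hp] at hcard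
  refine ⟨⟨S.P, S.elem g, fun m => ev g (S.gws.getD m []), S.C, S.K, hp, rels, fun c hc' => ?_, hk, hf, hdown,
    fun hdvd => hi ?_⟩⟩
  · have h := eq_of_agree hA hb det (u := S.gws.getD c.1 [] ++ S.flat c.2.1)
      (v := S.flat c.2.2 ++ S.gws.getD c.1 [])
      (fun s hs => (List.mem_append.1 hs).elim (letters_getD hl2 _ s) (hfl _ s))
      (fun s hs => (List.mem_append.1 hs).elim (hfl _ s) (letters_getD hl2 _ s)) (hconj c hc')
    rwa [ev_append, ev_append, ev_flat, ev_flat] at h
  · have hH : Nat.card H = p ^ S.P.n := le_antisymm hup hdown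
    have hmul := H.card_mul_index
    rw [hH, hN] at hmul
    rw [← hmul, Nat.mul_div_cancel_left _ (pow_pos (hp ▸ hpp) _)]
    exact Nat.dvd_iff_mod_eq_zero.1 hdvd

end TableCert
end Cfsg.Agent.Grp.SchurM.Tails
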