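import Cfsg.Agent.Lib.Grp.SchurM.TailPair
import Cfsg.Agent.Lib.Grp.SchurM.TailExp

/-! Stem kernels covered prime by prime, with one or two free commutators of any order. -/

set_option autoImplicit false
set_option linter.style.haveILetI false

namespace Cfsg.Agent.Grp.SchurM.Tails

open scoped commutatorElement

universe u v

variable {G : Type u} [Group G]

/-- A Sylow subgroup with a certificate leaving two commutators free. -/
structure SylowPairExp (G : Type u) [Group G] (p : ℕ) where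
  /-- the presentation -/
  P : PC
  /-- the generators -/
  e : ℕ → G
  /-- the conjugating elements -/
  gs : ℕ → G
  /-- conjugation data -/
  C : List Conj
  /-- the certificate -/
  K : Cert
  /-- the larger of the first pair -/
  j : ℕ
  /-- the smaller of the first pair -/
  i : ℕ
  /-- the larger of the second pair -/
  j' : ℕ
  /-- the smaller of the second pair -/
  i' : ℕ
  prime_eq : P.p = p
  rels : ∀ j < P.n, ∀ i ≤ j, evL e (P.rule j i) = lhsV P e j i
  conj : ConjOK e gs C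
  lt : i < j
  lt_n : j < P.n
  comm : P.rule j i = [i, j]
  /-- an exponent of the larger generators -/
  m : ℕ
  pow : e j ^ m = 1
  lt' : i' < j'
  lt_n' : j' < P.n
  comm' : P.rule j' i' = [i', j']
  pow' : e j' ^ m = 1
  check : K.checkPair P C (tri j i) (tri j' i') = true
  card : p ^ P.n ≤ Nat.card (Subgroup.closure (e '' {k | k < P.n}))
  index : ¬ p ∣ (Subgroup.closure (e '' {k | k < P.n})).index

variable {p : ℕ}

/-- A stem kernel of exponent `p` is trivial once both commutators are. -/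
theorem SylowPairExp.ker_eq_bot {Δ : Type v} [Group Δ] [Finite Δ] (hp : p.Prime) (S : SylowPairExp G p) (σ : Δ →* G)
    (hσ : Cfsg.IsStemExtension σ) (hexp : ∀ z ∈ σ.ker, z ^ p = 1) {X Y X' Y' : Δ} (hX : σ X = S.e S.i)
    (hY : σ Y = S.e S.j) (hX' : σ X' = S.e S.i') (hY' : σ Y' = S.e S.j') (hc : cval X Y = 1)
    (hd : cval X' Y' = 1) : σ.ker = ⊥ := by
  rw [eq_bot_iff]
  intro k hk
  rcases eq_or_ne k 1 with rfl | hk1
  · exact one_mem _
  have := Fact.mk hp
  have hord : orderOf k = p := orderOf_eq_prime (hexp k hk) hk1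
  have hz := derived_bound_pair (P := S.P) (σ := σ) (e := S.e)
    ⟨hσ.2.1, fun z hz => by rw [S.prime_eq]; exact hexp z hz, by rw [S.prime_eq]; exact hp.pos, S.rels⟩ hσ.1
    (by rw [S.prime_eq]; exact hp.one_lt) S.conj S.K S.check (fun L hL => ⟨?_, ?_⟩) rfl
    (by rw [S.prime_eq]; exact S.card)
  · exact Subgroup.mem_bot.2 (hz k hk (Spor.Mult.mem_derived_of_coprime _ (hσ.2.1 hk) (hσ.2.2 hk) (by
      have : Finite G := Finite.of_surjective σ hσ.1
      rw [hord, Subgroup.index_comap_of_surjective _ hσ.1]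
      exact hp.coprime_iff_not_dvd.2 S.index)))
  · rw [tailFn_tri S.P L S.lt_n S.lt.le, lhsV, if_neg S.lt.ne, S.comm,
      show evL L [S.i, S.j] = L S.i * L S.j by simp [evL], ← hc]
    exact cval_congr hσ.2.1 (by rw [hL, hX]) (by rw [hL, hY])
  · rw [tailFn_tri S.P L S.lt_n' S.lt'.le, lhsV, if_neg S.lt'.ne, S.comm',
      show evL L [S.i', S.j'] = L S.i' * L S.j' by simp [evL], ← hd]
    exact cval_congr hσ.2.1 (by rw [hL, hX']) (by rw [hL, hY'])

/-- Both commutators lie in the kernel and their orders divide the exponent. -/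
theorem SylowPairExp.exists_vals {Δ : Type v} [Group Δ] (S : SylowPairExp G p) (σ : Δ →* G)
    (hσ : Cfsg.IsStemExtension σ) : ∃ X Y X' Y' : Δ, σ X = S.e S.i ∧ σ Y = S.e S.j ∧ σ X' = S.e S.i' ∧
      σ Y' = S.e S.j' ∧ cval X Y ∈ σ.ker ∧ cval X' Y' ∈ σ.ker ∧ cval X Y ^ S.m = 1 ∧ cval X' Y' ^ S.m = 1 := by
  obtain ⟨X, hX⟩ := hσ.1 (S.e S.i)
  obtain ⟨Y, hY⟩ := hσ.1 (S.e S.j)
  obtain ⟨X', hX'⟩ := hσ.1 (S.e S.i')
  obtain ⟨Y', hY'⟩ := hσ.1 (S.e S.j')
  have hrel := S.rels S.j S.lt_n S.i S.lt.le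
  rw [S.comm, lhsV, if_neg S.lt.ne, show evL S.e [S.i, S.j] = S.e S.i * S.e S.j by simp [evL]] at hrel
  have hrel' := S.rels S.j' S.lt_n' S.i' S.lt'.le
  rw [S.comm', lhsV, if_neg S.lt'.ne, show evL S.e [S.i', S.j'] = S.e S.i' * S.e S.j' by simp [evL]] at hrel'
  have hc := cval_mem hX hY hrel
  have hd := cval_mem hX' hY' hrel'
  exact ⟨X, Y, X', Y', hX, hY, hX', hY', hc, hd,
    cval_pow hσ.2.1 hc (by rw [MonoidHom.mem_ker, map_pow, hY, S.pow]),
    cval_pow hσ.2.1 hd (by rw [MonoidHom.mem_ker, map_pow, hY', S.pow'])⟩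

variable [Finite G]

/-- A stem kernel is contained in a subgroup of it covering every prime. -/
theorem ker_le_of_cover_sub {Δ : Type v} [Group Δ] [Finite Δ] (σ : Δ →* G) (hσ : Cfsg.IsStemExtension σ)
    {Z : Subgroup Δ} (hZker : Z ≤ σ.ker)
    (h : ∀ q, q.Prime → q ∣ Nat.card G → Nonempty (SylowCert G q) ∨
      (∃ (S : SylowExp G q) (X Y : Δ), σ X = S.e S.i ∧ σ Y = S.e S.j ∧ S.val X Y ∈ Z) ∨
      ∃ (S : SylowPairExp G q) (X Y X' Y' : Δ), σ X = S.e S.i ∧ σ Y = S.e S.j ∧ σ X' = S.e S.i' ∧ σ Y' = S.e S.j' ∧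
        cval X Y ∈ Z ∧ cval X' Y' ∈ Z) :
    σ.ker ≤ Z := by
  by_contra hne
  -- a prime `q` with `ker` not inside `⟨c⟩ ker^q`
  have hcm : ∀ a b : σ.ker, Commute a b := fun a b => Subtype.ext (Subgroup.mem_center_iff.1 (hσ.2.1 b.2) (a : Δ))
  letI : CommGroup σ.ker := { (inferInstance : Group σ.ker) with mul_comm := fun a b => (hcm a b).eq }
  set A : Subgroup σ.ker := Z.subgroupOf σ.ker with hA
  have hcard : Nat.card (σ.ker ⧸ A) ≠ 1 := fun e => hne fun z hz => by
    have hs : Subsingleton (σ.ker ⧸ A) := (Nat.card_eq_one_iff_unique.1 e).1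
    have := Subsingleton.elim (QuotientGroup.mk (s := A) (⟨z, hz⟩ : σ.ker)) 1
    exact Subgroup.mem_subgroupOf.1 ((QuotientGroup.eq_one_iff _).1 this)
  obtain ⟨q, hq, hdvd⟩ := Nat.exists_prime_and_dvd hcard
  have := Fact.mk hq
  let powQ : σ.ker →* Δ :=
    { toFun := fun z => (z : Δ) ^ q
      map_one' := by simp
      map_mul' := fun a b => by
        show ((a : Δ) * b) ^ q = _
        exact Commute.mul_pow (Subgroup.mem_center_iff.1 (hσ.2.1 b.2) (a : Δ)) q }
  set K := powQ.range ⊔ Z with hK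
  have hKker : K ≤ σ.ker := by
    refine sup_le ?_ hZker
    rintro _ ⟨z, rfl⟩; exact pow_mem z.2 q
  haveI : K.Normal := ⟨fun n hn g => by
    rwa [Subgroup.mem_center_iff.1 (hσ.2.1 (hKker hn)) g, mul_inv_cancel_right]⟩
  have hnot : ¬ σ.ker ≤ K := by
    intro hle
    obtain ⟨z, hz⟩ := exists_prime_orderOf_dvd_card' q hdvd
    have hsurj : Function.Surjective fun w : σ.ker ⧸ A => w ^ q := by
      intro w
      induction w using QuotientGroup.induction_on with
      | _ y =>
        haveI : Z.Normal := ⟨fun n hn g => by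
          rwa [Subgroup.mem_center_iff.1 (hσ.2.1 (hZker hn)) g, mul_inv_cancel_right]⟩
        obtain ⟨a, ⟨v, rfl⟩, b, hb, he⟩ := Subgroup.mem_sup_of_normal_right.1 (hle y.2)
        refine ⟨QuotientGroup.mk v, ?_⟩
        show (QuotientGroup.mk v : σ.ker ⧸ A) ^ q = QuotientGroup.mk y
        rw [← QuotientGroup.mk_pow, QuotientGroup.eq, hA, Subgroup.mem_subgroupOf]
        have : ((↑((v ^ q)⁻¹ * y) : σ.ker) : Δ) = b := by
          rw [Subgroup.coe_mul, Subgroup.coe_inv, Subgroup.coe_pow, ← he]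
          show ((v : Δ) ^ q)⁻¹ * ((v : Δ) ^ q * b) = b
          rw [inv_mul_cancel_left]
        rwa [this]
    have hinj := Finite.injective_iff_surjective.2 hsurj
    have h1 : z = 1 := hinj (show z ^ q = (1 : σ.ker ⧸ A) ^ q by rw [one_pow, ← hz, pow_orderOf_eq_one])
    rw [h1, orderOf_one] at hz
    exact hq.ne_one hz.symm
  let τ := QuotientGroup.lift K σ hKker
  have hτ : Cfsg.IsStemExtension τ := by
    refine ⟨fun x => ?_, ?_, ?_⟩
    · obtain ⟨y, rfl⟩ := hσ.1 x; exact ⟨QuotientGroup.mk y, rfl⟩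
    · intro x hx
      induction x using QuotientGroup.induction_on with
      | _ y =>
        refine Subgroup.mem_center_iff.2 fun r => ?_
        induction r using QuotientGroup.induction_on with
        | _ g => rw [← QuotientGroup.mk_mul, ← QuotientGroup.mk_mul, Subgroup.mem_center_iff.1 (hσ.2.1 hx) g]
    · intro x hx
      induction x using QuotientGroup.induction_on with
      | _ y =>
        have : QuotientGroup.mk' K y ∈ (commutator Δ).map (QuotientGroup.mk' K) := ⟨y, hσ.2.2 hx, rfl⟩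
        have hle : (commutator Δ).map (QuotientGroup.mk' K) ≤ commutator (Δ ⧸ K) := by
          rw [commutator_def, Subgroup.map_commutator]; exact Subgroup.commutator_mono le_top le_top
        exact hle this
  have hexp : ∀ x ∈ τ.ker, x ^ q = 1 := fun x hx => by
    induction x using QuotientGroup.induction_on with
    | _ y =>
      rw [← QuotientGroup.mk_pow]
      exact (QuotientGroup.eq_one_iff _).2 (Subgroup.mem_sup_left ⟨⟨y, hx⟩, rfl⟩)
  have hbot : τ.ker = ⊥ := by
    by_cases hd : q ∣ Nat.card G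
    · rcases h q hq hd with ⟨⟨T⟩⟩ | ⟨S, X, Y, hX, hY, hval⟩ | ⟨S, X, Y, X', Y', hX, hY, hX', hY', h1, h2⟩
      · exact T.ker_eq_bot hq τ hτ hexp
      · have h1 := S.ker_le hq τ hτ hexp (X := QuotientGroup.mk X) (Y := QuotientGroup.mk Y) hX hY
        have h2 : S.val (QuotientGroup.mk X : Δ ⧸ K) (QuotientGroup.mk Y) = QuotientGroup.mk (S.val X Y) := by
          simp only [SylowExp.val, QuotientGroup.mk_mul, QuotientGroup.mk_inv]
        rw [h2, (QuotientGroup.eq_one_iff (S.val X Y)).2 (Subgroup.mem_sup_right hval),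
          Subgroup.zpowers_one_eq_bot] at h1
        exact le_bot_iff.1 h1
      · refine S.ker_eq_bot hq τ hτ hexp (X := QuotientGroup.mk X) (Y := QuotientGroup.mk Y)
          (X' := QuotientGroup.mk X') (Y' := QuotientGroup.mk Y') hX hY hX' hY' ?_ ?_
        · rw [show cval (QuotientGroup.mk X : Δ ⧸ K) (QuotientGroup.mk Y) = QuotientGroup.mk (cval X Y) by
            simp only [cval, QuotientGroup.mk_mul, QuotientGroup.mk_inv]]
          exact (QuotientGroup.eq_one_iff _).2 (Subgroup.mem_sup_right h1)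
        · rw [show cval (QuotientGroup.mk X' : Δ ⧸ K) (QuotientGroup.mk Y') = QuotientGroup.mk (cval X' Y') by
            simp only [cval, QuotientGroup.mk_mul, QuotientGroup.mk_inv]]
          exact (QuotientGroup.eq_one_iff _).2 (Subgroup.mem_sup_right h2)
    · rw [eq_bot_iff]
      intro k hk
      rcases eq_or_ne k 1 with rfl | hk1
      · exact one_mem _
      exfalso
      refine Spor.Mult.no_elt_of_comm ((⊥ : Subgroup G).comap τ) (fun x hx y hy => ?_) hq
        (orderOf_eq_prime (hexp k hk) hk1) (Spor.Mult.mem_derived_of_coprime _ (hτ.2.1 hk) (hτ.2.2 hk) ?_)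
      · rw [MonoidHom.comap_bot] at hx
        exact (Subgroup.mem_center_iff.1 (hτ.2.1 hx) y).symm
      · rw [orderOf_eq_prime (hexp k hk) hk1, Subgroup.index_comap_of_surjective _ hτ.1, Subgroup.index_bot]
        exact hq.coprime_iff_not_dvd.2 hd
  refine hnot fun z hz => (QuotientGroup.eq_one_iff z).1 ?_
  have : (QuotientGroup.mk z : Δ ⧸ K) ∈ τ.ker := hz
  rwa [hbot, Subgroup.mem_bot] at this


end Cfsg.Agent.Grp.SchurM.Tails

namespace Cfsg.Agent.Grp.SchurM.Tails.TableCert

open Cfsg.Agent.Spor.Cos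

variable {S : TableCert} {A : Act} {base : List ℕ} {G : Type*} [Group G] {g : ℕ → G}
  {π : G →* Equiv.Perm (Fin A.N)}

/-- The certificate gives a Sylow certificate with two free commutators. -/
theorem sylowPairExp (hA : A.Hom g π) (hb : ∀ b ∈ base, b < A.N)
    (det : ∀ y : G, (∀ q : Fin A.N, (q : ℕ) ∈ base → π y q = q) → y = 1) [Finite G] {p N : ℕ} (hN : Nat.card G = N)
    (hp : S.P.p = p) (hp0 : 0 < p) (hr : S.chkRel A base = true) (hc : S.chkCard A base = true)
    {j i j' i' : ℕ} (hk : S.K.checkPair S.P S.C (tri j i) (tri j' i') = true) (hji : i < j ∧ j < S.P.n)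
    (hcm : S.P.rule j i = [i, j]) {m : ℕ} (hpj : ev g (S.flat (List.replicate m j)) = 1) (hji' : i' < j' ∧ j' < S.P.n)
    (hcm' : S.P.rule j' i' = [i', j']) (hpj' : ev g (S.flat (List.replicate m j')) = 1) (hi : N / p ^ S.P.n % p ≠ 0) :
    ∃ T : SylowPairExp G p, T.m = m := by
  simp only [chkRel, Bool.and_eq_true, List.all_eq_true, List.mem_range] at hr
  obtain ⟨⟨⟨hl1, hl2⟩, hrels⟩, hconj⟩ := hr
  simp only [chkCard, Bool.and_eq_true, List.all_eq_true] at hc
  obtain ⟨⟨hlt, hlen⟩, hinc⟩ := hc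
  have hfl := fun w => letters_flat (S := S) hl1 w
  have rels : ∀ j < S.P.n, ∀ i ≤ j, evL (S.elem g) (S.P.rule j i) = lhsV S.P (S.elem g) j i := by
    intro j hj i hij
    have h := eq_of_agree hA hb det (hfl _) (hfl _) (hrels j hj i (Nat.lt_succ_of_le hij))
    rw [ev_flat, ev_flat] at h
    rw [h, lhsV, PC.lhs]
    split_ifs
    · next he => subst he; exact evL_replicate (S.elem g) _ _
    · simp [evL]
  set H := Subgroup.closure (S.elem g '' {k | k < S.P.n})
  have hwf : S.P.wellFormed = true := by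
    have h := hk
    simp only [Cert.checkPair, Bool.and_eq_true] at h
    exact h.1.1.1
  have hpp : 0 < S.P.p := hp ▸ hp0
  have hup : Nat.card H ≤ p ^ S.P.n := by
    have h := card_upper (P := S.P) hwf hpp (S.elem g) (z := (1 : G)) (one_mem _)
      (fun j hj i hij => by rw [rels j hj i hij, inv_mul_cancel]; exact one_mem _) _ _ (zero_add _)
    rw [Subgroup.zpowers_one_eq_bot, Subgroup.card_bot, one_mul, hp] at h
    refine le_trans (le_of_eq ?_) h
    rw [upper, Set.singleton_union, Subgroup.closure_insert_one]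
    simp only [Nat.zero_le, true_and]
    rfl
  have hdown : p ^ S.P.n ≤ Nat.card H := by
    obtain ⟨-, hpw⟩ := inc_pairwise hinc
    have hnd : (S.els.map (evL (S.elem g))).Nodup := by
      refine List.pairwise_map.2 (hpw.imp fun {u v} huv he => huv.ne ?_)
      refine code_eq_code fun b hb' => ?_
      rw [← hA.apply_ev _ (hfl u) ⟨b, hb b hb'⟩, ← hA.apply_ev _ (hfl v) ⟨b, hb b hb'⟩, ev_flat, ev_flat, he]
    have hmem : ∀ x ∈ S.els.map (evL (S.elem g)), x ∈ H := by
      intro x hx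
      obtain ⟨w, hw, rfl⟩ := List.mem_map.1 hx
      exact evL_mem fun k hk => Subgroup.subset_closure ⟨k, Nat.le_of_ble_eq_true (hlt w hw k hk), rfl⟩
    have hcard : Nat.card (Fin (S.els.map (evL (S.elem g))).length) ≤ Nat.card H :=
      Nat.card_le_card_of_injective (fun i => ⟨_, hmem _ (List.getElem_mem i.2)⟩) fun i j hij =>
        Fin.ext (hnd.getElem_inj_iff.1 (Subtype.ext_iff.1 hij))
    rwa [Nat.card_fin, List.length_map, Nat.eq_of_beq_eq_true hlen, hp] at hcard
  have hpw : ∀ {k : ℕ}, ev g (S.flat (List.replicate m k)) = 1 → S.elem g k ^ m = 1 := fun hk' => by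
    rw [← hk', ev_flat]; exact (evL_replicate (S.elem g) _ _).symm
  refine ⟨⟨S.P, S.elem g, fun m => ev g (S.gws.getD m []), S.C, S.K, j, i, j', i', hp, rels, fun c hc' => ?_, hji.1,
    hji.2, hcm, m, hpw hpj, hji'.1, hji'.2, hcm', hpw hpj', hk, hdown,
    fun hdvd => hi ?_⟩, rfl⟩
  · have h := eq_of_agree hA hb det (u := S.gws.getD c.1 [] ++ S.flat c.2.1)
      (v := S.flat c.2.2 ++ S.gws.getD c.1 [])
      (fun s hs => (List.mem_append.1 hs).elim (letters_getD hl2 _ s) (hfl _ s))
      (fun s hs => (List.mem_append.1 hs).elim (hfl _ s) (letters_getD hl2 _ s)) (hconj c hc')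
    rwa [ev_append, ev_append, ev_flat, ev_flat] at h
  · have hH : Nat.card H = p ^ S.P.n := le_antisymm hup hdown
    have hmul := H.card_mul_index
    rw [hH, hN] at hmul
    rw [← hmul, Nat.mul_div_cancel_left _ (pow_pos (hp ▸ hpp) _)]
    exact Nat.dvd_iff_mod_eq_zero.1 hdvd

end Cfsg.Agent.Grp.SchurM.Tails.TableCert
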