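import Cfsg.Agent.Lib.Grp.SchurM.TailChain
import Cfsg.Agent.Lib.Grp.SchurM.TailPairExp
import Cfsg.Agent.Lib.Grp.SchurM.TailCheck

/-! Two free commutators: orders from transversals and stored counts. -/

set_option autoImplicit false

open Cfsg.Agent.Spor.Cos

namespace Cfsg.Agent.Grp.SchurM.Tails

/-- The combinations for two rules left free, on stored counts. -/
def chkCombosPair (P : PC) (K : Cert) (V : List ℕ) (a b : ℕ) : Bool :=
  P.wellFormed && P.defsOK &&
    (List.range P.R).all fun r => P.isDef r || Nat.beq r a || Nat.beq r b ||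
      (List.range P.R).all fun r' => P.isDef r' || Nat.beq r' a || Nat.beq r' b ||
        Nat.beq (((K.combo.getD r []).map fun k => dig4 (V.getD k 0) r').sum % P.p) (if Nat.beq r' r then 1 else 0)

/-- A certificate with two rules left free is correct once checked on stored counts. -/
theorem Cert.checkPair_of_counts {P : PC} {C : List Conj} {K : Cert} {V : List ℕ} {a b : ℕ}
    (hs : K.eqns.all (fun q => (q.tails P C).isSome) = true) (h1 : chkCounts P V (eqTails P C K) 0 = true)
    (h2 : chkCombosPair P K V a b = true) : K.checkPair P C a b = true := by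
  simp only [chkCombosPair, Bool.and_eq_true, List.all_eq_true, List.mem_range, Bool.or_eq_true] at h2
  obtain ⟨⟨hw, hd⟩, h2⟩ := h2
  obtain ⟨hlen, hV⟩ := chkCounts_spec P V _ 0 h1
  set T := eqTails P C K
  have hin : ∀ k x, x ∈ T.getD k [] → x < P.R := fun k x hx => by
    rcases Nat.lt_or_ge k T.length with hk | hk
    · exact (hV k hk).1 x hx
    · rw [List.getD_eq_default _ _ hk] at hx; exact absurd hx List.not_mem_nil
  have hcnt : ∀ k, ∀ r < P.R, dig4 (V.getD k 0) r = cnt r (T.getD k []) % P.p := fun k r hr => by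
    rcases Nat.lt_or_ge k T.length with hk | hk
    · simpa using (hV k hk).2 r hr
    · rw [List.getD_eq_default _ _ hk, List.getD_eq_default _ _ (by omega)]; simp [dig4, cnt]
  have hsum : ∀ (r : ℕ), r < P.R → ∀ c : List ℕ,
      cnt r (comboList T c) % P.p = (c.map fun k => dig4 (V.getD k 0) r).sum % P.p := by
    intro r hr c
    induction c with
    | nil => simp [comboList, cnt]
    | cons x c ih =>
      simp only [comboList, List.flatMap_cons, List.map_cons, List.sum_cons] at ih ⊢
      rw [cnt_eq, List.count_append, ← cnt_eq, ← cnt_eq, Nat.add_mod, ih, hcnt x r hr, Nat.add_mod_mod]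
  simp only [Cert.checkPair, Bool.and_eq_true, Bool.or_eq_true, List.all_eq_true, List.mem_range]
  refine ⟨⟨⟨hw, hd⟩, List.all_eq_true.1 hs⟩, fun r hr => ?_⟩
  rcases h2 r hr with h | h
  · exact Or.inl h
  refine Or.inr ⟨fun x hx => ?_, fun r' hr' => ?_⟩
  · simp only [comboList, List.mem_flatMap] at hx
    obtain ⟨k, -, hk⟩ := hx
    exact Nat.ble_eq_true_of_le (hin k x hk)
  · rcases h r' hr' with h' | h'
    · exact Or.inl h'
    · exact Or.inr (by rw [hsum r' hr']; exact h')

namespace TableCert

variable {S : TableCert} {A : Act} {base : List ℕ} {G : Type*} [Group G] {g : ℕ → G}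
  {π : G →* Equiv.Perm (Fin A.N)}

/-- The certificate gives a Sylow certificate with two free commutators. -/
theorem sylowPairExp_chain (hA : A.Hom g π) (hb : ∀ b ∈ base, b < A.N)
    (det : ∀ y : G, (∀ q : Fin A.N, (q : ℕ) ∈ base → π y q = q) → y = 1) [Finite G] {L : List (ℕ × List (List ℕ))} {p N : ℕ} (hN : Nat.card G = N)
    (hp : S.P.p = p) (hp0 : 0 < p) (hr : S.chkRel A base = true) (hc : S.chkChain A base L = true)
    {j i j' i' : ℕ} (hk : S.K.checkPair S.P S.C (tri j i) (tri j' i') = true) (hji : i < j ∧ j < S.P.n)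
    (hcm : S.P.rule j i = [i, j]) {m : ℕ} (hpj : ev g (S.flat (List.replicate m j)) = 1) (hji' : i' < j' ∧ j' < S.P.n)
    (hcm' : S.P.rule j' i' = [i', j']) (hpj' : ev g (S.flat (List.replicate m j')) = 1) (hi : N / p ^ S.P.n % p ≠ 0) :
    ∃ T : SylowPairExp G p, T.m = m := by
  simp only [chkRel, Bool.and_eq_true, List.all_eq_true, List.mem_range] at hr
  obtain ⟨⟨⟨hl1, hl2⟩, hrels⟩, hconj⟩ := hr
  have hfl := fun w => letters_flat (S := S) hl1 w
  have rels : ∀ j < S.P.n, ∀ i ≤ j, evL (S.elem g) (S.P.rule j i) = lhsV S.P (S.elem g) j i := by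
    intro j hj i hij
    have h := eq_of_agree hA hb det (hfl _) (hfl _) (hrels j hj i (Nat.lt_succ_of_le hij))
    rw [ev_flat, ev_flat] at h
    rw [h, lhsV, PC.lhs]
    split_ifs
    · next he => subst he; exact evL_replicate (S.elem g) _ _
    · simp [evL]
  set H := Subgroup.closure (S.elem g '' {k | k < S.P.n})
  have hwf : S.P.wellFormed = true := by
    have h := hk
    simp only [Cert.checkPair, Bool.and_eq_true] at h
    exact h.1.1.1
  have hpp : 0 < S.P.p := hp ▸ hp0
  have hup : Nat.card H ≤ p ^ S.P.n := by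
    have h := card_upper (P := S.P) hwf hpp (S.elem g) (z := (1 : G)) (one_mem _)
      (fun j hj i hij => by rw [rels j hj i hij, inv_mul_cancel]; exact one_mem _) _ _ (zero_add _)
    rw [Subgroup.zpowers_one_eq_bot, Subgroup.card_bot, one_mul, hp] at h
    refine le_trans (le_of_eq ?_) h
    rw [upper, Set.singleton_union, Subgroup.closure_insert_one]
    simp only [Nat.zero_le, true_and]
    rfl
  have hdown : p ^ S.P.n ≤ Nat.card H := hp ▸ S.le_card_of_chain hA hb hl1 hc
  have hpw : ∀ {k : ℕ}, ev g (S.flat (List.replicate m k)) = 1 → S.elem g k ^ m = 1 := fun hk' => by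
    rw [← hk', ev_flat]; exact (evL_replicate (S.elem g) _ _).symm
  refine ⟨⟨S.P, S.elem g, fun m => ev g (S.gws.getD m []), S.C, S.K, j, i, j', i', hp, rels, fun c hc' => ?_, hji.1,
    hji.2, hcm, m, hpw hpj, hji'.1, hji'.2, hcm', hpw hpj', hk, hdown,
    fun hdvd => hi ?_⟩, rfl⟩
  · have h := eq_of_agree hA hb det (u := S.gws.getD c.1 [] ++ S.flat c.2.1)
      (v := S.flat c.2.2 ++ S.gws.getD c.1 [])
      (fun s hs => (List.mem_append.1 hs).elim (letters_getD hl2 _ s) (hfl _ s))
      (fun s hs => (List.mem_append.1 hs).elim (hfl _ s) (letters_getD hl2 _ s)) (hconj c hc')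
    rwa [ev_append, ev_append, ev_flat, ev_flat] at h
  · have hH : Nat.card H = p ^ S.P.n := le_antisymm hup hdown
    have hmul := H.card_mul_index
    rw [hH, hN] at hmul
    rw [← hmul, Nat.mul_div_cancel_left _ (pow_pos (hp ▸ hpp) _)]
    exact Nat.dvd_iff_mod_eq_zero.1 hdvd

end TableCert

end Cfsg.Agent.Grp.SchurM.Tails
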