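import Cfsg.Agent.Lib.Grp.SchurM.TailSection

/-! A certificate leaving two rules open, used where the tails of both vanish. -/

set_option autoImplicit false

namespace Cfsg.Agent.Grp.SchurM.Tails

open scoped commutatorElement

/-- The certificate is correct up to two rules. -/
def Cert.checkPair (P : PC) (C : List Conj) (K : Cert) (a b : ℕ) : Bool :=
  let T := eqTails P C K
  P.wellFormed && P.defsOK && K.eqns.all (fun q => (q.tails P C).isSome) &&
    (List.range P.R).all fun r => P.isDef r || Nat.beq r a || Nat.beq r b ||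
      (let L := comboList T (K.combo.getD r [])
       L.all (fun x => Nat.blt x P.R) && (List.range P.R).all fun r' => P.isDef r' || Nat.beq r' a || Nat.beq r' b ||
        Nat.beq (cnt r' L % P.p) (if Nat.beq r' r then 1 else 0))

variable {Γ G : Type*} [Group Γ] [Group G] [Finite Γ] {P : PC} {σ : Γ →* G} {e : ℕ → G}

/-- All tails vanish when the two exceptional ones do. -/
theorem tails_one (hS : Setting P σ e) (hsurj : Function.Surjective σ) (hp : 1 < P.p) {gs : ℕ → G} {C : List Conj}
    (hC : ConjOK e gs C) (K : Cert) {a b : ℕ} (hK : K.checkPair P C a b = true)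
    (hab : ∀ L : ℕ → Γ, IsLift σ e L → tailFn P L a = 1 ∧ tailFn P L b = 1) :
    ∃ L : ℕ → Γ, IsLift σ e L ∧ ∀ r < P.R, tailFn P L r ∈ Subgroup.zpowers (1 : Γ) := by
  classical
  simp only [Cert.checkPair, Bool.and_eq_true, List.all_eq_true, List.mem_range, Bool.or_eq_true] at hK
  obtain ⟨⟨⟨-, hd⟩, hq⟩, hcomb⟩ := hK
  obtain ⟨L, hL, hdef⟩ := exists_lifts hS hsurj hd
  obtain ⟨ha0, hb0⟩ := hab L hL
  refine ⟨L, hL, fun r hr => ?_⟩
  have hdef' : ∀ r', P.isDef r' = true → tailFn P L r' = 1 := by
    intro r' h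
    simp only [PC.isDef, List.any_eq_true] at h
    obtain ⟨d, hd', he⟩ := h
    rw [← Nat.eq_of_beq_eq_true he]
    exact hdef d hd'
  rcases hcomb r hr with ((h | h) | h) | h
  · rw [hdef' r h]; exact one_mem _
  · rw [Nat.eq_of_beq_eq_true h, ha0]; exact one_mem _
  · rw [Nat.eq_of_beq_eq_true h, hb0]; exact one_mem _
  · obtain ⟨hlt, hcnt⟩ := h
    set z : Γ := 1 with hzdef
    set T := eqTails P C K with hTdef
    set l := comboList T (K.combo.getD r []) with hl
    have hlist : tv (tailFn P L) l = 1 := by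
      have : ∀ c : List ℕ, tv (tailFn P L) (comboList T c) = 1 := by
        intro c
        induction c with
        | nil => simp [comboList, tv]
        | cons k c ih =>
          rw [comboList, List.flatMap_cons, tv_append]
          rw [show tv (tailFn P L) (List.flatMap (fun k => T.getD k []) c) = 1 from ih, mul_one, hTdef, eqTails]
          rcases lt_or_ge k K.eqns.length with hk | hk
          · rw [List.getD_eq_getElem _ _ (by simpa using hk), List.getElem_map]
            obtain ⟨ls, hls⟩ := Option.isSome_iff_exists.1 (hq _ (List.getElem_mem hk))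
            rw [hls, Option.getD_some]
            exact eqn_sound hS hL hsurj hC hls
          · rw [List.getD_eq_default _ _ (by simpa using hk)]; simp [tv]
      exact this _
    set N := Subgroup.zpowers z with hN
    have hzc : z ∈ Subgroup.center Γ := one_mem _
    have : N.Normal := ⟨fun x hx g => by
      obtain ⟨k, rfl⟩ := Subgroup.mem_zpowers_iff.1 hx
      rw [Subgroup.mem_center_iff.1 (zpow_mem hzc k) g, mul_inv_cancel_right]
      exact zpow_mem (Subgroup.mem_zpowers z) k⟩
    let q := QuotientGroup.mk' N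
    let c : ℕ → Subgroup.center Γ := fun a => ⟨tailFn P L a, hS.central (tailFn_ker hS hL a)⟩
    letI : CommGroup (Subgroup.center Γ) :=
      { (inferInstance : Group (Subgroup.center Γ)) with
        mul_comm := fun a b => Subtype.ext (Subgroup.mem_center_iff.1 b.2 a) }
    have hprod : ∀ rs : List ℕ, ((rs.map c).prod : Γ) = tv (tailFn P L) rs := by
      intro rs
      induction rs with
      | nil => simp [tv]
      | cons a rs ih => simp only [List.map_cons, List.prod_cons, Subgroup.coe_mul, ih]; simp [tv, c]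
    set N' : Subgroup (Subgroup.center Γ) := N.subgroupOf (Subgroup.center Γ) with hN'
    have hzero : ∀ a' < P.R, a' ≠ r → c a' ^ l.count a' ∈ N' := by
      intro a' ha hne
      rcases hcnt a' ha with ((h | h) | h) | h
      · rw [show c a' = 1 from Subtype.ext (hdef' a' h), one_pow]; exact one_mem _
      · rw [show c a' = 1 from Subtype.ext (by rw [Nat.eq_of_beq_eq_true h]; exact ha0), one_pow]; exact one_mem _
      · rw [show c a' = 1 from Subtype.ext (by rw [Nat.eq_of_beq_eq_true h]; exact hb0), one_pow]; exact one_mem _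
      · rw [cnt_eq, if_neg (by simpa using hne)] at h
        have hpow : c a' ^ P.p = 1 := Subtype.ext (by
          rw [SubmonoidClass.coe_pow]; exact hS.exp _ (tailFn_ker hS hL a'))
        rw [pow_eq_pow_mod _ hpow, Nat.eq_of_beq_eq_true h, pow_zero]; exact one_mem _
    rcases hcnt r hr with ((h | h) | h) | h
    · rw [hdef' r h]; exact one_mem _
    · rw [Nat.eq_of_beq_eq_true h, ha0]; exact one_mem _
    · rw [Nat.eq_of_beq_eq_true h, hb0]; exact one_mem _
    · rw [cnt_eq, if_pos (by simp)] at h
      have hpow : c r ^ P.p = 1 := Subtype.ext (by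
        rw [SubmonoidClass.coe_pow]; exact hS.exp _ (tailFn_ker hS hL r))
      have hone : (l.map c).prod = 1 := Subtype.ext ((hprod l).trans hlist)
      have hrl : r ∈ l.toFinset := by
        by_contra hr'
        rw [List.count_eq_zero.2 fun h' => hr' (List.mem_toFinset.2 h')] at h
        simp at h
      rw [Finset.prod_list_map_count, ← Finset.mul_prod_erase _ _ hrl] at hone
      have hrest : (∏ a ∈ l.toFinset.erase r, c a ^ l.count a) ∈ N' := Subgroup.prod_mem _ fun a ha =>
        hzero a (Nat.le_of_ble_eq_true (hlt a (List.mem_toFinset.1 (Finset.mem_of_mem_erase ha))))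
          (Finset.ne_of_mem_erase ha)
      have hr1 : c r ^ l.count r ∈ N' := by
        rw [eq_inv_of_mul_eq_one_left hone]; exact inv_mem hrest
      rw [pow_eq_pow_mod _ hpow, Nat.eq_of_beq_eq_true h, pow_one] at hr1
      exact hr1

/-- The kernel meets the derived group trivially when the two exceptional tails vanish. -/
theorem derived_bound_pair (hS : Setting P σ e) (hsurj : Function.Surjective σ) (hp : 1 < P.p) {gs : ℕ → G} {C : List Conj}
    (hC : ConjOK e gs C) (K : Cert) {a b : ℕ} (hK : K.checkPair P C a b = true)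
    (hab : ∀ L : ℕ → Γ, IsLift σ e L → tailFn P L a = 1 ∧ tailFn P L b = 1) {Q : Subgroup G}
    (hQ : Q = Subgroup.closure (e '' {k | k < P.n})) (hcard : P.p ^ P.n ≤ Nat.card Q) :
    ∀ k ∈ σ.ker, k ∈ ⁅Q.comap σ, Q.comap σ⁆ → k = 1 := by
  have : Finite G := Finite.of_surjective σ hsurj
  have hwf : P.wellFormed = true := by
    have h := hK
    simp only [Cert.checkPair, Bool.and_eq_true] at h
    exact h.1.1.1
  obtain ⟨L, hL, hmem⟩ := tails_one hS hsurj hp hC K hK hab
  set z : Γ := 1 with hzdef
  have hzk : z ∈ σ.ker := one_mem _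
  intro k hk hkd
  have hzc := hS.central hzk
  set H := upper L z P.n 0
  have hH : Nat.card H ≤ Nat.card (Subgroup.zpowers z) * P.p ^ P.n :=
    card_upper hwf hS.pos L hzc (fun j hj i hi => tailFn_tri P L hj hi ▸ hmem _ (tri_bound hj hi)) _ _ (zero_add _)
  have hmap : H.map σ = Q := by
    rw [hQ, show H = Subgroup.closure ({z} ∪ L '' {k | 0 ≤ k ∧ k < P.n}) from rfl, MonoidHom.map_closure]
    refine le_antisymm ((Subgroup.closure_le _).2 ?_) ((Subgroup.closure_le _).2 ?_)
    · rintro _ ⟨x, hx | ⟨j, hj, rfl⟩, rfl⟩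
      · rw [Set.mem_singleton_iff.1 hx, MonoidHom.mem_ker.1 hzk]; exact one_mem _
      · rw [hL]; exact Subgroup.subset_closure ⟨j, hj.2, rfl⟩
    · rintro _ ⟨j, hj, rfl⟩
      exact Subgroup.subset_closure ⟨L j, Or.inr ⟨j, ⟨Nat.zero_le j, hj⟩, rfl⟩, hL j⟩
  -- the kernel inside the lift is generated by the exceptional tail
  set f := σ.comp H.subtype
  have hcardk : Nat.card f.ker ≤ Nat.card (Subgroup.zpowers z) := by
    have h1 := Subgroup.card_mul_index f.ker
    rw [Subgroup.index_ker, show f.range = Q by rw [MonoidHom.range_comp, Subgroup.range_subtype, hmap]] at h1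
    have h2 : Nat.card f.ker * Nat.card Q ≤ Nat.card (Subgroup.zpowers z) * Nat.card Q :=
      (h1 ▸ hH).trans (Nat.mul_le_mul_left _ hcard)
    exact Nat.le_of_mul_le_mul_right h2 Nat.card_pos
  have hzH : Subgroup.zpowers z ≤ f.ker.map H.subtype := by
    rw [Subgroup.zpowers_le]
    exact ⟨⟨z, Subgroup.subset_closure (Or.inl rfl)⟩, hzk, rfl⟩
  have heq : Subgroup.zpowers z = f.ker.map H.subtype :=
    Subgroup.eq_of_le_of_card_ge hzH (by rw [Subgroup.card_map_of_injective H.subtype_injective]; exact hcardk)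
  suffices h : k ∈ Subgroup.zpowers z by rwa [hzdef, Subgroup.zpowers_one_eq_bot, Subgroup.mem_bot] at h
  rw [heq]
  have hle : ⁅Q.comap σ, Q.comap σ⁆ ≤ H := by
    refine Subgroup.commutator_le.2 fun x hx y hy => ?_
    rw [Subgroup.mem_comap, ← hmap] at hx hy
    obtain ⟨s, hs, hsx⟩ := hx
    obtain ⟨t, ht, hty⟩ := hy
    have cx : ∀ v, Commute v (x * s⁻¹) := fun v => Subgroup.mem_center_iff.1
      (hS.central (by rw [MonoidHom.mem_ker, map_mul, map_inv, hsx, mul_inv_cancel])) v
    have cy : ∀ v, Commute v (y * t⁻¹) := fun v => Subgroup.mem_center_iff.1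
      (hS.central (by rw [MonoidHom.mem_ker, map_mul, map_inv, hty, mul_inv_cancel])) v
    have e1 : ⁅x, y⁆ = ⁅s, y⁆ := by
      rw [show x = (x * s⁻¹) * s by group, show ⁅x * s⁻¹ * s, y⁆ = (x * s⁻¹) * ⁅s, y⁆ * (x * s⁻¹)⁻¹ * ⁅x * s⁻¹, y⁆ by
        simp only [commutatorElement_def]; group, ← (cx _).eq, mul_inv_cancel_right,
        commutatorElement_eq_one_iff_commute.2 (cx y).symm, mul_one]
    have e2 : ⁅s, y⁆ = ⁅s, t⁆ := by
      rw [show y = (y * t⁻¹) * t by group, show ⁅s, y * t⁻¹ * t⁆ = ⁅s, y * t⁻¹⁆ * ((y * t⁻¹) * ⁅s, t⁆ * (y * t⁻¹)⁻¹) by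
        simp only [commutatorElement_def]; group, commutatorElement_eq_one_iff_commute.2 (cy s),
        ← (cy _).eq, mul_inv_cancel_right, one_mul]
    rw [e1, e2, commutatorElement_def]
    exact mul_mem (mul_mem (mul_mem hs ht) (inv_mem hs)) (inv_mem ht)
  exact ⟨⟨k, hle hkd⟩, hk, rfl⟩

end Cfsg.Agent.Grp.SchurM.Tails
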