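import Cfsg.Agent.Lib.Grp.SchurM.TailEqns
import Cfsg.Agent.Lib.Spor.Multiplier

/-!
A certificate that the kernel of a central extension meets the derived group of the preimage of a `p`-subgroup
trivially, or in at most one group of order `p`.
-/

set_option autoImplicit false

namespace Cfsg.Agent.Grp.SchurM.Tails

open scoped commutatorElement

/-- A certificate: equations, the exceptional rule, and a combination of equations for each rule. -/
structure Cert where
  /-- equations -/
  eqns : List Eqn
  /-- the exceptional rule, or a number beyond the rules -/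
  free : ℕ
  /-- multiplicities of equations for each rule -/
  combo : List (List ℕ)

/-- A rule is a definition. -/
def PC.isDef (P : PC) (r : ℕ) : Bool := P.defs.any fun d => Nat.beq (tri d.2.1 d.2.2) r

/-- The tails from the equations. -/
def eqTails (P : PC) (C : List Conj) (K : Cert) : List (List ℕ) :=
  K.eqns.map fun q => (q.tails P C).getD []

/-- The combination for one rule. -/
def comboList (T : List (List ℕ)) (c : List ℕ) : List ℕ := c.flatMap fun k => T.getD k []

/-- The certificate is correct. -/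
def Cert.check (P : PC) (C : List Conj) (K : Cert) : Bool :=
  let T := eqTails P C K
  P.wellFormed && P.defsOK && K.eqns.all (fun q => (q.tails P C).isSome) &&
    (List.range P.R).all fun r => P.isDef r || Nat.beq r K.free ||
      (let L := comboList T (K.combo.getD r [])
       L.all (fun a => Nat.blt a P.R) && (List.range P.R).all fun r' => P.isDef r' || Nat.beq r' K.free ||
        Nat.beq (cnt r' L % P.p) (if Nat.beq r' r then 1 else 0))

theorem tri_bound {P : PC} {j i : ℕ} (hj : j < P.n) (hi : i ≤ j) : tri j i < P.R := by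
  have h : P.R = tri P.n 0 := rfl
  rw [h]; exact tri_lt hi hj

variable {Γ G : Type*} [Group Γ] [Group G] [Finite Γ] {P : PC} {σ : Γ →* G} {e : ℕ → G}

/-- All tails are powers of the exceptional one. -/
theorem tails_mem (hS : Setting P σ e) (hsurj : Function.Surjective σ) (hp : 1 < P.p) {gs : ℕ → G} {C : List Conj}
    (hC : ConjOK e gs C) (K : Cert) (hK : K.check P C = true) :
    ∃ L : ℕ → Γ, IsLift σ e L ∧ ∀ r < P.R, tailFn P L r ∈ Subgroup.zpowers (tailFn P L K.free) := by
  classical
  simp only [Cert.check, Bool.and_eq_true, List.all_eq_true, List.mem_range, Bool.or_eq_true] at hK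
  obtain ⟨⟨⟨-, hd⟩, hq⟩, hcomb⟩ := hK
  obtain ⟨L, hL, hdef⟩ := exists_lifts hS hsurj hd
  refine ⟨L, hL, fun r hr => ?_⟩
  have hdef' : ∀ r', P.isDef r' = true → tailFn P L r' = 1 := by
    intro r' h
    simp only [PC.isDef, List.any_eq_true] at h
    obtain ⟨d, hd', he⟩ := h
    rw [← Nat.eq_of_beq_eq_true he]
    exact hdef d hd'
  rcases hcomb r hr with (h | h) | h
  · rw [hdef' r h]; exact one_mem _
  · rw [Nat.eq_of_beq_eq_true h]; exact Subgroup.mem_zpowers _
  · obtain ⟨hlt, hcnt⟩ := h
    set z := tailFn P L K.free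
    set T := eqTails P C K with hTdef
    set l := comboList T (K.combo.getD r []) with hl
    have hlist : tv (tailFn P L) l = 1 := by
      have : ∀ c : List ℕ, tv (tailFn P L) (comboList T c) = 1 := by
        intro c
        induction c with
        | nil => simp [comboList, tv]
        | cons k c ih =>
          rw [comboList, List.flatMap_cons, tv_append]
          rw [show tv (tailFn P L) (List.flatMap (fun k => T.getD k []) c) = 1 from ih, mul_one, hTdef, eqTails]
          rcases lt_or_ge k K.eqns.length with hk | hk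
          · rw [List.getD_eq_getElem _ _ (by simpa using hk), List.getElem_map]
            obtain ⟨ls, hls⟩ := Option.isSome_iff_exists.1 (hq _ (List.getElem_mem hk))
            rw [hls, Option.getD_some]
            exact eqn_sound hS hL hsurj hC hls
          · rw [List.getD_eq_default _ _ (by simpa using hk)]; simp [tv]
      exact this _
    set N := Subgroup.zpowers z with hN
    have hzc : z ∈ Subgroup.center Γ := hS.central (tailFn_ker hS hL _)
    have : N.Normal := ⟨fun x hx g => by
      obtain ⟨k, rfl⟩ := Subgroup.mem_zpowers_iff.1 hx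
      rw [Subgroup.mem_center_iff.1 (zpow_mem hzc k) g, mul_inv_cancel_right]
      exact zpow_mem (Subgroup.mem_zpowers z) k⟩
    let q := QuotientGroup.mk' N
    let c : ℕ → Subgroup.center Γ := fun a => ⟨tailFn P L a, hS.central (tailFn_ker hS hL a)⟩
    letI : CommGroup (Subgroup.center Γ) :=
      { (inferInstance : Group (Subgroup.center Γ)) with
        mul_comm := fun a b => Subtype.ext (Subgroup.mem_center_iff.1 b.2 a) }
    have hprod : ∀ rs : List ℕ, ((rs.map c).prod : Γ) = tv (tailFn P L) rs := by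
      intro rs
      induction rs with
      | nil => simp [tv]
      | cons a rs ih => simp only [List.map_cons, List.prod_cons, Subgroup.coe_mul, ih]; simp [tv, c]
    set N' : Subgroup (Subgroup.center Γ) := N.subgroupOf (Subgroup.center Γ) with hN'
    have hzero : ∀ a < P.R, a ≠ r → c a ^ l.count a ∈ N' := by
      intro a ha hne
      rcases hcnt a ha with (h | h) | h
      · rw [show c a = 1 from Subtype.ext (hdef' a h), one_pow]; exact one_mem _
      · exact pow_mem (show c a ∈ N' by
          rw [Nat.eq_of_beq_eq_true h]; exact Subgroup.mem_zpowers z) _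
      · rw [cnt_eq, if_neg (by simpa using hne)] at h
        have hpow : c a ^ P.p = 1 := Subtype.ext (by
          rw [SubmonoidClass.coe_pow]; exact hS.exp _ (tailFn_ker hS hL a))
        rw [pow_eq_pow_mod _ hpow, Nat.eq_of_beq_eq_true h, pow_zero]; exact one_mem _
    rcases hcnt r hr with (h | h) | h
    · rw [hdef' r h]; exact one_mem _
    · rw [Nat.eq_of_beq_eq_true h]; exact Subgroup.mem_zpowers _
    · rw [cnt_eq, if_pos (by simp)] at h
      have hpow : c r ^ P.p = 1 := Subtype.ext (by
        rw [SubmonoidClass.coe_pow]; exact hS.exp _ (tailFn_ker hS hL r))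
      have hone : (l.map c).prod = 1 := Subtype.ext ((hprod l).trans hlist)
      have hrl : r ∈ l.toFinset := by
        by_contra hr'
        rw [List.count_eq_zero.2 fun h' => hr' (List.mem_toFinset.2 h')] at h
        simp at h
      rw [Finset.prod_list_map_count, ← Finset.mul_prod_erase _ _ hrl] at hone
      have hrest : (∏ a ∈ l.toFinset.erase r, c a ^ l.count a) ∈ N' := Subgroup.prod_mem _ fun a ha =>
        hzero a (Nat.le_of_ble_eq_true (hlt a (List.mem_toFinset.1 (Finset.mem_of_mem_erase ha))))
          (Finset.ne_of_mem_erase ha)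
      have hr1 : c r ^ l.count r ∈ N' := by
        rw [eq_inv_of_mul_eq_one_left hone]; exact inv_mem hrest
      rw [pow_eq_pow_mod _ hpow, Nat.eq_of_beq_eq_true h, pow_one] at hr1
      exact hr1

/-- Generated by the central element and the lifts from one place on. -/
def upper (L : ℕ → Γ) (z : Γ) (n i : ℕ) : Subgroup Γ :=
  Subgroup.closure ({z} ∪ L '' {k | i ≤ k ∧ k < n})

theorem card_upper (hwf : P.wellFormed = true) (hp : 0 < P.p) (L : ℕ → Γ) {z : Γ} (hz : z ∈ Subgroup.center Γ)
    (ht : ∀ j < P.n, ∀ i ≤ j, (evL L (P.rule j i))⁻¹ * lhsV P L j i ∈ Subgroup.zpowers z) :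
    ∀ d i, i + d = P.n → Nat.card (upper L z P.n i) ≤ Nat.card (Subgroup.zpowers z) * P.p ^ d := by
  intro d
  induction d with
  | zero =>
    intro i hi
    have : upper L z P.n i = Subgroup.zpowers z := by
      rw [upper, show {k | i ≤ k ∧ k < P.n} = ∅ by ext k; simp; omega, Set.image_empty, Set.union_empty,
        Subgroup.zpowers_eq_closure]
    rw [this, pow_zero, mul_one]
  | succ d ih =>
    intro i hi
    have hIH := ih (i + 1) (by omega)
    set H := upper L z P.n (i + 1)
    have hzH : z ∈ H := Subgroup.subset_closure (Or.inl rfl)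
    have hLH : ∀ k, i + 1 ≤ k → k < P.n → L k ∈ H := fun k h1 h2 =>
      Subgroup.subset_closure (Or.inr ⟨k, ⟨h1, h2⟩, rfl⟩)
    have hw : ∀ j < P.n, ∀ i' ≤ j, if i' = j then ∀ k ∈ P.rule j i', i' < k ∧ k < P.n
        else ∃ u, P.rule j i' = i' :: u ∧ ∀ k ∈ u, i' < k ∧ k < P.n := by
      intro j hj i' hi'
      have h := hwf
      simp only [PC.wellFormed, List.all_eq_true, List.mem_range] at h
      have h' := h j hj i' (Nat.lt_succ_of_le hi')
      split_ifs with he
      · rw [if_pos he] at h'
        simp only [List.all_eq_true, Bool.and_eq_true] at h'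
        exact fun k hk => ⟨Nat.le_of_ble_eq_true (h' k hk).1, Nat.le_of_ble_eq_true (h' k hk).2⟩
      · rw [if_neg he] at h'
        split at h'
        · simp at h'
        · next hd u hu =>
          simp only [Bool.and_eq_true, List.all_eq_true] at h'
          refine ⟨u, by rw [hu, Nat.eq_of_beq_eq_true h'.1], fun k hk => ?_⟩
          exact ⟨Nat.le_of_ble_eq_true (h'.2 k hk).1, Nat.le_of_ble_eq_true (h'.2 k hk).2⟩
    have hin : i < P.n := by omega
    have hval : ∀ j < P.n, ∀ i' ≤ j, ∃ m ∈ Subgroup.zpowers z, lhsV P L j i' = evL L (P.rule j i') * m :=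
      fun j hj i' hi' => ⟨_, ht j hj i' hi', (mul_inv_cancel_left _ _).symm⟩
    have hzz : Subgroup.zpowers z ≤ H := (Subgroup.zpowers_le).2 hzH
    have hpow : L i ^ P.p ∈ H := by
      obtain ⟨m, hm, e⟩ := hval i hin i le_rfl
      have h := hw i hin i le_rfl
      rw [if_pos rfl] at h
      rw [lhsV, if_pos rfl] at e
      rw [e]
      exact mul_mem (evL_mem fun k hk => hLH k (h k hk).1 (h k hk).2) (hzz hm)
    have hcomm : ∀ h ∈ H, (L i)⁻¹ * h * L i ∈ H := by
      intro h hh
      have hle : H ≤ H.comap (MulAut.conj (L i)⁻¹).toMonoidHom := by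
        refine (Subgroup.closure_le _).2 ?_
        rintro x (rfl | ⟨k, ⟨hk1, hk2⟩, rfl⟩)
        · show (L i)⁻¹ * x * (L i)⁻¹⁻¹ ∈ H
          rw [Subgroup.mem_center_iff.1 hz, mul_inv_cancel_right]; exact hzH
        · show (L i)⁻¹ * L k * (L i)⁻¹⁻¹ ∈ H
          obtain ⟨m, hm, e⟩ := hval k hk2 i (by omega)
          have h' := hw k hk2 i (by omega)
          rw [if_neg (by omega : i ≠ k)] at h'
          obtain ⟨u, hu, hu'⟩ := h'
          rw [lhsV, if_neg (by omega : i ≠ k), hu, evL_cons] at e
          rw [inv_inv, mul_assoc, e, mul_assoc (L i), inv_mul_cancel_left]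
          exact mul_mem (evL_mem fun k' hk' => hLH k' (hu' k' hk').1 (hu' k' hk').2) (hzz hm)
      have := hle hh
      simpa using this
    let F : Fin P.p × H → Γ := fun x => L i ^ (x.1 : ℕ) * x.2
    have hsub : (upper L z P.n i : Set Γ) ⊆ Set.range F := by
      intro x hx
      have hmem : x ∈ Submonoid.closure ({z} ∪ L '' {k | i ≤ k ∧ k < P.n}) := by
        rw [← Subgroup.closure_toSubmonoid_of_finite]; exact hx
      refine Submonoid.closure_induction_left (motive := fun x _ => x ∈ Set.range F) ?_ (fun s hs y _ hy => ?_) hmem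
      · exact ⟨(⟨0, hp⟩, 1), by simp [F]⟩
      · obtain ⟨⟨⟨a, ha⟩, h, hh⟩, rfl⟩ := hy
        have push : ∀ b, ∀ s ∈ H, ∃ s' ∈ H, s * L i ^ b = L i ^ b * s' := by
          intro b
          induction b with
          | zero => exact fun s hs => ⟨s, hs, by simp⟩
          | succ b ihb =>
            intro s hs
            obtain ⟨s', hs', e⟩ := ihb s hs
            refine ⟨(L i)⁻¹ * s' * L i, hcomm s' hs', ?_⟩
            rw [pow_succ, ← mul_assoc, e]; group
        have inH : ∀ s ∈ H, s * (L i ^ a * h) ∈ Set.range F := fun s hs => by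
          obtain ⟨s', hs', e⟩ := push a s hs
          exact ⟨(⟨a, ha⟩, ⟨s' * h, mul_mem hs' hh⟩), by simp only [F]; rw [← mul_assoc, ← e, mul_assoc]⟩
        rcases hs with rfl | ⟨k, ⟨hk1, hk2⟩, rfl⟩
        · exact inH _ hzH
        · rcases hk1.lt_or_eq with hlt | heq
          · exact inH _ (hLH k hlt hk2)
          · subst heq
            rcases (Nat.succ_le_of_lt ha).lt_or_eq with hlt | he
            · exact ⟨(⟨a + 1, hlt⟩, ⟨h, hh⟩), by simp only [F]; rw [pow_succ', mul_assoc]⟩
            · refine ⟨(⟨0, hp⟩, ⟨L i ^ P.p * h, mul_mem hpow hh⟩), ?_⟩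
              simp only [F, pow_zero, one_mul]
              rw [← mul_assoc, ← pow_succ', show a + 1 = P.p from he]
    calc Nat.card (upper L z P.n i) ≤ (Set.range F).ncard := by
          rw [← SetLike.coe_sort_coe, Nat.card_coe_set_eq]
          exact Set.ncard_le_ncard hsub (Set.toFinite _)
      _ ≤ Nat.card (Fin P.p × H) := by
          rw [← Nat.card_coe_set_eq]; exact Finite.card_range_le F
      _ ≤ Nat.card (Subgroup.zpowers z) * P.p ^ (d + 1) := by
          rw [Nat.card_prod, Nat.card_fin, pow_succ, ← mul_assoc, mul_comm P.p]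
          exact Nat.mul_le_mul_right _ hIH

/-- The main consequence. -/
theorem derived_bound (hS : Setting P σ e) (hsurj : Function.Surjective σ) (hp : 1 < P.p) {gs : ℕ → G} {C : List Conj}
    (hC : ConjOK e gs C) (K : Cert) (hK : K.check P C = true) {Q : Subgroup G}
    (hQ : Q = Subgroup.closure (e '' {k | k < P.n})) (hcard : P.p ^ P.n ≤ Nat.card Q) :
    ∃ z ∈ σ.ker, (P.R ≤ K.free → z = 1) ∧
      ∀ k ∈ σ.ker, k ∈ ⁅Q.comap σ, Q.comap σ⁆ → k ∈ Subgroup.zpowers z := by
  have : Finite G := Finite.of_surjective σ hsurj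
  have hwf : P.wellFormed = true := by
    have h := hK
    simp only [Cert.check, Bool.and_eq_true] at h
    exact h.1.1.1
  obtain ⟨L, hL, hmem⟩ := tails_mem hS hsurj hp hC K hK
  set z := tailFn P L K.free
  have hzk : z ∈ σ.ker := tailFn_ker hS hL _
  have hfree : P.R ≤ K.free → z = 1 := fun h => by
    show tailFn P L K.free = 1
    rw [tailFn, dif_neg]
    rintro ⟨q, h1, h2, h3⟩
    exact absurd (h3 ▸ tri_bound h1 h2) (not_lt.2 h)
  refine ⟨z, hzk, hfree, fun k hk hkd => ?_⟩
  have hzc := hS.central hzk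
  set H := upper L z P.n 0
  have hH : Nat.card H ≤ Nat.card (Subgroup.zpowers z) * P.p ^ P.n :=
    card_upper hwf hS.pos L hzc (fun j hj i hi => tailFn_tri P L hj hi ▸ hmem _ (tri_bound hj hi)) _ _ (zero_add _)
  have hmap : H.map σ = Q := by
    rw [hQ, show H = Subgroup.closure ({z} ∪ L '' {k | 0 ≤ k ∧ k < P.n}) from rfl, MonoidHom.map_closure]
    refine le_antisymm ((Subgroup.closure_le _).2 ?_) ((Subgroup.closure_le _).2 ?_)
    · rintro _ ⟨x, hx | ⟨j, hj, rfl⟩, rfl⟩
      · rw [Set.mem_singleton_iff.1 hx, MonoidHom.mem_ker.1 hzk]; exact one_mem _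
      · rw [hL]; exact Subgroup.subset_closure ⟨j, hj.2, rfl⟩
    · rintro _ ⟨j, hj, rfl⟩
      exact Subgroup.subset_closure ⟨L j, Or.inr ⟨j, ⟨Nat.zero_le j, hj⟩, rfl⟩, hL j⟩
  -- the kernel inside the lift is generated by the exceptional tail
  set f := σ.comp H.subtype
  have hcardk : Nat.card f.ker ≤ Nat.card (Subgroup.zpowers z) := by
    have h1 := Subgroup.card_mul_index f.ker
    rw [Subgroup.index_ker, show f.range = Q by rw [MonoidHom.range_comp, Subgroup.range_subtype, hmap]] at h1
    have h2 : Nat.card f.ker * Nat.card Q ≤ Nat.card (Subgroup.zpowers z) * Nat.card Q :=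
      (h1 ▸ hH).trans (Nat.mul_le_mul_left _ hcard)
    exact Nat.le_of_mul_le_mul_right h2 Nat.card_pos
  have hzH : Subgroup.zpowers z ≤ f.ker.map H.subtype := by
    rw [Subgroup.zpowers_le]
    exact ⟨⟨z, Subgroup.subset_closure (Or.inl rfl)⟩, hzk, rfl⟩
  have heq : Subgroup.zpowers z = f.ker.map H.subtype :=
    Subgroup.eq_of_le_of_card_ge hzH (by rw [Subgroup.card_map_of_injective H.subtype_injective]; exact hcardk)
  rw [heq]
  have hle : ⁅Q.comap σ, Q.comap σ⁆ ≤ H := by
    refine Subgroup.commutator_le.2 fun x hx y hy => ?_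
    rw [Subgroup.mem_comap, ← hmap] at hx hy
    obtain ⟨s, hs, hsx⟩ := hx
    obtain ⟨t, ht, hty⟩ := hy
    have cx : ∀ v, Commute v (x * s⁻¹) := fun v => Subgroup.mem_center_iff.1
      (hS.central (by rw [MonoidHom.mem_ker, map_mul, map_inv, hsx, mul_inv_cancel])) v
    have cy : ∀ v, Commute v (y * t⁻¹) := fun v => Subgroup.mem_center_iff.1
      (hS.central (by rw [MonoidHom.mem_ker, map_mul, map_inv, hty, mul_inv_cancel])) v
    have e1 : ⁅x, y⁆ = ⁅s, y⁆ := by
      rw [show x = (x * s⁻¹) * s by group, show ⁅x * s⁻¹ * s, y⁆ = (x * s⁻¹) * ⁅s, y⁆ * (x * s⁻¹)⁻¹ * ⁅x * s⁻¹, y⁆ by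
        simp only [commutatorElement_def]; group, ← (cx _).eq, mul_inv_cancel_right,
        commutatorElement_eq_one_iff_commute.2 (cx y).symm, mul_one]
    have e2 : ⁅s, y⁆ = ⁅s, t⁆ := by
      rw [show y = (y * t⁻¹) * t by group, show ⁅s, y * t⁻¹ * t⁆ = ⁅s, y * t⁻¹⁆ * ((y * t⁻¹) * ⁅s, t⁆ * (y * t⁻¹)⁻¹) by
        simp only [commutatorElement_def]; group, commutatorElement_eq_one_iff_commute.2 (cy s),
        ← (cy _).eq, mul_inv_cancel_right, one_mul]
    rw [e1, e2, commutatorElement_def]
    exact mul_mem (mul_mem (mul_mem hs ht) (inv_mem hs)) (inv_mem ht)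
  exact ⟨⟨k, hle hkd⟩, hk, rfl⟩

end Cfsg.Agent.Grp.SchurM.Tails
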