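import Cfsg.Prelude.Def_KGroupFacts
import Cfsg.Agent.Lib.Grp.SchurM.SignCover

/-! The transfer of a central extension along a transversal, as a stem extension. -/

set_option autoImplicit false
set_option linter.style.haveILetI false

open scoped commutatorElement

namespace Cfsg.Agent.Grp.SchurM

section

variable {G Γ : Type} [Group G] [Group Γ] {N : ℕ} (π : G →* Equiv.Perm (Fin N)) (t : Fin N → G) (ρ : Γ →* G)

/-- Lifts of an element: it permutes the points and multiplies by lifts of its parts. -/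
def wreathLifts : Subgroup (G × Equiv.Perm (Fin N × Γ)) where
  carrier := {x | ∃ f : Fin N → Γ, (∀ i γ, x.2 (i, γ) = (π x.1 i, f i * γ)) ∧
    ∀ i, ρ (f i) = (t (π x.1 i))⁻¹ * x.1 * t i}
  one_mem' := ⟨fun _ => 1, fun i γ => by simp, fun i => by simp⟩
  mul_mem' := by
    rintro x y ⟨f, hf, hf'⟩ ⟨k, hk, hk'⟩
    refine ⟨fun i => f (π y.1 i) * k i, fun i γ => ?_, fun i => ?_⟩
    · simp only [Prod.fst_mul, Prod.snd_mul, Equiv.Perm.mul_apply, hk, hf, map_mul, mul_assoc]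
    · simp only [map_mul, hf', hk', Prod.fst_mul, Equiv.Perm.mul_apply]
      group
  inv_mem' := by
    rintro x ⟨f, hf, hf'⟩
    refine ⟨fun i => (f ((π x.1)⁻¹ i))⁻¹, fun i γ => ?_, fun i => ?_⟩
    · rw [Prod.snd_inv, Equiv.Perm.inv_def, Equiv.symm_apply_eq, hf, Prod.fst_inv, map_inv,
        mul_inv_cancel_left, ← Equiv.Perm.mul_apply, mul_inv_cancel, Equiv.Perm.one_apply]
    · rw [map_inv, hf', Prod.fst_inv, map_inv, ← Equiv.Perm.mul_apply, mul_inv_cancel, Equiv.Perm.one_apply]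
      group

/-- The lift with a given part at each point. -/
def liftPerm (a : G) (f : Fin N → Γ) : Equiv.Perm (Fin N × Γ) where
  toFun p := (π a p.1, f p.1 * p.2)
  invFun p := ((π a)⁻¹ p.1, (f ((π a)⁻¹ p.1))⁻¹ * p.2)
  left_inv p := by simp
  right_inv p := by simp

theorem liftPerm_mem {a : G} {f : Fin N → Γ} (h : ∀ i, ρ (f i) = (t (π a i))⁻¹ * a * t i) :
    (a, liftPerm π a f) ∈ wreathLifts π t ρ := ⟨f, fun _ _ => rfl, h⟩

end

/-- A transferred extension that separates a commuting pair is a stem extension. -/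
theorem exists_stem_transfer {G Γ : Type} [Group G] [Finite G] [Group Γ] [Finite Γ] {N p : ℕ} (hp : p.Prime)
    (π : G →* Equiv.Perm (Fin N)) (t : Fin N → G) (ρ : Γ →* G) (hρ : ρ.ker ≤ Subgroup.center Γ)
    (χ : ρ.ker →* Multiplicative (ZMod p)) {gs : Set G} (hgen : Subgroup.closure gs = ⊤)
    (hgs : ∀ g ∈ gs, ∃ f : Fin N → Γ, ∀ i, ρ (f i) = (t (π g i))⁻¹ * g * t i)
    {a b : G} (hab : a * b = b * a) {fa fb : Fin N → Γ} (ha : ∀ i, ρ (fa i) = (t (π a i))⁻¹ * a * t i)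
    (hb : ∀ i, ρ (fb i) = (t (π b i))⁻¹ * b * t i) {z : Fin N → ρ.ker}
    (hz : ∀ i, (z i : Γ) * (fb (π a i) * fa i) = fa (π b i) * fb i) (hne : ∏ i, χ (z i) ≠ 1) :
    ∃ (Δ : Type) (_ : Group Δ) (_ : Finite Δ) (q : Δ →* G), Cfsg.IsStemExtension q ∧ Nat.card q.ker = p := by
  classical
  have := Fact.mk hp
  let E := wreathLifts π t ρ
  let fst : E →* G := (MonoidHom.fst _ _).comp E.subtype
  have hsurj : Function.Surjective fst := by
    rw [← MonoidHom.range_eq_top, eq_top_iff, ← hgen, Subgroup.closure_le]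
    intro g hg
    obtain ⟨f, hf⟩ := hgs g hg
    exact ⟨⟨_, liftPerm_mem π t ρ hf⟩, rfl⟩
  have hker : ∀ (x : fst.ker) (i : Fin N), (x.1.1.2 (i, 1)).2 ∈ ρ.ker ∧
      ∀ γ, x.1.1.2 (i, γ) = (i, (x.1.1.2 (i, 1)).2 * γ) := by
    intro x i
    obtain ⟨f, hf, hf'⟩ := x.1.2
    have h1 : x.1.1.1 = 1 := x.2
    have e : (x.1.1.2 (i, 1)).2 = f i := by rw [hf, mul_one]
    refine ⟨?_, fun γ => ?_⟩
    · rw [e, MonoidHom.mem_ker, hf', h1, map_one, Equiv.Perm.one_apply]
      group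
    · rw [hf i γ, e, h1, map_one, Equiv.Perm.one_apply]
  let Φ : fst.ker →* Multiplicative (ZMod p) := MonoidHom.mk'
    (fun x => ∏ i, χ ⟨_, (hker x i).1⟩) fun x y => by
      rw [← Finset.prod_mul_distrib]
      refine Finset.prod_congr rfl fun i _ => ?_
      rw [← map_mul]
      refine congrArg χ (Subtype.ext ?_)
      show ((x.1.1.2 * y.1.1.2) (i, 1)).2 = _
      rw [Equiv.Perm.mul_apply]
      refine (congrArg (fun w => (x.1.1.2 w).2) ((hker y i).2 1)).trans ?_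
      show (x.1.1.2 (i, (y.1.1.2 (i, 1)).2 * 1)).2 = _
      rw [(hker x i).2, mul_one]
      rfl
  have hconj : ∀ (x : fst.ker) (y : E) (hm : y * x.1 * y⁻¹ ∈ fst.ker), Φ ⟨_, hm⟩ = Φ x := by
    intro x y hm
    obtain ⟨f, hf, -⟩ := y.2
    refine (Equiv.prod_comp (π y.1.1) _).symm.trans (Finset.prod_congr rfl fun i _ => congrArg χ (Subtype.ext ?_))
    show ((y.1.2 * x.1.1.2 * y.1.2⁻¹) (π y.1.1 i, 1)).2 = (x.1.1.2 (i, 1)).2
    have e : y.1.2⁻¹ (π y.1.1 i, 1) = (i, (f i)⁻¹) := by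
      rw [Equiv.Perm.inv_def, Equiv.symm_apply_eq, hf, mul_inv_cancel]
    rw [Equiv.Perm.mul_apply, Equiv.Perm.mul_apply, e, (hker x i).2, hf]
    show f i * ((x.1.1.2 (i, 1)).2 * (f i)⁻¹) = _
    rw [← mul_assoc, Subgroup.mem_center_iff.1 (hρ (hker x i).1) (f i), mul_inv_cancel_right]
  let K : Subgroup E := Φ.ker.map fst.ker.subtype
  have hK : ∀ {y : E}, y ∈ K → y ∈ fst.ker := by rintro _ ⟨w, -, rfl⟩; exact w.2
  haveI : K.Normal := ⟨fun n hn y => by
    obtain ⟨w, hw, rfl⟩ := hn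
    have hm : y * w.1 * y⁻¹ ∈ fst.ker := (MonoidHom.normal_ker fst).conj_mem _ w.2 y
    exact ⟨⟨_, hm⟩, (hconj w y hm).trans hw, rfl⟩⟩
  let q : E ⧸ K →* G := QuotientGroup.lift K fst fun _ hy => hK hy
  have hmk : ∀ x y : fst.ker, Φ x = Φ y → (QuotientGroup.mk x.1 : E ⧸ K) = QuotientGroup.mk y.1 := fun x y h =>
    QuotientGroup.eq.2 ⟨x⁻¹ * y, show Φ (x⁻¹ * y) = 1 by rw [map_mul, map_inv, h, inv_mul_cancel], rfl⟩
  -- the separated pair
  let A : E := ⟨_, liftPerm_mem π t ρ ha⟩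
  let B : E := ⟨_, liftPerm_mem π t ρ hb⟩
  have hz0 : ⁅A, B⁆ ∈ fst.ker := by
    rw [MonoidHom.mem_ker, map_commutatorElement, commutatorElement_eq_one_iff_mul_comm]
    exact hab
  let c : fst.ker := ⟨_, hz0⟩
  have hc : Φ c = ∏ i, χ (z i) := by
    refine (Equiv.prod_comp (π (b * a)) _).symm.trans
      (Finset.prod_congr rfl fun i _ => congrArg χ (Subtype.ext ?_))
    show ((⁅A, B⁆ : E).1.2 (π (b * a) i, 1)).2 = (z i : Γ)
    have e : ((⁅A, B⁆ * (B * A) : E)).1.2 (i, 1) = ((A * B : E)).1.2 (i, 1) := by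
      rw [commutatorElement_def]; group
    have e1 : ((B * A : E)).1.2 (i, 1) = (π (b * a) i, fb (π a i) * fa i) := by
      show (π b (π a i), fb (π a i) * (fa i * 1)) = _
      rw [mul_one, map_mul]; rfl
    have e2 : ((A * B : E)).1.2 (i, 1) = (π (b * a) i, (z i : Γ) * (fb (π a i) * fa i)) := by
      show (π a (π b i), fa (π b i) * (fb i * 1)) = _
      rw [mul_one, hz, ← hab, map_mul]; rfl
    have h : ((⁅A, B⁆ : E)).1.2 (((B * A : E)).1.2 (i, 1)) = ((A * B : E)).1.2 (i, 1) := e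
    rw [e1, e2, (hker c (π (b * a) i)).2] at h
    exact mul_right_cancel (congrArg Prod.snd h)
  have hg : ∀ v : Multiplicative (ZMod p), ∃ k : ℤ, Φ c ^ k = v := fun v => by
    have h0 : Φ c ≠ 1 := hc ▸ hne
    have hcard : Nat.card (Multiplicative (ZMod p)) = p := by
      rw [Nat.card_eq_fintype_card, Fintype.card_multiplicative, ZMod.card]
    exact Subgroup.mem_zpowers_iff.1 ((zpowers_eq_top_of_prime_card hcard h0).symm ▸ Subgroup.mem_top v)
  have hrep : ∀ w ∈ q.ker, ∃ x : fst.ker, (QuotientGroup.mk x.1 : E ⧸ K) = w := fun w hw => by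
    induction w using QuotientGroup.induction_on with
    | _ y => exact ⟨⟨y, hw⟩, rfl⟩
  refine ⟨E ⧸ K, inferInstance, inferInstance, q, ⟨fun g => ?_, fun w hw => ?_, fun w hw => ?_⟩, ?_⟩
  · obtain ⟨y, rfl⟩ := hsurj g; exact ⟨QuotientGroup.mk y, rfl⟩
  · obtain ⟨x, rfl⟩ := hrep w hw
    refine Subgroup.mem_center_iff.2 fun v => ?_
    induction v using QuotientGroup.induction_on with
    | _ y =>
      have hm : y * x.1 * y⁻¹ ∈ fst.ker := (MonoidHom.normal_ker fst).conj_mem _ x.2 y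
      have h := hmk ⟨_, hm⟩ x (hconj x y hm)
      rw [QuotientGroup.mk_mul, QuotientGroup.mk_mul, QuotientGroup.mk_inv, mul_inv_eq_iff_eq_mul] at h
      exact h
  · obtain ⟨x, rfl⟩ := hrep w hw
    obtain ⟨k, hk⟩ := hg (Φ x)
    rw [hmk x (c ^ k) (by rw [map_zpow, hk]), Subgroup.coe_zpow, QuotientGroup.mk_zpow]
    refine zpow_mem ?_ _
    show (QuotientGroup.mk' K) ⁅A, B⁆ ∈ commutator (E ⧸ K)
    rw [map_commutatorElement]
    exact Subgroup.commutator_mem_commutator (Subgroup.mem_top _) (Subgroup.mem_top _)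
  · let ψ : fst.ker →* q.ker := MonoidHom.mk' (fun x => ⟨QuotientGroup.mk x.1, x.2⟩) fun _ _ => rfl
    have hψ : ψ.ker = Φ.ker := by
      ext x
      rw [MonoidHom.mem_ker, MonoidHom.mem_ker]
      constructor
      · intro h
        obtain ⟨w, hw, e⟩ := (QuotientGroup.eq_one_iff x.1).1 (congrArg Subtype.val h)
        rw [← Subtype.ext e]; exact hw
      · exact fun h => Subtype.ext ((QuotientGroup.eq_one_iff x.1).2 ⟨x, h, rfl⟩)
    have hψs : Function.Surjective ψ := fun w => (hrep w.1 w.2).imp fun x h => Subtype.ext h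
    have hΦs : Function.Surjective Φ := fun v => by
      obtain ⟨k, hk⟩ := hg v; exact ⟨c ^ k, by rw [map_zpow, hk]⟩
    calc Nat.card q.ker = Nat.card (fst.ker ⧸ ψ.ker) :=
          (Nat.card_congr (QuotientGroup.quotientKerEquivOfSurjective ψ hψs).toEquiv).symm
      _ = Nat.card (fst.ker ⧸ Φ.ker) := by rw [hψ]
      _ = p := by
          rw [Nat.card_congr (QuotientGroup.quotientKerEquivOfSurjective Φ hΦs).toEquiv, Nat.card_eq_fintype_card,
            Fintype.card_multiplicative, ZMod.card]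

end Cfsg.Agent.Grp.SchurM
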