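import Cfsg.Agent.Lib.Grp.SchurM.Transfer

/-! The transfer of a central extension of a point stabiliser, decided at the common fixed points of a pair. -/

set_option autoImplicit false
set_option linter.style.haveILetI false

open scoped commutatorElement

namespace Cfsg.Agent.Grp.SchurM

/-- A product of central parts over permuted families is trivial when the parts commute. -/
theorem prod_ker_eq_one {Γ X : Type*} [Group Γ] [Fintype X] [DecidableEq X] {M : Type*} [CommGroup M]
    (P : Subgroup Γ) (hP : ∀ x ∈ P, ∀ y ∈ P, x * y = y * x) {K : Subgroup Γ} (χ : K →* M)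
    (hc : ∀ x ∈ K, ∀ y ∈ K, x * y = y * x) (O : Finset X) (σ τ : Equiv.Perm X) (hσ : ∀ i, σ i ∈ O ↔ i ∈ O)
    (hτ : ∀ i, τ i ∈ O ↔ i ∈ O) (f g : X → Γ) (hf : ∀ i ∈ O, f i ∈ P) (hg : ∀ i ∈ O, g i ∈ P) (z : X → K)
    (hz : ∀ i ∈ O, (z i : Γ) * (g (σ i) * f i) = f (τ i) * g i) : ∏ i ∈ O, χ (z i) = 1 := by
  letI : CommGroup P := { (inferInstance : Group P) with mul_comm := fun x y => Subtype.ext (hP _ x.2 _ y.2) }
  letI : CommGroup K := { (inferInstance : Group K) with mul_comm := fun x y => Subtype.ext (hc _ x.2 _ y.2) }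
  rw [← map_prod χ]
  suffices h : (∏ i ∈ O, z i : K) = 1 by rw [h, map_one]
  have hzP : ∀ i ∈ O, (z i : Γ) ∈ P := fun i hi => by
    rw [eq_mul_inv_of_mul_eq (hz i hi)]
    exact mul_mem (mul_mem (hf _ ((hτ i).2 hi)) (hg i hi)) (inv_mem (mul_mem (hg _ ((hσ i).2 hi)) (hf i hi)))
  let z' : X → P := fun i => if h : i ∈ O then ⟨z i, hzP i h⟩ else 1
  let f' : X → P := fun i => if h : i ∈ O then ⟨f i, hf i h⟩ else 1
  let g' : X → P := fun i => if h : i ∈ O then ⟨g i, hg i h⟩ else 1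
  have e : ∀ i ∈ O, z' i * (g' (σ i) * f' i) = f' (τ i) * g' i := fun i hi => Subtype.ext (by
    simp only [z', f', g', dif_pos hi, dif_pos ((hσ i).2 hi), dif_pos ((hτ i).2 hi), Subgroup.coe_mul]
    exact hz i hi)
  have h1 : (∏ i ∈ O, z' i) = 1 := by
    have h := Finset.prod_congr rfl e
    simp only [Finset.prod_mul_distrib] at h
    rw [Finset.prod_equiv σ (fun i => (hσ i).symm) (g := g') (fun _ _ => rfl),
      Finset.prod_equiv τ (fun i => (hτ i).symm) (g := f') (fun _ _ => rfl),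
      mul_comm (∏ i ∈ O, g' i)] at h
    exact mul_right_cancel (h.trans (one_mul _).symm)
  have key : ∀ S : Finset X, S ⊆ O → ((∏ i ∈ S, z' i : P) : Γ) = ((∏ i ∈ S, z i : K) : Γ) := by
    intro S hS
    induction S using Finset.induction_on with
    | empty => simp
    | insert a S ha ih =>
      rw [Finset.prod_insert ha, Finset.prod_insert ha, Subgroup.coe_mul, Subgroup.coe_mul,
        ih fun x hx => hS (Finset.mem_insert_of_mem hx)]
      simp only [z', dif_pos (hS (Finset.mem_insert_self a S))]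
  exact Subtype.ext ((key O (le_refl _)).symm.trans (congrArg Subtype.val h1))

/-- A subgroup of a group of order dividing the square of a prime is cyclic, unless it is everything. -/
theorem cyclic_or_eq {G : Type*} [Group G] {q : ℕ} (hq : q.Prime) {H S : Subgroup G} [Finite H] (hSH : S ≤ H)
    (hH : Nat.card H ∣ q ^ 2) : IsCyclic S ∨ S = H := by
  have := Fact.mk hq
  obtain ⟨k, hk, e⟩ := (Nat.dvd_prime_pow hq).1 ((Subgroup.card_dvd_of_le hSH).trans hH)
  rcases k with _ | _ | k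
  · rw [Subgroup.eq_bot_of_card_eq S (by simpa using e)]
    exact Or.inl inferInstance
  · exact Or.inl (isCyclic_of_prime_card (by simpa using e))
  · refine Or.inr (SetLike.ext' (Set.eq_of_subset_of_ncard_le hSH ?_ (Set.toFinite _)))
    rw [← Nat.card_coe_set_eq, ← Nat.card_coe_set_eq]
    have : Finite S := Finite.of_injective _ (Subgroup.inclusion_injective hSH)
    refine Nat.le_of_dvd (Nat.card_pos (α := S)) (hH.trans (dvd_of_eq ?_))
    rw [show k = 0 by omega] at e
    exact e.symm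

/-- The subgroup of two commuting elements killed by a prime has order dividing its square. -/
theorem card_pair_dvd {G : Type*} [Group G] {q : ℕ} (hq : q.Prime) {a b : G} (hab : a * b = b * a)
    (ha : a ^ q = 1) (hb : b ^ q = 1) :
    Nat.card (Subgroup.closure {a, b} : Subgroup G) ∣ q ^ 2 := by
  have hd : ∀ x : G, x ^ q = 1 → Nat.card (Subgroup.zpowers x) ∣ q := fun x hx => by
    rw [Nat.card_zpowers]; exact orderOf_dvd_of_pow_eq_one hx
  have hcomm : ∀ (x : Subgroup.zpowers a) (y : Subgroup.zpowers b),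
      Commute ((Subgroup.zpowers a).subtype x) ((Subgroup.zpowers b).subtype y) := by
    rintro ⟨x, i, rfl⟩ ⟨y, j, rfl⟩
    exact (show Commute a b from hab).zpow_zpow i j
  let m := MonoidHom.noncommCoprod _ _ hcomm
  have hr : m.range = Subgroup.closure {a, b} := by
    rw [MonoidHom.noncommCoprod_range, Subgroup.range_subtype, Subgroup.range_subtype,
      Subgroup.zpowers_eq_closure, Subgroup.zpowers_eq_closure, ← Subgroup.closure_union, Set.singleton_union]
  rw [← hr, sq]
  refine (Subgroup.card_range_dvd m).trans ?_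
  rw [Nat.card_prod]
  exact Nat.mul_dvd_mul (hd a ha) (hd b hb)

/-- Elements that map into a cyclic subgroup under a map with central kernel commute. -/
theorem comm_of_cyclic {Γ G : Type*} [Group Γ] [Group G] {ρ : Γ →* G} (hρ : ρ.ker ≤ Subgroup.center Γ)
    {C : Subgroup G} (hC : IsCyclic C) : ∀ x ∈ C.comap ρ, ∀ y ∈ C.comap ρ, x * y = y * x := by
  intro x hx y hy
  let D : Subgroup C := (C ⊓ ρ.range).subgroupOf C
  have := hC
  obtain ⟨e, he⟩ := (inferInstance : IsCyclic D).exists_generator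
  obtain ⟨d, hd⟩ : ∃ d, ρ d = e.1.1 := e.2.2
  have key : ∀ w, w ∈ C.comap ρ → ∃ n : ℤ, ∃ z ∈ ρ.ker, w = z * d ^ n := fun w hw => by
    obtain ⟨n, hn⟩ := he ⟨⟨ρ w, hw⟩, ⟨hw, w, rfl⟩⟩
    refine ⟨n, w * (d ^ n)⁻¹, ?_, (inv_mul_cancel_right _ _).symm⟩
    rw [MonoidHom.mem_ker, map_mul, map_inv, map_zpow, hd, mul_inv_eq_one]
    have := congrArg (fun t : D => t.1.1) hn
    simpa using this.symm
  obtain ⟨i, u, hu, rfl⟩ := key x hx
  obtain ⟨j, v, hv, rfl⟩ := key y hy
  have cu := Subgroup.mem_center_iff.1 (hρ hu)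
  have cv := Subgroup.mem_center_iff.1 (hρ hv)
  calc u * d ^ i * (v * d ^ j) = v * (u * d ^ i) * d ^ j := by rw [← mul_assoc, cv]
    _ = v * (u * (d ^ j * d ^ i)) := by rw [mul_assoc, mul_assoc, zpow_mul_comm]
    _ = v * d ^ j * (u * d ^ i) := by rw [← mul_assoc u, ← cu (d ^ j)]; simp only [mul_assoc]

/-- A transferred extension separates a commuting pair if it does so at the common fixed points. -/
theorem exists_stem_transfer_fixed {G Γ : Type} [Group G] [Finite G] [Group Γ] [Finite Γ] {N p q : ℕ} (hp : p.Prime)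
    (hq : q.Prime) (π : G →* Equiv.Perm (Fin N)) (ρ : Γ →* G) (hρ : ρ.ker ≤ Subgroup.center Γ)
    (χ : ρ.ker →* Multiplicative (ZMod p)) (i0 : Fin N) (hstab : ∀ y, π y i0 = i0 → y ∈ ρ.range)
    (t0 : Fin N → G) (ht0 : ∀ i, π (t0 i) i0 = i) {a b : G} (hab : a * b = b * a) (ha : a ^ q = 1) (hb : b ^ q = 1)
    (F : Finset (Fin N)) (hF : ∀ i, i ∈ F ↔ π a i = i ∧ π b i = i) (u w : Fin N → Γ)
    (hu : ∀ i ∈ F, ρ (u i) = (t0 i)⁻¹ * a * t0 i) (hw : ∀ i ∈ F, ρ (w i) = (t0 i)⁻¹ * b * t0 i)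
    (z : Fin N → ρ.ker) (hz : ∀ i ∈ F, (z i : Γ) * (w i * u i) = u i * w i) (hne : ∏ i ∈ F, χ (z i) ≠ 1) :
    ∃ (Δ : Type) (_ : Group Δ) (_ : Finite Δ) (q : Δ →* G), Cfsg.IsStemExtension q ∧ Nat.card q.ker = p := by
  classical
  let H : Subgroup G := Subgroup.closure {a, b}
  have haH : a ∈ H := Subgroup.subset_closure (Or.inl rfl)
  have hbH : b ∈ H := Subgroup.subset_closure (Or.inr rfl)
  let st : Fin N → Subgroup G := fun i => (MulAction.stabilizer (Equiv.Perm (Fin N)) i).comap π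
  have mem_st : ∀ {g i}, g ∈ st i ↔ π g i = i := fun {g i} => Iff.rfl
  have fix : ∀ i ∈ F, H ≤ st i := fun i hi => (Subgroup.closure_le _).2 (by
    rintro x (rfl | rfl)
    · exact mem_st.2 ((hF i).1 hi).1
    · exact mem_st.2 ((hF i).1 hi).2)
  let orb : Setoid (Fin N) := {
    r := fun x y => ∃ h ∈ H, π h x = y
    iseqv := ⟨fun x => ⟨1, one_mem H, by rw [map_one]; rfl⟩,
      fun {x y} ⟨h, hh, e⟩ => ⟨h⁻¹, inv_mem hh, by rw [← e, ← Equiv.Perm.mul_apply, ← map_mul, inv_mul_cancel, map_one]; rfl⟩,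
      fun {x y v} ⟨h, hh, e⟩ ⟨k, hk, e'⟩ => ⟨k * h, mul_mem hk hh, by rw [map_mul, Equiv.Perm.mul_apply, e, e']⟩⟩ }
  let r : Fin N → Fin N := fun i => (Quotient.mk orb i).out
  have hr : ∀ i, ∃ h ∈ H, π h (r i) = i := fun i => Quotient.mk_out (s := orb) i
  have r_eq : ∀ g ∈ H, ∀ i, r (π g i) = r i := fun g hg i =>
    congrArg Quotient.out (Quotient.sound (s := orb) ⟨g⁻¹, inv_mem hg, by
      rw [← Equiv.Perm.mul_apply, ← map_mul, inv_mul_cancel, map_one]; rfl⟩)
  choose e heH he using hr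
  have memF : ∀ g ∈ H, ∀ i, π g i ∈ F → i ∈ F := fun g hg i hi => by
    have h := mem_st.1 (fix _ hi (inv_mem hg))
    rw [← Equiv.Perm.mul_apply, ← map_mul, inv_mul_cancel, map_one, Equiv.Perm.one_apply] at h
    exact h ▸ hi
  have memF' : ∀ g ∈ H, ∀ i, π g i ∈ F ↔ i ∈ F := fun g hg i =>
    ⟨memF g hg i, fun hi => by rwa [mem_st.1 (fix i hi hg)]⟩
  have rF : ∀ i ∉ F, r i ∉ F := fun i hi h => hi (he i ▸ (memF' _ (heH i) _).2 h)
  let t : Fin N → G := fun i => if i ∈ F then t0 i else e i * t0 (r i)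
  have ht : ∀ i, π (t i) i0 = i := fun i => by
    by_cases hi : i ∈ F
    · simp only [t, if_pos hi, ht0]
    · simp only [t, if_neg hi, map_mul, Equiv.Perm.mul_apply, ht0, he]
  have lifts : ∀ g i, ∃ f : Γ, ρ f = (t (π g i))⁻¹ * g * t i := fun g i => MonoidHom.mem_range.1 (hstab _ (by
    rw [map_mul, map_mul, map_inv, Equiv.Perm.mul_apply, Equiv.Perm.mul_apply, ht, Equiv.Perm.inv_def,
      Equiv.symm_apply_eq, ht]))
  choose f hf using lifts
  let fa : Fin N → Γ := fun i => if i ∈ F then u i else f a i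
  let fb : Fin N → Γ := fun i => if i ∈ F then w i else f b i
  have hfa : ∀ i, ρ (fa i) = (t (π a i))⁻¹ * a * t i := fun i => by
    by_cases hi : i ∈ F
    · simp only [fa, t, if_pos hi, mem_st.1 (fix i hi haH), hu i hi]
    · simp only [fa, if_neg hi, hf]
  have hfb : ∀ i, ρ (fb i) = (t (π b i))⁻¹ * b * t i := fun i => by
    by_cases hi : i ∈ F
    · simp only [fb, t, if_pos hi, mem_st.1 (fix i hi hbH), hw i hi]
    · simp only [fb, if_neg hi, hf]
  have hq' : ∀ i, fa (π b i) * fb i * (fb (π a i) * fa i)⁻¹ ∈ ρ.ker := fun i => by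
    rw [MonoidHom.mem_ker, map_mul, map_inv, mul_inv_eq_one, map_mul, map_mul, hfa, hfb, hfb, hfa]
    have e2 : π a (π b i) = π b (π a i) := by
      rw [← Equiv.Perm.mul_apply, ← Equiv.Perm.mul_apply, ← map_mul, ← map_mul, hab]
    rw [e2]
    calc _ = (t (π b (π a i)))⁻¹ * (a * b) * t i := by group
      _ = _ := by rw [hab]; group
  let z' : Fin N → ρ.ker := fun i => if i ∈ F then z i else ⟨_, hq' i⟩
  have hz' : ∀ i, (z' i : Γ) * (fb (π a i) * fa i) = fa (π b i) * fb i := fun i => by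
    by_cases hi : i ∈ F
    · simp only [z', fa, fb, if_pos hi, mem_st.1 (fix i hi haH), mem_st.1 (fix i hi hbH)]
      exact hz i hi
    · simp only [z', if_neg hi]
      exact inv_mul_cancel_right _ _
  refine exists_stem_transfer hp π t ρ hρ χ (gs := Set.univ) Subgroup.closure_univ
    (fun g _ => ⟨f g, hf g⟩) hab hfa hfb hz' ?_
  have hF' : ∏ i ∈ F, χ (z' i) = ∏ i ∈ F, χ (z i) :=
    Finset.prod_congr rfl fun i hi => congrArg χ (if_pos hi)
  rw [← Finset.prod_sdiff F.subset_univ, hF']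
  suffices h : ∏ i ∈ Finset.univ \ F, χ (z' i) = 1 by rwa [h, one_mul]
  rw [← Finset.prod_fiberwise_of_maps_to (g := r) (t := Finset.univ) (fun i _ => Finset.mem_univ _)]
  refine Finset.prod_eq_one fun R _ => ?_
  by_cases hR : R ∈ F
  · refine Finset.prod_eq_one fun i hi => ?_
    simp only [Finset.mem_filter, Finset.mem_sdiff, Finset.mem_univ, true_and] at hi
    exact absurd (hi.2.symm ▸ hR) (rF i hi.1)
  · let C : Subgroup G := (H ⊓ st R).map (MulAut.conj (t0 R)⁻¹).toMonoidHom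
    have hC : IsCyclic C := by
      rcases cyclic_or_eq hq (H := H) (inf_le_left : H ⊓ st R ≤ H) (card_pair_dvd hq hab ha hb) with h | h
      · exact isCyclic_of_surjective _ (MonoidHom.subgroupMap_surjective _ _)
      · refine absurd ?_ hR
        have hle : H ≤ st R := inf_eq_left.1 h
        exact (hF R).2 ⟨mem_st.1 (hle haH), mem_st.1 (hle hbH)⟩
    have hmem : ∀ g ∈ H, ∀ i, i ∉ F → r i = R → (t (π g i))⁻¹ * g * t i ∈ C := by
      intro g hg i hi hri
      refine Subgroup.mem_map.2 ⟨(e (π g i))⁻¹ * g * e i,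
        Subgroup.mem_inf.2 ⟨mul_mem (mul_mem (inv_mem (heH _)) hg) (heH i), mem_st.2 ?_⟩, ?_⟩
      · rw [map_mul, map_mul, map_inv, Equiv.Perm.mul_apply, Equiv.Perm.mul_apply, ← hri, he,
          Equiv.Perm.inv_def, Equiv.symm_apply_eq]
        conv_rhs => rw [← r_eq g hg i]
        exact (he _).symm
      · simp only [t, if_neg hi, if_neg (fun h => hi ((memF' g hg i).1 h)), r_eq g hg, hri,
          MulEquiv.coe_toMonoidHom, MulAut.conj_apply]
        group
    refine prod_ker_eq_one (C.comap ρ) (comm_of_cyclic hρ hC) χ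
      (fun x hx y _ => (Subgroup.mem_center_iff.1 (hρ hx) y).symm) _ (π a) (π b) ?_ ?_ fa fb ?_ ?_ z' fun i _ => hz' i
    · intro i; simp [r_eq a haH, memF' a haH]
    · intro i; simp [r_eq b hbH, memF' b hbH]
    · intro i hi
      simp only [Finset.mem_filter, Finset.mem_sdiff, Finset.mem_univ, true_and] at hi
      rw [Subgroup.mem_comap, hfa]; exact hmem a haH i hi.1 hi.2
    · intro i hi
      simp only [Finset.mem_filter, Finset.mem_sdiff, Finset.mem_univ, true_and] at hi
      rw [Subgroup.mem_comap, hfb]; exact hmem b hbH i hi.1 hi.2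

end Cfsg.Agent.Grp.SchurM
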